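import Cfsg.Agent.Leech.Co0Order
import Cfsg.Agent.Leech.LatticeBasis
import Cfsg.Agent.Schur.PcCover

/-!
Automorphisms of the lattice from integer matrices, and products followed on packed rows.

A matrix `R` stands for the map sending `8 e_i` to row `i`; packed rows are linear, so a product costs
one integer combination per row.
-/

set_option autoImplicit false

namespace CfsgLib.CoOneMult

open Cfsg CfsgLib.Mathieu CfsgLib.Leech
open CfsgLib.Schur.Pc (ev)

/-- Rows of a matrix. -/
abbrev Rows := List (List ℤ)

/-- An entry. -/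
def ent (R : Rows) (i j : ℕ) : ℤ := (R.getD i []).getD j 0

/-- A sum over the 24 indices. -/
def sum24 (f : ℕ → ℤ) : ℤ := ((List.range 24).map f).sum

theorem sum24_eq (f : ℕ → ℤ) : sum24 f = ∑ i ∈ Finset.range 24, f i := by
  rw [sum24, ← List.sum_toFinset _ List.nodup_range, List.toFinset_range]

theorem sum_pts (f : GolayPt → ℤ) : ∑ p, f p = sum24 fun i => f (pt i) := by
  rw [sum24_eq, ← Fin.sum_univ_eq_sum_range (fun i => f (pt i))]
  exact (Fintype.sum_equiv enc.symm _ _ (fun i => rfl)).symm

/-- The image multiplied by eight. -/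
def img8 (R : Rows) : (GolayPt → ℤ) →+ (GolayPt → ℤ) where
  toFun x p := ∑ q, x q * ent R (idx q) (idx p)
  map_zero' := by funext p; simp
  map_add' x y := by funext p; simp [add_mul, Finset.sum_add_distrib]

theorem img8_apply (R : Rows) (x : GolayPt → ℤ) (p : GolayPt) :
    img8 R x p = ∑ q, x q * ent R (idx q) (idx p) := rfl

/-- The image multiplied by eight, on lists. -/
def image8 (R : Rows) (l : List ℤ) : List ℤ :=
  (List.range 24).map fun j => sum24 fun i => l.getD i 0 * ent R i j

theorem img8_vec (R : Rows) (l : List ℤ) : img8 R (vec l) = vec (image8 R l) := by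
  funext p
  rw [img8_apply, sum_pts, image8, vec_map_range]
  refine congrArg List.sum (List.map_congr_left fun i hi => ?_)
  rw [vec, idx_pt (List.mem_range.1 hi)]

/-- The basis goes into the lattice. -/
def basisOK (R : Rows) : Bool :=
  basisList.all fun b => (image8 R b).all (fun y => y % 8 == 0) &&
    leechB (vec ((image8 R b).map (· / 8)))

/-- `T` is the transpose and the rows are orthogonal. -/
def orthOK (R T : Rows) : Bool :=
  allBelow 24 fun i => allBelow 24 fun j => ent T i j == ent R j i &&
    sum24 (fun k => ent R i k * ent R j k) == (if i = j then 64 else 0)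

/-- A product of two lists. -/
def dotL : List ℤ → List ℤ → ℤ
  | a :: r, s :: S => a * s + dotL r S
  | _, _ => 0

theorem dotL_eq : ∀ (r S : List ℤ), r.length = S.length →
    dotL r S = ∑ j ∈ Finset.range S.length, r.getD j 0 * S.getD j 0
  | [], [], _ => rfl
  | a :: r, s :: S, h => by
    rw [dotL, List.length_cons, Finset.sum_range_succ', dotL_eq r S (by simpa using h), add_comm]
    rfl

/-- The shape of the rows. -/
def shapeOK (R : Rows) : Bool := R.length == 24 && R.all fun r => r.length == 24

/-- `T` is the transpose of `R`. -/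
def transOK (R T : Rows) : Bool :=
  allBelow 24 fun i => allBelow 24 fun j => ent T i j == ent R j i

/-- The basis goes into the lattice, by the columns. -/
def basisFast (T : Rows) : Bool :=
  basisList.all fun b => let y := T.map (dotL b)
    y.all (fun z => z % 8 == 0) && leechB (vec (y.map (· / 8)))

/-- The rows are orthogonal, by lists. -/
def orthFast (R : Rows) : Bool :=
  allBelow 24 fun i => allBelow 24 fun j =>
    dotL (R.getD i []) (R.getD j []) == if i = j then 64 else 0

/-- All checks of one matrix. -/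
def matOK (d : Rows × Rows) : Bool :=
  shapeOK d.1 && shapeOK d.2 && transOK d.1 d.2 &&
    (basisFast d.2 && basisFast d.1 && orthFast d.1 && orthFast d.2)

theorem shape_row {R : Rows} (h : shapeOK R = true) {i : ℕ} (hi : i < 24) :
    (R.getD i []).length = 24 := by
  simp only [shapeOK, Bool.and_eq_true, beq_iff_eq, List.all_eq_true] at h
  rw [List.getD_eq_getElem _ _ (h.1.symm ▸ hi)]
  exact h.2 _ (List.getElem_mem _)

theorem basisOK_of_fast {R T : Rows} (hT : shapeOK T = true) (ht : transOK R T = true)
    (h : basisFast T = true) : basisOK R = true := by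
  simp only [basisFast, List.all_eq_true, Bool.and_eq_true] at h
  simp only [basisOK, List.all_eq_true, Bool.and_eq_true]
  intro b hb
  have hlen : b.length = 24 := (by decide +kernel : ∀ b ∈ basisList, b.length = 24) b hb
  have e : image8 R b = T.map (dotL b) := by
    have hT' := hT
    simp only [shapeOK, Bool.and_eq_true, beq_iff_eq] at hT'
    refine List.ext_getElem (by simp [image8, hT'.1]) fun j h1 h2 => ?_
    have hj : j < T.length := by simpa using h2
    have hj' : j < 24 := hT'.1 ▸ hj
    have hrow : T[j].length = 24 := by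
      have := shape_row hT hj'
      rwa [List.getD_eq_getElem _ _ hj] at this
    simp only [image8, List.getElem_map, List.getElem_range]
    rw [dotL_eq _ _ (hlen.trans hrow.symm), hrow, sum24_eq]
    refine Finset.sum_congr rfl fun i hi => ?_
    simp only [transOK, allBelow_iff, beq_iff_eq] at ht
    rw [← ht j hj' i (Finset.mem_range.1 hi), ent, List.getD_eq_getElem _ _ hj]
  rw [e]
  exact ⟨fun y hy => (h b hb).1 y hy, (h b hb).2⟩

theorem orthOK_of_fast {R T : Rows} (hR : shapeOK R = true) (ht : transOK R T = true)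
    (h : orthFast R = true) : orthOK R T = true := by
  simp only [transOK, orthFast, allBelow_iff, beq_iff_eq] at ht h
  simp only [orthOK, allBelow_iff, Bool.and_eq_true, beq_iff_eq]
  intro i hi j hj
  refine ⟨ht i hi j hj, ?_⟩
  rw [← h i hi j hj, dotL_eq _ _ ((shape_row hR hi).trans (shape_row hR hj).symm),
    shape_row hR hj, sum24_eq]
  rfl

theorem matOK_spec {d : Rows × Rows} (h : matOK d = true) :
    (((basisOK d.1 = true ∧ basisOK d.2 = true) ∧ orthOK d.1 d.2 = true) ∧
      orthOK d.2 d.1 = true) ∧ shapeOK d.1 = true := by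
  simp only [matOK, Bool.and_eq_true] at h
  obtain ⟨⟨⟨s1, s2⟩, t1⟩, ⟨⟨b2, b1⟩, o1⟩, o2⟩ := h
  have t2 : transOK d.2 d.1 = true := by
    simp only [transOK, allBelow_iff, beq_iff_eq] at t1 ⊢
    exact fun i hi j hj => (t1 j hj i hi).symm
  exact ⟨⟨⟨⟨basisOK_of_fast s2 t1 b2, basisOK_of_fast s1 t2 b1⟩, orthOK_of_fast s1 t1 o1⟩,
    orthOK_of_fast s2 t2 o2⟩, s1⟩

theorem exists_eighth {R : Rows} (h : basisOK R = true) {x : GolayPt → ℤ} (hx : x ∈ leechLattice) :
    ∃ y ∈ leechLattice, img8 R x = (8 : ℤ) • y := by
  simp only [basisOK, List.all_eq_true, Bool.and_eq_true, beq_iff_eq] at h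
  have hb : ∀ k : Fin 24, ∃ y ∈ leechLattice, img8 R (basisVec k) = (8 : ℤ) • y := by
    intro k
    have hk : k.val < basisList.length := k.isLt.trans_le (by decide)
    obtain ⟨h1, h2⟩ := h _ (List.getElem_mem hk)
    refine ⟨_, leechB_iff.1 h2, ?_⟩
    rw [basisVec, List.getD_eq_getElem _ _ hk, img8_vec]
    funext p
    have hl : idx p < (image8 R basisList[k.val]).length := by simp [image8, idx_lt p]
    have h8 := h1 _ (List.getElem_mem hl)
    simp only [vec, Pi.smul_apply, smul_eq_mul, List.getD_eq_getElem?_getD, List.getElem?_map,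
      List.getElem?_eq_getElem hl, Option.map_some, Option.getD_some]
    omega
  choose y hy he using hb
  obtain ⟨a, rfl⟩ := exists_linComb hx
  refine ⟨∑ k, a k • y k, sum_mem fun k _ => zsmul_mem (hy k) _, ?_⟩
  rw [linComb_apply, map_sum, Finset.smul_sum]
  exact Finset.sum_congr rfl fun k _ => by rw [map_zsmul, he, smul_comm]

/-- The map of a matrix. -/
def matFun (R : Rows) (x : GolayPt → ℤ) : GolayPt → ℤ := fun p => img8 R x p / 8

theorem matFun_spec {R : Rows} (h : basisOK R = true) {x : GolayPt → ℤ} (hx : x ∈ leechLattice) :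
    matFun R x ∈ leechLattice ∧ (8 : ℤ) • matFun R x = img8 R x := by
  obtain ⟨y, hy, e⟩ := exists_eighth h hx
  have hf : matFun R x = y := funext fun p => by
    simp only [matFun, e, Pi.smul_apply, smul_eq_mul]; omega
  rw [hf]
  exact ⟨hy, e.symm⟩

theorem orth_sum {R T : Rows} (h : orthOK R T = true) (r p : GolayPt) :
    ∑ q, ent R (idx r) (idx q) * ent R (idx p) (idx q) = if r = p then 64 else 0 := by
  simp only [orthOK, allBelow_iff, Bool.and_eq_true, beq_iff_eq] at h
  have e := (h _ (idx_lt r) _ (idx_lt p)).2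
  rw [sum_pts]
  by_cases hrp : r = p
  · subst hrp
    rw [if_pos rfl] at e ⊢
    refine Eq.trans (congrArg List.sum (List.map_congr_left fun i hi => ?_)) e
    rw [idx_pt (List.mem_range.1 hi)]
  · rw [if_neg (fun hc => hrp (idx_injective hc))] at e
    rw [if_neg hrp]
    refine Eq.trans (congrArg List.sum (List.map_congr_left fun i hi => ?_)) e
    rw [idx_pt (List.mem_range.1 hi)]

theorem img8_img8 {R T : Rows} (h : orthOK R T = true) (x : GolayPt → ℤ) :
    img8 T (img8 R x) = (64 : ℤ) • x := by
  funext p
  have ht : ∀ q, ent T (idx q) (idx p) = ent R (idx p) (idx q) := fun q => by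
    simp only [orthOK, allBelow_iff, Bool.and_eq_true, beq_iff_eq] at h
    exact (h _ (idx_lt q) _ (idx_lt p)).1
  simp only [img8_apply, Finset.sum_mul, mul_assoc, ht]
  rw [Finset.sum_comm]
  simp only [← Finset.mul_sum, orth_sum h, mul_ite, mul_zero, Finset.sum_ite_eq', Finset.mem_univ,
    if_true, Pi.smul_apply, smul_eq_mul]
  ring

theorem sqNorm_img8 {R T : Rows} (h : orthOK R T = true) (x : GolayPt → ℤ) :
    sqNorm (img8 R x) = 64 * sqNorm x := by
  have e : ∀ p, img8 R x p ^ 2 =
      ∑ q, ∑ r, x q * x r * (ent R (idx q) (idx p) * ent R (idx r) (idx p)) := fun p => by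
    rw [img8_apply, sq, Finset.sum_mul_sum]
    exact Finset.sum_congr rfl fun q _ => Finset.sum_congr rfl fun r _ => by ring
  simp only [sqNorm, e]
  rw [Finset.sum_comm, Finset.mul_sum]
  refine Finset.sum_congr rfl fun q _ => ?_
  rw [Finset.sum_comm]
  simp only [← Finset.mul_sum, orth_sum h, mul_ite, mul_zero, Finset.sum_ite_eq, Finset.mem_univ,
    if_true]
  ring

theorem matFun_matFun {R T : Rows} (hR : basisOK R = true) (hT : basisOK T = true)
    (ho : orthOK R T = true) {x : GolayPt → ℤ} (hx : x ∈ leechLattice) :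
    matFun T (matFun R x) = x := by
  obtain ⟨h1, e1⟩ := matFun_spec hR hx
  obtain ⟨-, e2⟩ := matFun_spec hT h1
  have e3 : (64 : ℤ) • matFun T (matFun R x) = (64 : ℤ) • x := by
    rw [← img8_img8 ho x, ← e1, map_zsmul, ← e2, smul_smul]
    norm_num
  funext p
  have := congrFun e3 p
  simp only [Pi.smul_apply, smul_eq_mul] at this
  omega

/-- The automorphism of a checked matrix, the identity otherwise. -/
def elOf (d : Rows × Rows) : Co0 :=
  if h : matOK d = true then
    have h' : ((basisOK d.1 = true ∧ basisOK d.2 = true) ∧ orthOK d.1 d.2 = true) ∧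
        orthOK d.2 d.1 = true := (matOK_spec h).1
    mkCo0 (matFun d.1) (matFun d.2) (fun _ hx => (matFun_spec h'.1.1.1 hx).1)
      (fun _ hx => (matFun_spec h'.1.1.2 hx).1)
      (fun x hx y hy => by
        have e1 := (matFun_spec h'.1.1.1 hx).2
        have e2 := (matFun_spec h'.1.1.1 hy).2
        have e3 := (matFun_spec h'.1.1.1 (add_mem hx hy)).2
        rw [map_add, ← e1, ← e2] at e3
        funext p
        have := congrFun e3 p
        simp only [Pi.smul_apply, smul_eq_mul, Pi.add_apply] at this ⊢
        omega)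
      (fun x hx => by
        have e := sqNorm_img8 h'.1.2 x
        rw [← (matFun_spec h'.1.1.1 hx).2] at e
        simp only [sqNorm, Pi.smul_apply, smul_eq_mul, mul_pow, ← Finset.mul_sum] at e ⊢
        omega)
      (fun _ hx => matFun_matFun h'.1.1.1 h'.1.1.2 h'.1.2 hx)
      (fun _ hx => matFun_matFun h'.1.1.2 h'.1.1.1 h'.2 hx)
  else 1

theorem elOf_spec {d : Rows × Rows} (h : matOK d = true) (v : leechLattice) :
    (8 : ℤ) • ((elOf d • v : leechLattice) : GolayPt → ℤ) = img8 d.1 (v : GolayPt → ℤ) := by
  have h' : ((basisOK d.1 = true ∧ basisOK d.2 = true) ∧ orthOK d.1 d.2 = true) ∧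
        orthOK d.2 d.1 = true := (matOK_spec h).1
  rw [elOf, dif_pos h, mkCo0_smul]
  exact (matFun_spec h'.1.1.1 v.2).2

/-! ### Packed rows -/

/-- Horner packing in base 32. -/
def horner (f : ℕ → ℤ) : ℕ → ℕ → ℤ
  | 0, _ => 0
  | n + 1, i => f i + 32 * horner f n (i + 1)

theorem horner_add (f g : ℕ → ℤ) : ∀ n i, horner (fun j => f j + g j) n i = horner f n i + horner g n i
  | 0, _ => rfl
  | n + 1, i => by simp only [horner, horner_add f g n (i + 1)]; ring

theorem horner_inj {f g : ℕ → ℤ} (hf : ∀ j, (f j).natAbs ≤ 15) (hg : ∀ j, (g j).natAbs ≤ 15) :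
    ∀ n i, horner f n i = horner g n i → ∀ j < n, f (i + j) = g (i + j)
  | 0, _, _, j, hj => absurd hj (Nat.not_lt_zero j)
  | n + 1, i, h, j, hj => by
    have := hf i
    have := hg i
    simp only [horner] at h
    have e : f i = g i := by omega
    cases j with
    | zero => exact e
    | succ j =>
      have := horner_inj hf hg n (i + 1) (by omega) j (by omega)
      rwa [Nat.add_right_comm, Nat.add_assoc] at this

/-- A packed vector. -/
def pk : (GolayPt → ℤ) →+ ℤ where
  toFun x := horner (fun i => x (pt i)) 24 0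
  map_zero' := by decide +kernel
  map_add' x y := horner_add _ _ 24 0

theorem pk_inj {x y : GolayPt → ℤ} (hx : sqNorm x ≤ 80) (hy : sqNorm y ≤ 80) (h : pk x = pk y) :
    x = y := by
  funext p
  have h1 := fun q => natAbs_le_eight hx q
  have h2 := fun q => natAbs_le_eight hy q
  have := horner_inj (f := fun i => x (pt i)) (g := fun i => y (pt i))
    (fun j => (h1 (pt j)).trans (by omega)) (fun j => (h2 (pt j)).trans (by omega)) 24 0 h (idx p)
    (idx_lt p)
  simpa [pt_idx] using this

/-- The packed images of the vectors `8 e_i`. -/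
def stOf (g : Co0) : List ℤ :=
  (List.range 24).map fun i => pk ((g • eightL (pt i) : leechLattice) : GolayPt → ℤ)

/-- The packed unit rows. -/
def initSt : List ℤ := (List.range 24).map fun i => 8 * (32 : ℤ) ^ i

theorem stOf_one : stOf 1 = initSt :=
  List.map_congr_left fun i hi => by
    rw [one_smul]
    exact (by decide +kernel : ∀ i < 24, pk (eight (pt i)) = 8 * (32 : ℤ) ^ i) i
      (List.mem_range.1 hi)

/-- Multiply by a matrix from the right. -/
def stepSt (R : Rows) (S : List ℤ) : List ℤ :=
  (List.range 24).map fun i => sum24 (fun j => ent R i j * S.getD j 0) / 8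

theorem sum_smul_eight (c : GolayPt → ℤ) (p : GolayPt) :
    ((∑ q, c q • eightL q : leechLattice) : GolayPt → ℤ) p = 8 * c p := by
  rw [AddSubmonoidClass.coe_finsetSum, Finset.sum_apply]
  simp [eightL, eight, Pi.single_apply, mul_comm]

theorem stOf_mul {d : Rows × Rows} (h : matOK d = true) (g : Co0) :
    stOf (g * elOf d) = stepSt d.1 (stOf g) := by
  refine List.map_congr_left fun i hi => ?_
  have hi' := List.mem_range.1 hi
  have e : (8 : ℤ) • (elOf d • eightL (pt i)) = ∑ q, ent d.1 i (idx q) • eightL q := by
    refine Subtype.ext (funext fun p => ?_)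
    rw [sum_smul_eight, AddSubgroupClass.coe_zsmul, elOf_spec h, img8_apply]
    simp [eightL, eight, Pi.single_apply, idx_pt hi']
  have e2 := congrArg (fun v => pk (((co0Hom g) v : leechLattice) : GolayPt → ℤ)) e
  simp only [map_zsmul, map_sum, AddSubgroupClass.coe_zsmul, AddSubmonoidClass.coe_finsetSum]
    at e2
  simp only [co0Hom, AddMonoidHom.mk'_apply, smul_smul] at e2
  have e3 : sum24 (fun j => ent d.1 i j * (stOf g).getD j 0) =
      ∑ q, ent d.1 i (idx q) • pk ((g • eightL q : leechLattice) : GolayPt → ℤ) := by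
    rw [sum_pts]
    refine congrArg List.sum (List.map_congr_left fun j hj => ?_)
    rw [stOf, getD_map_range _ (List.mem_range.1 hj), idx_pt (List.mem_range.1 hj), smul_eq_mul]
  rw [e3, ← e2, smul_eq_mul, Int.mul_ediv_cancel_left _ (by norm_num)]

theorem stOf_ext {g h : Co0} (e : stOf g = stOf h) : g = h := by
  have key : ∀ p, g • eightL p = h • eightL p := by
    intro p
    have e1 := congrArg (fun l => l.getD (idx p) 0) e
    simp only [stOf, getD_map_range _ (idx_lt p), pt_idx] at e1
    refine Subtype.ext (pk_inj ?_ ?_ e1) <;>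
    · rw [co0_norm, eightL, sqNorm_eight]; norm_num
  refine co0_ext fun v => Subtype.ext (funext fun p => ?_)
  have ev8 : (8 : ℤ) • v = ∑ q, (v : GolayPt → ℤ) q • eightL q :=
    Subtype.ext (funext fun q => by rw [sum_smul_eight]; simp)
  have e2 : (8 : ℤ) • (g • v) = (8 : ℤ) • (h • v) := by
    rw [← co0_zsmul, ← co0_zsmul, ev8]
    change co0Hom g _ = co0Hom h _
    simp only [map_sum, map_zsmul]
    exact Finset.sum_congr rfl fun q _ => congrArg _ (key q)
  have := congrFun (congrArg Subtype.val e2) p
  simp only [AddSubgroupClass.coe_zsmul, Pi.smul_apply, smul_eq_mul] at this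
  omega

/-! ### Words -/

/-- Multiply by a matrix from the right, by lists. -/
def stepFast (R : Rows) (S : List ℤ) : List ℤ := R.map fun r => dotL r S / 8

theorem stepFast_eq {R : Rows} (h : shapeOK R = true) {S : List ℤ} (hS : S.length = 24) :
    stepFast R S = stepSt R S := by
  simp only [shapeOK, Bool.and_eq_true, beq_iff_eq, List.all_eq_true] at h
  refine List.ext_getElem (by simp [stepFast, stepSt, h.1]) fun i h1 h2 => ?_
  have hi : i < R.length := by simpa [stepFast] using h1
  simp only [stepFast, stepSt, List.getElem_map, List.getElem_range]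
  rw [dotL_eq _ _ ((h.2 _ (List.getElem_mem hi)).trans hS.symm), hS, sum24_eq]
  congr 1
  refine Finset.sum_congr rfl fun j _ => ?_
  rw [ent, List.getD_eq_getElem _ _ hi]

/-- The elements of a table. -/
def elsOf (D : List (Rows × Rows)) (i : ℕ) : Co0 := elOf (D.getD i ([], []))

/-- The packed rows of a word. -/
def wordSt (D : List (Rows × Rows)) (w : List ℕ) : List ℤ :=
  w.foldl (fun S a => stepFast (D.getD a ([], [])).1 S) initSt

/-- The letters are in the table. -/
def inRange (D : List (Rows × Rows)) (w : List ℕ) : Bool := w.all fun a => Nat.blt a D.length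

theorem foldl_stOf {D : List (Rows × Rows)} (hD : D.all matOK = true) :
    ∀ (w : List ℕ), inRange D w = true → ∀ g : Co0,
      w.foldl (fun S a => stepFast (D.getD a ([], [])).1 S) (stOf g) = stOf (g * ev (elsOf D) w)
  | [], _, g => by simp
  | a :: w, h, g => by
    simp only [inRange, List.all_cons, Bool.and_eq_true] at h
    have ha : a < D.length := Nat.le_of_ble_eq_true h.1
    have hok : matOK (D.getD a ([], [])) = true := by
      rw [List.getD_eq_getElem _ _ ha]
      exact List.all_eq_true.1 hD _ (List.getElem_mem ha)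
    have hs : shapeOK (D.getD a ([], [])).1 = true := (matOK_spec hok).2
    rw [List.foldl_cons, stepFast_eq hs (by simp [stOf]), ← stOf_mul hok, foldl_stOf hD w h.2,
      Schur.Pc.ev_cons, mul_assoc]
    rfl

theorem wordSt_spec {D : List (Rows × Rows)} (hD : D.all matOK = true) {w : List ℕ}
    (h : inRange D w = true) : wordSt D w = stOf (ev (elsOf D) w) := by
  rw [wordSt, ← stOf_one, foldl_stOf hD w h, one_mul]

/-- Two words give the same element. -/
def same (D : List (Rows × Rows)) (u v : List ℕ) : Bool :=
  inRange D u && inRange D v && wordSt D u == wordSt D v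

theorem ev_eq_of_same {D : List (Rows × Rows)} (hD : D.all matOK = true) {u v : List ℕ}
    (h : same D u v = true) : ev (elsOf D) u = ev (elsOf D) v := by
  simp only [same, Bool.and_eq_true, beq_iff_eq] at h
  refine stOf_ext ?_
  rw [← wordSt_spec hD h.1.1, ← wordSt_spec hD h.1.2, h.2]

end CfsgLib.CoOneMult
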