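import Cfsg.Agent.Schur.PcCover

/-!
Data: a Sylow 5-subgroup of the lattice group by matrices (each with its transpose), elements giving
fusion, and the certificate for the multiplier.
-/

set_option autoImplicit false
set_option maxRecDepth 20000

namespace CfsgLib.CoOneMult.FiveData

/-- A matrix. -/
def m0 : List (List ℤ) :=
  [[0, -2, -2, 0, 0, 4, 0, 0, 2, 0, -2, 0, -2, 2, 0, 0, -2, 0, 0, 0, -2, 0, 0, -4],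
   [2, 0, 0, -2, -2, -2, -2, 2, 0, 2, 0, 2, 0, 0, -2, 2, 0, 2, -2, 2, 0, -2, 2, -2],
   [0, -2, -2, 0, 0, 0, 4, 0, 2, 4, 2, 0, 2, -2, 0, 0, -2, 0, 0, 0, 2, 0, 0, 0],
   [0, -2, 2, 0, 0, 0, 0, 0, 2, 0, -2, -4, 2, -2, -4, 0, 2, 0, 0, 0, -2, 0, 0, 0],
   [0, -2, 2, -4, 0, 0, 0, 0, -2, 0, 2, 0, 2, 2, 0, -4, -2, 0, 0, 0, -2, 0, 0, 0],
   [0, 2, 2, 0, 4, 0, 0, 0, 2, 0, -2, 0, 2, 2, 0, 0, -2, 0, 0, 0, 2, -4, 0, 0],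
   [2, 0, 0, -2, 2, -2, -2, -2, 0, 2, 0, -2, 0, 0, 2, 2, 0, -2, 2, 2, 0, 2, -2, -2],
   [-2, 0, 0, -2, -2, -2, 2, -2, 0, -2, 0, 2, 0, 0, -2, 2, 0, -2, 2, -2, 0, -2, -2, -2],
   [-4, 2, -2, 0, 0, 0, 0, 0, 2, 0, 2, 0, 2, 2, 0, 0, 2, 0, 0, 4, -2, 0, 0, 0],
   [2, 0, 0, 2, 2, -2, 2, 2, 0, -2, 0, 2, 0, 0, -2, -2, 0, -2, -2, 2, 0, 2, -2, -2],
   [0, 2, 2, 0, 0, 0, 4, 0, -2, 4, -2, 0, -2, 2, 0, 0, 2, 0, 0, 0, -2, 0, 0, 0],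
   [-2, 0, 0, -2, 2, -2, 2, 2, 0, -2, 0, -2, 0, 0, 2, 2, 0, 2, -2, -2, 0, 2, 2, -2],
   [0, -2, -2, 0, 4, 0, 0, 0, -2, 0, 2, 0, -2, -2, 0, 0, 2, 0, 0, 0, -2, -4, 0, 0],
   [0, -2, 2, 4, 0, 0, 0, 0, -2, 0, 2, 0, 2, 2, 0, 4, -2, 0, 0, 0, -2, 0, 0, 0],
   [0, 2, 2, 0, 0, 0, 0, -4, 2, 0, 2, 0, -2, -2, 0, 0, -2, 0, -4, 0, -2, 0, 0, 0],
   [-4, -2, 2, 0, 0, 0, 0, 0, -2, 0, -2, 0, -2, -2, 0, 0, -2, 0, 0, 4, 2, 0, 0, 0],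
   [2, 0, 0, -2, -2, 2, 2, 2, 0, -2, 0, -2, 0, 0, 2, 2, 0, -2, -2, 2, 0, -2, -2, 2],
   [-2, 0, 0, 2, -2, -2, -2, 2, 0, 2, 0, -2, 0, 0, 2, -2, 0, -2, -2, -2, 0, -2, -2, -2],
   [0, -2, -2, 0, 0, -4, 0, 0, 2, 0, -2, 0, -2, 2, 0, 0, -2, 0, 0, 0, -2, 0, 0, 4],
   [0, 2, -2, 0, 0, 0, 0, 0, -2, 0, -2, 0, 2, -2, 0, 0, -2, 4, 0, 0, -2, 0, -4, 0],
   [0, 2, 2, 0, 0, 0, 0, 4, 2, 0, 2, 0, -2, -2, 0, 0, -2, 0, 4, 0, -2, 0, 0, 0],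
   [-2, 0, 0, -2, 2, 2, -2, 2, 0, 2, 0, 2, 0, 0, -2, 2, 0, -2, -2, -2, 0, 2, -2, 2],
   [0, 2, -2, 0, 0, 0, 0, 0, -2, 0, -2, 0, 2, -2, 0, 0, -2, -4, 0, 0, -2, 0, 4, 0],
   [0, 2, -2, 0, 0, 0, 0, 0, -2, 0, 2, -4, -2, 2, -4, 0, -2, 0, 0, 0, 2, 0, 0, 0]]

/-- Its transpose. -/
def t0 : List (List ℤ) :=
  [[0, 2, 0, 0, 0, 0, 2, -2, -4, 2, 0, -2, 0, 0, 0, -4, 2, -2, 0, 0, 0, -2, 0, 0],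
   [-2, 0, -2, -2, -2, 2, 0, 0, 2, 0, 2, 0, -2, -2, 2, -2, 0, 0, -2, 2, 2, 0, 2, 2],
   [-2, 0, -2, 2, 2, 2, 0, 0, -2, 0, 2, 0, -2, 2, 2, 2, 0, 0, -2, -2, 2, 0, -2, -2],
   [0, -2, 0, 0, -4, 0, -2, -2, 0, 2, 0, -2, 0, 4, 0, 0, -2, 2, 0, 0, 0, -2, 0, 0],
   [0, -2, 0, 0, 0, 4, 2, -2, 0, 2, 0, 2, 4, 0, 0, 0, -2, -2, 0, 0, 0, 2, 0, 0],
   [4, -2, 0, 0, 0, 0, -2, -2, 0, -2, 0, -2, 0, 0, 0, 0, 2, -2, -4, 0, 0, 2, 0, 0],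
   [0, -2, 4, 0, 0, 0, -2, 2, 0, 2, 4, 2, 0, 0, 0, 0, 2, -2, 0, 0, 0, -2, 0, 0],
   [0, 2, 0, 0, 0, 0, -2, -2, 0, 2, 0, 2, 0, 0, -4, 0, 2, 2, 0, 0, 4, 2, 0, 0],
   [2, 0, 2, 2, -2, 2, 0, 0, 2, 0, -2, 0, -2, -2, 2, -2, 0, 0, 2, -2, 2, 0, -2, -2],
   [0, 2, 4, 0, 0, 0, 2, -2, 0, -2, 4, -2, 0, 0, 0, 0, -2, 2, 0, 0, 0, 2, 0, 0],
   [-2, 0, 2, -2, 2, -2, 0, 0, 2, 0, -2, 0, 2, 2, 2, -2, 0, 0, -2, -2, 2, 0, -2, 2],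
   [0, 2, 0, -4, 0, 0, -2, 2, 0, 2, 0, -2, 0, 0, 0, 0, -2, -2, 0, 0, 0, 2, 0, -4],
   [-2, 0, 2, 2, 2, 2, 0, 0, 2, 0, -2, 0, -2, 2, -2, -2, 0, 0, -2, 2, -2, 0, 2, -2],
   [2, 0, -2, -2, 2, 2, 0, 0, 2, 0, 2, 0, -2, 2, -2, -2, 0, 0, 2, -2, -2, 0, -2, 2],
   [0, -2, 0, -4, 0, 0, 2, -2, 0, -2, 0, 2, 0, 0, 0, 0, 2, 2, 0, 0, 0, -2, 0, -4],
   [0, 2, 0, 0, -4, 0, 2, 2, 0, -2, 0, 2, 0, 4, 0, 0, 2, -2, 0, 0, 0, 2, 0, 0],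
   [-2, 0, -2, 2, -2, -2, 0, 0, 2, 0, 2, 0, 2, -2, -2, -2, 0, 0, -2, -2, -2, 0, -2, -2],
   [0, 2, 0, 0, 0, 0, -2, -2, 0, -2, 0, 2, 0, 0, 0, 0, -2, -2, 0, 4, 0, -2, -4, 0],
   [0, -2, 0, 0, 0, 0, 2, 2, 0, -2, 0, -2, 0, 0, -4, 0, -2, -2, 0, 0, 4, -2, 0, 0],
   [0, 2, 0, 0, 0, 0, 2, -2, 4, 2, 0, -2, 0, 0, 0, 4, 2, -2, 0, 0, 0, -2, 0, 0],
   [-2, 0, 2, -2, -2, 2, 0, 0, -2, 0, -2, 0, -2, -2, -2, 2, 0, 0, -2, -2, -2, 0, -2, 2],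
   [0, -2, 0, 0, 0, -4, 2, -2, 0, 2, 0, 2, -4, 0, 0, 0, -2, -2, 0, 0, 0, 2, 0, 0],
   [0, 2, 0, 0, 0, 0, -2, -2, 0, -2, 0, 2, 0, 0, 0, 0, -2, -2, 0, -4, 0, -2, 4, 0],
   [-4, -2, 0, 0, 0, 0, -2, -2, 0, -2, 0, -2, 0, 0, 0, 0, 2, -2, 4, 0, 0, 2, 0, 0]]

/-- A matrix. -/
def m1 : List (List ℤ) :=
  [[-2, -2, 0, -2, 0, -2, -2, 0, 0, 0, 2, 0, 0, 2, -2, 2, 2, -2, 0, 2, 0, 0, 0, 4],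
   [-2, -2, 0, 2, 0, 2, -2, 0, 0, 0, -2, 4, 0, -2, -2, 2, 2, 2, 0, -2, 0, 0, 0, 0],
   [0, 0, -2, 0, -2, 0, 0, -2, 2, -2, -4, -2, -2, 0, 0, 0, 0, 0, 2, 0, 2, 2, -2, 2],
   [2, 2, 0, -2, 0, -2, -2, 0, 0, 0, 2, 0, 0, -2, -2, -2, 2, 2, 4, -2, 0, 0, 0, 0],
   [0, 0, -2, 0, -2, 0, 0, 2, 2, 2, 0, -2, -2, 0, -4, 0, 0, 0, -2, 0, -2, 2, 2, -2],
   [2, -2, 0, 2, 0, -2, -2, 0, 0, 0, 2, 0, 0, -2, 2, 2, -2, -2, 0, -2, 0, 4, 0, 0],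
   [-2, 2, 0, -2, 0, -2, -2, 0, 0, 4, -2, 0, 0, -2, 2, 2, -2, 2, 0, 2, 0, 0, 0, 0],
   [0, 0, -2, 0, -2, 0, 0, -2, -2, 2, 0, 2, 2, 0, 0, -4, 0, 0, -2, 0, -2, 2, -2, 2],
   [0, 0, -2, -4, 2, 0, 0, 2, -2, -2, 0, 2, -2, 0, 0, 0, 0, 0, -2, 0, 2, 2, -2, -2],
   [0, 0, 2, 0, -2, 0, -4, -2, -2, -2, 0, -2, -2, 0, 0, 0, 0, 0, -2, 0, -2, -2, -2, -2],
   [-2, -2, 4, -2, 0, -2, 2, 0, 0, 0, -2, 0, 0, -2, -2, -2, -2, -2, 0, -2, 0, 0, 0, 0],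
   [0, 0, -2, 0, 2, 0, 0, -2, -2, 2, 0, -2, -2, 0, 0, 0, 0, 0, -2, -4, 2, -2, 2, 2],
   [0, 0, -2, 0, 2, 0, 0, -2, 2, 2, 0, 2, -2, 0, 0, 0, 0, -4, 2, 0, -2, -2, -2, -2],
   [-2, 2, 0, 2, 0, 2, -2, 0, 0, 0, 2, 0, 0, -2, -2, -2, -2, -2, 0, 2, 4, 0, 0, 0],
   [2, 2, 0, -2, 0, 2, -2, 0, 0, 0, -2, 0, 4, 2, -2, 2, -2, -2, 0, -2, 0, 0, 0, 0],
   [2, -2, 0, 2, 4, -2, -2, 0, 0, 0, -2, 0, 0, 2, -2, -2, -2, 2, 0, 2, 0, 0, 0, 0],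
   [-2, -2, 0, -2, 0, 2, -2, 0, 4, 0, 2, 0, 0, 2, 2, -2, -2, 2, 0, -2, 0, 0, 0, 0],
   [2, -2, 0, -2, 0, 2, -2, 0, 0, 0, -2, 0, 0, -2, 2, -2, 2, -2, 0, 2, 0, 0, 4, 0],
   [0, 0, -2, 0, 2, 0, 0, 2, 2, -2, 0, -2, 2, -4, 0, 0, 0, 0, -2, 0, -2, -2, -2, 2],
   [-2, 2, 0, 2, 0, -2, -2, 4, 0, 0, -2, 0, 0, 2, 2, -2, 2, -2, 0, -2, 0, 0, 0, 0],
   [-4, 0, -2, 0, 2, 0, 0, -2, -2, -2, 0, -2, 2, 0, 0, 0, 0, 0, 2, 0, -2, 2, 2, -2],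
   [0, 0, -2, 0, -2, 0, 0, 2, -2, -2, 0, 2, -2, 0, 0, 0, -4, 0, 2, 0, -2, -2, 2, 2],
   [0, -4, -2, 0, -2, 0, 0, 2, -2, 2, 0, -2, 2, 0, 0, 0, 0, 0, 2, 0, 2, -2, -2, -2],
   [0, 0, -2, 0, -2, -4, 0, -2, 2, -2, 0, 2, 2, 0, 0, 0, 0, 0, -2, 0, 2, -2, 2, -2]]

/-- Its transpose. -/
def t1 : List (List ℤ) :=
  [[-2, -2, 0, 2, 0, 2, -2, 0, 0, 0, -2, 0, 0, -2, 2, 2, -2, 2, 0, -2, -4, 0, 0, 0],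
   [-2, -2, 0, 2, 0, -2, 2, 0, 0, 0, -2, 0, 0, 2, 2, -2, -2, -2, 0, 2, 0, 0, -4, 0],
   [0, 0, -2, 0, -2, 0, 0, -2, -2, 2, 4, -2, -2, 0, 0, 0, 0, 0, -2, 0, -2, -2, -2, -2],
   [-2, 2, 0, -2, 0, 2, -2, 0, -4, 0, -2, 0, 0, 2, -2, 2, -2, -2, 0, 2, 0, 0, 0, 0],
   [0, 0, -2, 0, -2, 0, 0, -2, 2, -2, 0, 2, 2, 0, 0, 4, 0, 0, 2, 0, 2, -2, -2, -2],
   [-2, 2, 0, -2, 0, -2, -2, 0, 0, 0, -2, 0, 0, 2, 2, -2, 2, 2, 0, -2, 0, 0, 0, -4],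
   [-2, -2, 0, -2, 0, -2, -2, 0, 0, -4, 2, 0, 0, -2, -2, -2, -2, -2, 0, -2, 0, 0, 0, 0],
   [0, 0, -2, 0, 2, 0, 0, -2, 2, -2, 0, -2, -2, 0, 0, 0, 0, 0, 2, 4, -2, 2, 2, -2],
   [0, 0, 2, 0, 2, 0, 0, -2, -2, -2, 0, -2, 2, 0, 0, 0, 4, 0, 2, 0, -2, -2, -2, 2],
   [0, 0, -2, 0, 2, 0, 4, 2, -2, -2, 0, 2, 2, 0, 0, 0, 0, 0, -2, 0, -2, -2, 2, -2],
   [2, -2, -4, 2, 0, 2, -2, 0, 0, 0, -2, 0, 0, 2, -2, -2, 2, -2, 0, -2, 0, 0, 0, 0],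
   [0, 4, -2, 0, -2, 0, 0, 2, 2, -2, 0, -2, 2, 0, 0, 0, 0, 0, -2, 0, -2, 2, -2, 2],
   [0, 0, -2, 0, -2, 0, 0, 2, -2, -2, 0, -2, -2, 0, 4, 0, 0, 0, 2, 0, 2, -2, 2, 2],
   [2, -2, 0, -2, 0, -2, -2, 0, 0, 0, -2, 0, 0, -2, 2, 2, 2, -2, -4, 2, 0, 0, 0, 0],
   [-2, -2, 0, -2, -4, 2, 2, 0, 0, 0, -2, 0, 0, -2, -2, -2, 2, 2, 0, 2, 0, 0, 0, 0],
   [2, 2, 0, -2, 0, 2, 2, -4, 0, 0, -2, 0, 0, -2, 2, -2, -2, -2, 0, -2, 0, 0, 0, 0],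
   [2, 2, 0, 2, 0, -2, -2, 0, 0, 0, -2, 0, 0, -2, -2, -2, -2, 2, 0, 2, 0, -4, 0, 0],
   [-2, 2, 0, 2, 0, -2, 2, 0, 0, 0, -2, 0, -4, -2, -2, 2, 2, -2, 0, -2, 0, 0, 0, 0],
   [0, 0, 2, 4, -2, 0, 0, -2, -2, -2, 0, -2, 2, 0, 0, 0, 0, 0, -2, 0, 2, 2, 2, -2],
   [2, -2, 0, -2, 0, -2, 2, 0, 0, 0, -2, -4, 0, 2, -2, 2, -2, 2, 0, -2, 0, 0, 0, 0],
   [0, 0, 2, 0, -2, 0, 0, -2, 2, -2, 0, 2, -2, 4, 0, 0, 0, 0, -2, 0, -2, -2, 2, 2],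
   [0, 0, 2, 0, 2, 4, 0, 2, 2, -2, 0, -2, -2, 0, 0, 0, 0, 0, -2, 0, 2, -2, -2, -2],
   [0, 0, -2, 0, 2, 0, 0, -2, -2, -2, 0, 2, -2, 0, 0, 0, 0, 4, -2, 0, 2, 2, -2, 2],
   [4, 0, 2, 0, -2, 0, 0, 2, -2, -2, 0, 2, -2, 0, 0, 0, 0, 0, 2, 0, -2, 2, -2, -2]]

/-- A matrix. -/
def m2 : List (List ℤ) :=
  [[3, -1, 1, -1, -1, -1, 1, 3, 1, -1, 1, 3, -1, -1, -1, -1, -1, -1, -3, -1, 1, -3, -1, 1],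
   [1, 1, -1, 1, 1, 1, -1, 1, -1, 1, -1, 1, 1, -3, 1, 1, 1, -3, 3, -3, 3, -1, 1, -1],
   [-1, -1, -3, -1, -1, -1, 1, -1, 1, -5, -3, -1, -1, -1, -1, -1, -1, -1, 1, -1, 1, 1, -1, 1],
   [-1, -1, 1, 3, -1, -1, 1, -1, 1, -1, 1, -1, 3, -1, -1, -1, -1, -1, 1, -1, -3, -3, 3, 1],
   [1, 1, -1, 1, 1, 1, -1, -3, -1, 1, -1, 1, -3, -3, -3, -3, 1, 1, -1, 1, -1, -1, 1, -1],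
   [-1, -1, 1, -1, 3, 3, 1, 3, -3, -1, 1, -1, -1, -1, -1, -1, -1, -1, 1, -1, -3, 1, -1, 1],
   [1, 1, 3, 1, 1, 1, -1, 1, -1, -3, -5, 1, 1, 1, 1, 1, 1, 1, -1, 1, -1, -1, 1, -1],
   [1, 1, -1, -3, -3, 1, -1, 1, -1, 1, -1, -3, 1, 1, 1, -3, 1, 1, -1, -3, -1, -1, 1, -1],
   [-3, 1, -1, 1, 1, 1, 3, 1, 3, 1, -1, 1, -3, 1, 1, 1, 1, 1, -1, -3, -1, -1, 1, -1],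
   [3, -1, 1, 3, -1, 3, 1, -1, 1, -1, 1, -1, -1, 3, -1, -1, 3, -1, 1, -1, 1, 1, -1, 1],
   [-1, -1, 5, -1, -1, -1, 1, -1, 1, 3, -3, -1, -1, -1, -1, -1, -1, -1, 1, -1, 1, 1, -1, 1],
   [1, -3, -1, 1, 1, 1, -1, -3, -1, 1, -1, 1, 1, 1, 1, 1, -3, 1, -1, -3, -1, -1, -3, -1],
   [-3, 1, -1, 1, -3, 1, -1, 1, -1, 1, -1, 1, 1, 1, -3, 1, 1, -3, -1, 1, -1, -1, -3, -1],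
   [-1, -1, 1, -1, -1, -1, 1, -1, -3, -1, 1, 3, -1, 3, -1, -1, -1, -1, 1, -1, 1, 1, 3, -3],
   [1, 1, -1, 1, 1, 1, -1, 1, 3, 1, -1, 1, 1, 1, 1, -3, -3, -3, -1, 1, -1, 3, 1, -1],
   [1, 1, -1, 1, 1, -3, -1, 1, -1, 1, -1, 1, 1, 1, -3, 1, 1, 1, -1, -3, -1, 3, 1, 3],
   [-1, -1, 1, -1, 3, -1, 1, -1, 1, -1, 1, -1, 3, -1, -1, -1, 3, -1, -3, -1, 1, 1, -1, -3],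
   [1, -3, -1, -3, 1, 1, -1, 1, 3, 1, -1, 1, 1, 1, -3, 1, 1, 1, 3, 1, -1, -1, 1, -1],
   [1, 1, -1, 1, 1, -3, 3, 1, -1, 1, -1, 1, 1, 1, 1, -3, 1, 1, 3, 1, -1, -1, -3, -1],
   [-3, -3, -1, 1, 1, 1, -1, 1, -1, 1, -1, 1, 1, 1, 1, -3, 1, 1, -1, 1, 3, -1, 1, 3],
   [1, 1, -1, 1, 1, 1, 3, 1, -1, 1, -1, -3, 1, 1, -3, 1, -3, 1, -1, 1, 3, -1, 1, -1],
   [1, -3, -1, 1, -3, 1, 3, 1, -1, 1, -1, 1, 1, -3, 1, 1, 1, 1, -1, 1, -1, 3, 1, -1],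
   [1, -3, -1, 1, 1, -3, -1, 1, -1, 1, -1, -3, -3, 1, 1, 1, 1, -3, -1, 1, -1, -1, 1, -1],
   [1, 1, -1, -3, 1, 1, 3, -3, -1, 1, -1, 1, 1, 1, 1, 1, 1, -3, -1, 1, -1, -1, 1, 3]]

/-- Its transpose. -/
def t2 : List (List ℤ) :=
  [[3, 1, -1, -1, 1, -1, 1, 1, -3, 3, -1, 1, -3, -1, 1, 1, -1, 1, 1, -3, 1, 1, 1, 1],
   [-1, 1, -1, -1, 1, -1, 1, 1, 1, -1, -1, -3, 1, -1, 1, 1, -1, -3, 1, -3, 1, -3, -3, 1],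
   [1, -1, -3, 1, -1, 1, 3, -1, -1, 1, 5, -1, -1, 1, -1, -1, 1, -1, -1, -1, -1, -1, -1, -1],
   [-1, 1, -1, 3, 1, -1, 1, -3, 1, 3, -1, 1, 1, -1, 1, 1, -1, -3, 1, 1, 1, 1, 1, -3],
   [-1, 1, -1, -1, 1, 3, 1, -3, 1, -1, -1, 1, -3, -1, 1, 1, 3, 1, 1, 1, 1, -3, 1, 1],
   [-1, 1, -1, -1, 1, 3, 1, 1, 1, 3, -1, 1, 1, -1, 1, -3, -1, 1, -3, 1, 1, 1, -3, 1],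
   [1, -1, 1, 1, -1, 1, -1, -1, 3, 1, 1, -1, -1, 1, -1, -1, 1, -1, 3, -1, 3, 3, -1, 3],
   [3, 1, -1, -1, -3, 3, 1, 1, 1, -1, -1, -3, 1, -1, 1, 1, -1, 1, 1, 1, 1, 1, 1, -3],
   [1, -1, 1, 1, -1, -3, -1, -1, 3, 1, 1, -1, -1, -3, 3, -1, 1, 3, -1, -1, -1, -1, -1, -1],
   [-1, 1, -5, -1, 1, -1, -3, 1, 1, -1, 3, 1, 1, -1, 1, 1, -1, 1, 1, 1, 1, 1, 1, 1],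
   [1, -1, -3, 1, -1, 1, -5, -1, -1, 1, -3, -1, -1, 1, -1, -1, 1, -1, -1, -1, -1, -1, -1, -1],
   [3, 1, -1, -1, 1, -1, 1, -3, 1, -1, -1, 1, 1, 3, 1, 1, -1, 1, 1, 1, -3, 1, -3, 1],
   [-1, 1, -1, 3, -3, -1, 1, 1, -3, -1, -1, 1, 1, -1, 1, 1, 3, 1, 1, 1, 1, 1, -3, 1],
   [-1, -3, -1, -1, -3, -1, 1, 1, 1, 3, -1, 1, 1, 3, 1, 1, -1, 1, 1, 1, 1, -3, 1, 1],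
   [-1, 1, -1, -1, -3, -1, 1, 1, 1, -1, -1, 1, -3, -1, 1, -3, -1, -3, 1, 1, -3, 1, 1, 1],
   [-1, 1, -1, -1, -3, -1, 1, -3, 1, -1, -1, 1, 1, -1, -3, 1, -1, 1, -3, -3, 1, 1, 1, 1],
   [-1, 1, -1, -1, 1, -1, 1, 1, 1, 3, -1, -3, 1, -1, -3, 1, 3, 1, 1, 1, -3, 1, 1, 1],
   [-1, -3, -1, -1, 1, -1, 1, 1, 1, -1, -1, 1, -3, -1, -3, 1, -1, 1, 1, 1, 1, 1, -3, -3],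
   [-3, 3, 1, 1, -1, 1, -1, -1, -1, 1, 1, -1, -1, 1, -1, -1, -3, 3, 3, -1, -1, -1, -1, -1],
   [-1, -3, -1, -1, 1, -1, 1, -3, -3, -1, -1, -3, 1, -1, 1, -3, -1, 1, 1, 1, 1, 1, 1, 1],
   [1, 3, 1, -3, -1, -3, -1, -1, -1, 1, 1, -1, -1, 1, -1, -1, 1, -1, -1, 3, 3, -1, -1, -1],
   [-3, -1, 1, -3, -1, 1, -1, -1, -1, 1, 1, -1, -1, 1, 3, 3, 1, -1, -1, -1, -1, 3, -1, -1],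
   [-1, 1, -1, 3, 1, -1, 1, 1, 1, -1, -1, -3, -3, 3, 1, 1, -1, 1, -3, 1, 1, 1, 1, 1],
   [1, -1, 1, 1, -1, 1, -1, -1, -1, 1, 1, -1, -1, -3, -1, 3, -3, -1, -1, 3, -1, -1, -1, 3]]

/-- A matrix. -/
def m3 : List (List ℤ) :=
  [[1, 1, 1, -3, -1, -3, -1, -1, -3, -1, -1, 3, -1, 1, 1, 1, 1, 1, 1, 1, 1, -3, -1, 1],
   [-1, -1, 3, -1, 1, 3, 1, 1, -1, 1, 1, 1, 1, -1, -1, 3, -1, -1, 3, -1, -1, -1, -3, -1],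
   [-1, -1, -1, -1, 1, -1, -3, 1, -1, 5, -3, 1, 1, -1, -1, -1, -1, -1, -1, -1, -1, -1, 1, -1],
   [1, 1, 1, 1, -1, -3, -1, -1, 1, -1, -1, -1, 3, -3, 1, 1, 1, 1, 1, 1, -3, 1, -1, -3],
   [1, 1, 1, -3, -1, 1, -1, -1, 1, -1, -1, -1, -1, -3, -3, 1, 1, 1, 1, -3, 1, 1, 3, 1],
   [1, 1, 1, 1, -1, 1, -1, 3, -3, -1, -1, -1, -1, -3, 1, 1, -3, 1, -3, 1, 1, 1, -1, 1],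
   [-1, -1, -1, -1, 1, -1, -3, 1, -1, -3, 5, 1, 1, -1, -1, -1, -1, -1, -1, -1, -1, -1, 1, -1],
   [1, -3, 1, -3, -1, 1, -1, -1, 1, -1, -1, -1, 3, 1, 1, -3, -3, 1, 1, 1, 1, 1, -1, 1],
   [1, -3, 1, 1, -1, 1, -1, -1, 1, -1, -1, 3, -1, 1, 1, 1, 1, 1, -3, -3, 1, 1, -1, -3],
   [-1, -1, -1, -1, 1, -1, 5, 1, -1, -3, -3, 1, 1, -1, -1, -1, -1, -1, -1, -1, -1, -1, 1, -1],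
   [1, 1, 1, 1, 3, 1, -1, 3, 1, -1, -1, 3, 3, 1, 1, 1, 1, 1, 1, 1, 1, 1, 3, 1],
   [1, 1, 1, 1, 3, -3, -1, -1, 1, -1, -1, -1, -1, 1, 1, 1, -3, -3, 1, -3, 1, 1, -1, 1],
   [-3, 1, 1, 1, -1, 1, -1, -1, 1, -1, -1, 3, -1, -3, 1, -3, 1, -3, 1, 1, 1, 1, -1, 1],
   [-3, 1, 1, 1, -1, 1, -1, -1, 1, -1, -1, -1, -1, 1, 1, 1, -3, 1, 1, 1, 1, -3, 3, -3],
   [-1, 3, 3, -1, -3, -1, 1, 1, -1, 1, 1, 1, 1, 3, -1, -1, -1, -1, -1, -1, -1, 3, 1, -1],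
   [-1, -1, 3, 3, 1, -1, 1, -3, -1, 1, 1, 1, 1, -1, -1, -1, -1, 3, -1, -1, -1, -1, 1, 3],
   [-3, 1, 1, -3, 3, 1, -1, -1, 1, -1, -1, -1, -1, 1, 1, 1, 1, 1, -3, 1, -3, 1, -1, 1],
   [3, -1, 3, -1, 1, -1, 1, 1, 3, 1, 1, 1, -3, -1, -1, -1, -1, -1, -1, 3, -1, -1, 1, -1],
   [1, 1, 1, 1, -1, 1, -1, 3, 1, -1, -1, -1, -1, 1, 1, -3, 1, 1, 1, -3, -3, -3, -1, 1],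
   [-1, -1, 3, -1, 1, -1, 1, 1, -1, 1, 1, -3, 1, -1, 3, -1, 3, -1, -1, -1, 3, -1, 1, -1],
   [1, 1, 1, 1, 3, 1, -1, -1, -3, -1, -1, -1, -1, 1, -3, -3, 1, 1, 1, 1, 1, 1, -1, -3],
   [1, -3, 1, 1, -1, 1, -1, -1, -3, -1, -1, -1, -1, 1, 1, 1, 1, -3, 1, 1, -3, 1, 3, 1],
   [-3, -3, 1, 1, -1, -3, -1, 3, 1, -1, -1, -1, -1, 1, -3, 1, 1, 1, 1, 1, 1, 1, -1, 1],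
   [1, 1, 1, 1, -1, 1, -1, -1, 1, -1, -1, -1, 3, 1, -3, 1, 1, -3, -3, 1, 1, -3, -1, 1]]

/-- Its transpose. -/
def t3 : List (List ℤ) :=
  [[1, -1, -1, 1, 1, 1, -1, 1, 1, -1, 1, 1, -3, -3, -1, -1, -3, 3, 1, -1, 1, 1, -3, 1],
   [1, -1, -1, 1, 1, 1, -1, -3, -3, -1, 1, 1, 1, 1, 3, -1, 1, -1, 1, -1, 1, -3, -3, 1],
   [1, 3, -1, 1, 1, 1, -1, 1, 1, -1, 1, 1, 1, 1, 3, 3, 1, 3, 1, 3, 1, 1, 1, 1],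
   [-3, -1, -1, 1, -3, 1, -1, -3, 1, -1, 1, 1, 1, 1, -1, 3, -3, -1, 1, -1, 1, 1, 1, 1],
   [-1, 1, 1, -1, -1, -1, 1, -1, -1, 1, 3, 3, -1, -1, -3, 1, 3, 1, -1, 1, 3, -1, -1, -1],
   [-3, 3, -1, -3, 1, 1, -1, 1, 1, -1, 1, -3, 1, 1, -1, -1, 1, -1, 1, -1, 1, 1, -3, 1],
   [-1, 1, -3, -1, -1, -1, -3, -1, -1, 5, -1, -1, -1, -1, 1, 1, -1, 1, -1, 1, -1, -1, -1, -1],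
   [-1, 1, 1, -1, -1, 3, 1, -1, -1, 1, 3, -1, -1, -1, 1, -3, -1, 1, 3, 1, -1, -1, 3, -1],
   [-3, -1, -1, 1, 1, -3, -1, 1, 1, -1, 1, 1, 1, 1, -1, -1, 1, 3, 1, -1, -3, -3, 1, 1],
   [-1, 1, 5, -1, -1, -1, -3, -1, -1, -3, -1, -1, -1, -1, 1, 1, -1, 1, -1, 1, -1, -1, -1, -1],
   [-1, 1, -3, -1, -1, -1, 5, -1, -1, -3, -1, -1, -1, -1, 1, 1, -1, 1, -1, 1, -1, -1, -1, -1],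
   [3, 1, 1, -1, -1, -1, 1, -1, 3, 1, 3, -1, 3, -1, 1, 1, -1, 1, -1, -3, -1, -1, -1, -1],
   [-1, 1, 1, 3, -1, -1, 1, 3, -1, 1, 3, -1, -1, -1, 1, 1, -1, -3, -1, 1, -1, -1, -1, 3],
   [1, -1, -1, -3, -3, -3, -1, 1, 1, -1, 1, 1, -3, 1, 3, -1, 1, -1, 1, -1, 1, 1, 1, 1],
   [1, -1, -1, 1, -3, 1, -1, 1, 1, -1, 1, 1, 1, 1, -1, -1, 1, -1, 1, 3, -3, 1, -3, -3],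
   [1, 3, -1, 1, 1, 1, -1, -3, 1, -1, 1, 1, -3, 1, -1, -1, 1, -1, -3, -1, -3, 1, 1, 1],
   [1, -1, -1, 1, 1, -3, -1, -3, 1, -1, 1, -3, 1, -3, -1, -1, 1, -1, 1, 3, 1, 1, 1, 1],
   [1, -1, -1, 1, 1, 1, -1, 1, 1, -1, 1, -3, -3, 1, -1, 3, 1, -1, 1, -1, 1, -3, 1, -3],
   [1, 3, -1, 1, 1, -3, -1, 1, -3, -1, 1, 1, 1, 1, -1, -1, -3, -1, 1, -1, 1, 1, 1, -3],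
   [1, -1, -1, 1, -3, 1, -1, 1, -3, -1, 1, -3, 1, 1, -1, -1, 1, 3, -3, -1, 1, 1, 1, 1],
   [1, -1, -1, -3, 1, 1, -1, 1, 1, -1, 1, 1, 1, 1, -1, -1, -3, -1, -3, 3, 1, -3, 1, 1],
   [-3, -1, -1, 1, 1, 1, -1, 1, 1, -1, 1, 1, 1, -3, 3, -1, 1, -1, -3, -1, 1, 1, 1, -3],
   [-1, -3, 1, -1, 3, -1, 1, -1, -1, 1, 3, -1, -1, 3, 1, 1, -1, 1, -1, 1, -1, 3, -1, -1],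
   [1, -1, -1, -3, 1, 1, -1, 1, -3, -1, 1, 1, 1, -3, -1, 3, 1, -1, 1, -1, -3, 1, 1, 1]]

/-- A matrix. -/
def m4 : List (List ℤ) :=
  [[-2, 0, 0, 2, -2, 2, 0, 2, -2, 0, -2, -2, -2, -2, 0, 0, 2, 0, -2, 0, 2, -2, 2, -2],
   [-2, 0, 0, 2, 2, 2, 0, -2, -2, 0, 2, -2, 2, 2, 0, 0, 2, 0, 2, 0, -2, 2, 2, -2],
   [0, -2, 6, 0, 0, 0, 2, 0, 0, 2, 0, 0, 0, 0, -2, -2, 0, -2, 0, -2, 0, 0, 0, 0],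
   [-2, 0, 0, 2, 2, -2, 0, -2, -2, 0, -2, 2, -2, 2, 0, 0, 2, 0, -2, 0, -2, -2, -2, 2],
   [-2, 0, 0, -2, -2, 2, 0, -2, -2, 0, 2, -2, 2, 2, 0, 0, -2, 0, -2, 0, 2, -2, -2, 2],
   [2, 0, 0, 2, -2, -2, 0, 2, -2, 0, -2, -2, 2, 2, 0, 0, -2, 0, -2, 0, -2, 2, -2, -2],
   [0, 2, 2, 0, 0, 0, -2, 0, 0, 6, 0, 0, 0, 0, 2, 2, 0, 2, 0, 2, 0, 0, 0, 0],
   [-2, 0, 0, -2, -2, -2, 0, 2, 2, 0, 2, -2, -2, 2, 0, 0, 2, 0, 2, 0, -2, -2, -2, -2],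
   [0, 2, 2, 0, 0, 0, -2, 0, 0, -2, 0, 0, 0, 0, -6, 2, 0, 2, 0, 2, 0, 0, 0, 0],
   [2, 0, 0, 2, -2, 2, 0, -2, 2, 0, -2, -2, -2, 2, 0, 0, 2, 0, 2, 0, 2, 2, -2, 2],
   [0, -2, -2, 0, 0, 0, -6, 0, 0, 2, 0, 0, 0, 0, -2, -2, 0, -2, 0, -2, 0, 0, 0, 0],
   [2, 0, 0, -2, -2, -2, 0, -2, -2, 0, 2, -2, -2, -2, 0, 0, 2, 0, -2, 0, -2, 2, 2, 2],
   [-2, 0, 0, 2, -2, 2, 0, -2, 2, 0, 2, 2, -2, -2, 0, 0, -2, 0, -2, 0, -2, 2, -2, -2],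
   [2, 0, 0, -2, 2, 2, 0, -2, 2, 0, -2, -2, -2, 2, 0, 0, -2, 0, -2, 0, -2, -2, 2, -2],
   [2, 0, 0, 2, -2, -2, 0, -2, 2, 0, 2, 2, 2, 2, 0, 0, 2, 0, -2, 0, 2, -2, 2, -2],
   [2, 0, 0, 2, 2, 2, 0, 2, 2, 0, 2, -2, 2, -2, 0, 0, 2, 0, -2, 0, -2, -2, -2, 2],
   [2, 0, 0, -2, -2, 2, 0, -2, -2, 0, -2, 2, 2, -2, 0, 0, 2, 0, 2, 0, -2, -2, -2, -2],
   [2, 0, 0, -2, 2, 2, 0, 2, -2, 0, 2, 2, -2, 2, 0, 0, 2, 0, -2, 0, 2, 2, -2, -2],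
   [0, -6, 2, 0, 0, 0, -2, 0, 0, -2, 0, 0, 0, 0, 2, 2, 0, 2, 0, 2, 0, 0, 0, 0],
   [2, 0, 0, 2, -2, 2, 0, 2, -2, 0, 2, 2, -2, 2, 0, 0, -2, 0, 2, 0, -2, -2, 2, 2],
   [0, 2, 2, 0, 0, 0, -2, 0, 0, -2, 0, 0, 0, 0, 2, -6, 0, 2, 0, 2, 0, 0, 0, 0],
   [0, 2, 2, 0, 0, 0, -2, 0, 0, -2, 0, 0, 0, 0, 2, 2, 0, 2, 0, -6, 0, 0, 0, 0],
   [2, 0, 0, 2, 2, -2, 0, -2, -2, 0, 2, -2, -2, -2, 0, 0, -2, 0, 2, 0, 2, -2, -2, -2],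
   [0, 2, 2, 0, 0, 0, -2, 0, 0, -2, 0, 0, 0, 0, 2, 2, 0, -6, 0, 2, 0, 0, 0, 0]]

/-- Its transpose. -/
def t4 : List (List ℤ) :=
  [[-2, -2, 0, -2, -2, 2, 0, -2, 0, 2, 0, 2, -2, 2, 2, 2, 2, 2, 0, 2, 0, 0, 2, 0],
   [0, 0, -2, 0, 0, 0, 2, 0, 2, 0, -2, 0, 0, 0, 0, 0, 0, 0, -6, 0, 2, 2, 0, 2],
   [0, 0, 6, 0, 0, 0, 2, 0, 2, 0, -2, 0, 0, 0, 0, 0, 0, 0, 2, 0, 2, 2, 0, 2],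
   [2, 2, 0, 2, -2, 2, 0, -2, 0, 2, 0, -2, 2, -2, 2, 2, -2, -2, 0, 2, 0, 0, 2, 0],
   [-2, 2, 0, 2, -2, -2, 0, -2, 0, -2, 0, -2, -2, 2, -2, 2, -2, 2, 0, -2, 0, 0, 2, 0],
   [2, 2, 0, -2, 2, -2, 0, -2, 0, 2, 0, -2, 2, 2, -2, 2, 2, 2, 0, 2, 0, 0, -2, 0],
   [0, 0, 2, 0, 0, 0, -2, 0, -2, 0, -6, 0, 0, 0, 0, 0, 0, 0, -2, 0, -2, -2, 0, -2],
   [2, -2, 0, -2, -2, 2, 0, 2, 0, -2, 0, -2, -2, -2, -2, 2, -2, 2, 0, 2, 0, 0, -2, 0],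
   [-2, -2, 0, -2, -2, -2, 0, 2, 0, 2, 0, -2, 2, 2, 2, 2, -2, -2, 0, -2, 0, 0, -2, 0],
   [0, 0, 2, 0, 0, 0, 6, 0, -2, 0, 2, 0, 0, 0, 0, 0, 0, 0, -2, 0, -2, -2, 0, -2],
   [-2, 2, 0, -2, 2, -2, 0, 2, 0, -2, 0, 2, 2, -2, 2, 2, -2, 2, 0, 2, 0, 0, 2, 0],
   [-2, -2, 0, 2, -2, -2, 0, -2, 0, -2, 0, -2, 2, -2, 2, -2, 2, 2, 0, 2, 0, 0, -2, 0],
   [-2, 2, 0, -2, 2, 2, 0, -2, 0, -2, 0, -2, -2, -2, 2, 2, 2, -2, 0, -2, 0, 0, -2, 0],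
   [-2, 2, 0, 2, 2, 2, 0, 2, 0, 2, 0, -2, -2, 2, 2, -2, -2, 2, 0, 2, 0, 0, -2, 0],
   [0, 0, -2, 0, 0, 0, 2, 0, -6, 0, -2, 0, 0, 0, 0, 0, 0, 0, 2, 0, 2, 2, 0, 2],
   [0, 0, -2, 0, 0, 0, 2, 0, 2, 0, -2, 0, 0, 0, 0, 0, 0, 0, 2, 0, -6, 2, 0, 2],
   [2, 2, 0, 2, -2, -2, 0, 2, 0, 2, 0, 2, -2, -2, 2, 2, 2, 2, 0, -2, 0, 0, -2, 0],
   [0, 0, -2, 0, 0, 0, 2, 0, 2, 0, -2, 0, 0, 0, 0, 0, 0, 0, 2, 0, 2, 2, 0, -6],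
   [-2, 2, 0, -2, -2, -2, 0, 2, 0, 2, 0, -2, -2, -2, -2, -2, 2, -2, 0, 2, 0, 0, 2, 0],
   [0, 0, -2, 0, 0, 0, 2, 0, 2, 0, -2, 0, 0, 0, 0, 0, 0, 0, 2, 0, 2, -6, 0, 2],
   [2, -2, 0, -2, 2, -2, 0, -2, 0, 2, 0, -2, -2, -2, 2, -2, -2, 2, 0, -2, 0, 0, 2, 0],
   [-2, 2, 0, -2, -2, 2, 0, -2, 0, 2, 0, 2, 2, -2, -2, -2, -2, 2, 0, -2, 0, 0, -2, 0],
   [2, 2, 0, -2, -2, -2, 0, -2, 0, -2, 0, 2, -2, 2, 2, -2, -2, -2, 0, 2, 0, 0, -2, 0],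
   [-2, -2, 0, 2, 2, -2, 0, -2, 0, 2, 0, 2, -2, -2, -2, 2, -2, -2, 0, 2, 0, 0, -2, 0]]

/-- A matrix. -/
def m5 : List (List ℤ) :=
  [[0, 0, 2, 0, 0, -4, -2, -2, 0, 2, -2, 0, 2, 2, 0, 0, 0, 0, -2, -2, 0, -2, 2, -2],
   [0, 0, -2, 0, 0, 0, 2, 2, 0, 2, 2, 0, -2, 2, 0, 0, 4, 0, -2, -2, 0, 2, 2, -2],
   [-2, 2, 0, -2, 2, 2, 0, 0, 2, 0, 0, -2, 0, 4, -2, 2, -2, -2, 0, 0, -2, 0, 0, 0],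
   [2, 2, 4, -2, 2, 2, 0, 0, 2, 0, 0, -2, 0, 0, 2, -2, 2, 2, 0, 0, 2, 0, 0, 0],
   [0, 0, 2, 0, 0, 0, 2, -2, 0, -2, 2, 0, -2, -2, 0, 0, 0, 0, -2, -2, -4, -2, 2, 2],
   [0, 0, -2, 0, 0, 0, -2, -2, 0, -2, 2, 0, 2, 2, 4, 0, 0, 0, -2, 2, 0, 2, 2, 2],
   [2, 2, 0, 2, 2, -2, 0, 0, -2, 0, 0, -2, 0, 0, -2, -2, -2, 2, 0, 0, -2, 4, 0, 0],
   [0, 0, 2, 0, -4, 0, 2, 2, 0, -2, -2, 0, 2, 2, 0, 0, 0, 0, 2, -2, 0, 2, 2, 2],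
   [4, 0, -2, 0, 0, 0, -2, 2, 0, -2, -2, 0, -2, 2, 0, 0, 0, 0, -2, -2, 0, -2, -2, 2],
   [-2, -2, 0, 2, 2, 2, 0, 0, -2, 0, 0, -2, 0, 0, 2, 2, -2, 2, 0, -4, 2, 0, 0, 0],
   [2, -2, 0, -2, 2, -2, 0, 0, -2, 0, 0, -2, 0, 0, 2, 2, 2, -2, 4, 0, -2, 0, 0, 0],
   [0, 0, -2, 0, 0, 0, 2, -2, 0, 2, -2, 0, -2, 2, 0, 0, 0, 4, 2, 2, 0, -2, 2, 2],
   [-2, -2, 0, -2, -2, 2, -4, 0, -2, 0, 0, -2, 0, 0, -2, -2, 2, 2, 0, 0, -2, 0, 0, 0],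
   [0, 0, -2, 0, 0, 0, 2, -2, 0, -2, 2, 0, 2, 2, 0, -4, 0, 0, 2, -2, 0, -2, -2, -2],
   [-2, 2, 0, -2, -2, -2, 0, 0, -2, 0, 0, -2, -4, 0, 2, -2, -2, -2, 0, 0, 2, 0, 0, 0],
   [-2, 2, 0, -2, 2, -2, 0, 0, -2, -4, 0, 2, 0, 0, -2, 2, 2, 2, 0, 0, 2, 0, 0, 0],
   [0, 0, -2, -4, 0, 0, 2, -2, 0, 2, -2, 0, 2, -2, 0, 0, 0, 0, -2, -2, 0, 2, -2, 2],
   [0, 0, 2, 0, 0, 0, -2, -2, 0, 2, 2, 4, -2, 2, 0, 0, 0, 0, 2, -2, 0, 2, -2, 2],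
   [-2, -2, 0, -2, 2, -2, 0, 4, 2, 0, 0, 2, 0, 0, 2, -2, -2, 2, 0, 0, -2, 0, 0, 0],
   [-2, 2, 0, 2, 2, 2, 0, 0, -2, 0, -4, 2, 0, 0, 2, -2, 2, -2, 0, 0, -2, 0, 0, 0],
   [-2, 2, 0, 2, -2, -2, 0, 0, 2, 0, 0, -2, 0, 0, 2, 2, 2, 2, 0, 0, -2, 0, -4, 0],
   [0, 0, 2, 0, 0, 0, 2, 2, -4, 2, 2, 0, 2, 2, 0, 0, 0, 0, -2, 2, 0, -2, -2, 2],
   [0, 4, -2, 0, 0, 0, -2, 2, 0, 2, 2, 0, 2, -2, 0, 0, 0, 0, 2, -2, 0, -2, 2, 2],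
   [-2, -2, 0, 2, 2, -2, 0, 0, 2, 0, 0, -2, 0, 0, -2, -2, 2, -2, 0, 0, 2, 0, 0, 4]]

/-- Its transpose. -/
def t5 : List (List ℤ) :=
  [[0, 0, -2, 2, 0, 0, 2, 0, 4, -2, 2, 0, -2, 0, -2, -2, 0, 0, -2, -2, -2, 0, 0, -2],
   [0, 0, 2, 2, 0, 0, 2, 0, 0, -2, -2, 0, -2, 0, 2, 2, 0, 0, -2, 2, 2, 0, 4, -2],
   [2, -2, 0, 4, 2, -2, 0, 2, -2, 0, 0, -2, 0, -2, 0, 0, -2, 2, 0, 0, 0, 2, -2, 0],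
   [0, 0, -2, -2, 0, 0, 2, 0, 0, 2, -2, 0, -2, 0, -2, -2, -4, 0, -2, 2, 2, 0, 0, 2],
   [0, 0, 2, 2, 0, 0, 2, -4, 0, 2, 2, 0, -2, 0, -2, 2, 0, 0, 2, 2, -2, 0, 0, 2],
   [-4, 0, 2, 2, 0, 0, -2, 0, 0, 2, -2, 0, 2, 0, -2, -2, 0, 0, -2, 2, -2, 0, 0, -2],
   [-2, 2, 0, 0, 2, -2, 0, 2, -2, 0, 0, 2, -4, 2, 0, 0, 2, -2, 0, 0, 0, 2, -2, 0],
   [-2, 2, 0, 0, -2, -2, 0, 2, 2, 0, 0, -2, 0, -2, 0, 0, -2, -2, 4, 0, 0, 2, 2, 0],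
   [0, 0, 2, 2, 0, 0, -2, 0, 0, -2, -2, 0, -2, 0, -2, -2, 0, 0, 2, -2, 2, -4, 0, 2],
   [2, 2, 0, 0, -2, -2, 0, -2, -2, 0, 0, 2, 0, -2, 0, -4, 2, 2, 0, 0, 0, 2, 2, 0],
   [-2, 2, 0, 0, 2, 2, 0, -2, -2, 0, 0, -2, 0, 2, 0, 0, -2, 2, 0, -4, 0, 2, 2, 0],
   [0, 0, -2, -2, 0, 0, -2, 0, 0, -2, -2, 0, -2, 0, -2, 2, 0, 4, 2, 2, -2, 0, 0, -2],
   [2, -2, 0, 0, -2, 2, 0, 2, -2, 0, 0, -2, 0, 2, -4, 0, 2, -2, 0, 0, 0, 2, 2, 0],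
   [2, 2, 4, 0, -2, 2, 0, 2, 2, 0, 0, 2, 0, 2, 0, 0, -2, 2, 0, 0, 0, 2, -2, 0],
   [0, 0, -2, 2, 0, 4, -2, 0, 0, 2, 2, 0, -2, 0, 2, -2, 0, 0, 2, 2, 2, 0, 0, -2],
   [0, 0, 2, -2, 0, 0, -2, 0, 0, 2, 2, 0, -2, -4, -2, 2, 0, 0, -2, -2, 2, 0, 0, -2],
   [0, 4, -2, 2, 0, 0, -2, 0, 0, -2, 2, 0, 2, 0, -2, 2, 0, 0, -2, 2, 2, 0, 0, 2],
   [0, 0, -2, 2, 0, 0, 2, 0, 0, 2, -2, 4, 2, 0, -2, 2, 0, 0, 2, -2, 2, 0, 0, -2],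
   [-2, -2, 0, 0, -2, -2, 0, 2, -2, 0, 4, 2, 0, 2, 0, 0, -2, 2, 0, 0, 0, -2, 2, 0],
   [-2, -2, 0, 0, -2, 2, 0, -2, -2, -4, 0, 2, 0, -2, 0, 0, -2, -2, 0, 0, 0, 2, -2, 0],
   [0, 0, -2, 2, -4, 0, -2, 0, 0, 2, -2, 0, -2, 0, 2, 2, 0, 0, -2, -2, -2, 0, 0, 2],
   [-2, 2, 0, 0, -2, 2, 4, 2, -2, 0, 0, -2, 0, -2, 0, 0, 2, 2, 0, 0, 0, -2, -2, 0],
   [2, 2, 0, 0, 2, 2, 0, 2, -2, 0, 0, 2, 0, -2, 0, 0, -2, -2, 0, 0, -4, -2, 2, 0],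
   [-2, -2, 0, 0, 2, 2, 0, 2, 2, 0, 0, 2, 0, -2, 0, 0, 2, 2, 0, 0, 0, 2, 2, 4]]

/-- The elements: generators of the subgroup, then the fusing elements. -/
def els : List (List (List ℤ) × List (List ℤ)) :=
  [(m0, t0), (m1, t1), (m2, t2), (m3, t3), (m4, t4), (m5, t5)]

/-- The certificate. -/
def cert : Schur.Pc.Cert where
  p := 5
  n := 4
  rules := [([0, 0, 0, 0, 0], []), ([1, 0], [0, 1, 2]), ([2, 0], [0, 2, 3]), ([3, 0], [0, 3]), ([1, 1, 1, 1, 1], []), ([2, 1], [1, 2]), ([3, 1], [1, 3]), ([2, 2, 2, 2, 2], []), ([3, 2], [2, 3]), ([3, 3, 3, 3, 3], [])]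
  fus := [([[0], [1]], [[0, 1, 1, 2, 2, 2, 3, 3], [1, 1]]), ([[0], [1]], [[0, 0, 1, 1, 1, 1, 2, 3, 3, 3], [1, 1, 1, 1, 2, 2, 2, 3, 3]])]
  fusW := 2
  assoc := [([3, 1, 0], (0, 6), (1, 1)), ([2, 1, 0], (0, 5), (1, 1)), ([1, 1, 1, 1, 1, 0], (0, 4), (4, 1)), ([2, 0, 0, 0, 0, 0], (0, 2), (1, 0))]
  fusEq := [(0, [1, 1, 1, 1, 1], []), (0, [1, 0, 1, 1, 0, 0], [0, 0, 1, 1, 0, 1]), (0, [1, 0, 1, 1, 1, 0, 0], [0, 1, 0, 1, 1, 0, 1]), (1, [0, 0, 0, 0, 0], [])]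
  eqs := [([6, 3, 1], [1, 3, 6, 8]), ([5, 2, 1], [1, 2, 6, 5, 8]), ([4], [1, 1, 1, 1, 1, 5, 5, 5, 5, 5, 5, 5, 5, 5, 5, 4, 7]), ([2, 3, 2, 3, 3, 2, 3, 3, 3, 2, 3, 3, 3, 3, 2, 0, 9], [0]), ([4, 4, 11, 11, 11, 11, 11], [4]), ([1, 1, 5, 5, 5, 5, 5, 7, 6, 6, 4, 6, 6, 6, 6, 6, 6, 3, 3, 1, 1, 1, 5, 5, 5, 6, 6, 5, 5, 5, 6, 6, 5, 5, 5, 4, 8, 8, 8, 8, 7, 8, 8, 3, 3, 3, 3, 2, 9, 5, 5, 11, 10, 11, 11, 10, 10, 1, 1, 5, 5, 5], [3, 3, 2, 2, 2, 1, 1, 5, 8, 8, 8, 7, 9, 6, 6, 5, 5, 5, 4, 6, 6, 5, 5, 5, 6, 6, 5, 5, 5, 6, 6, 5, 5, 5, 3, 3, 2, 2, 2, 1, 1, 1, 5, 5, 5, 8, 7, 8, 8, 9, 5, 5, 4, 6, 6, 5, 5, 5, 5, 6, 6, 5, 5, 5, 5, 10, 10, 11, 11, 10, 11, 1, 5, 5, 2, 1, 1, 1, 5, 5, 5, 3, 2, 2, 2, 2, 1, 1, 1, 5, 5, 5,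 8, 7, 8, 8, 8, 8, 8, 9]), ([1, 1, 5, 5, 5, 5, 5, 7, 6, 6, 4, 6, 6, 6, 6, 6, 6, 6, 6, 6, 6, 4, 3, 3, 6, 6, 6, 6, 8, 8, 8, 8, 8, 8, 3, 3, 3, 3, 2, 2, 2, 1, 1, 5, 8, 8, 8, 7, 9, 6, 6, 6, 6, 8, 8, 8, 8, 8, 8, 11, 10, 11, 11, 11, 10, 10, 1, 5, 5, 2, 1, 1, 1, 5, 5, 5, 6, 5, 5, 5, 5], [6, 6, 5, 5, 5, 6, 6, 5, 5, 5, 3, 3, 2, 2, 2, 1, 1, 1, 1, 5, 5, 5, 5, 5, 5, 7, 8, 8, 8, 9, 5, 5, 4, 5, 5, 7, 6, 6, 6, 6, 6, 6, 6, 6, 4, 3, 3, 6, 6, 6, 6, 8, 8, 8, 8, 8, 8, 6, 6, 6, 6, 5, 5, 5, 6, 6, 6, 6, 5, 5, 5, 10, 11, 10, 11, 11, 10, 11, 1, 5, 5, 5, 2, 1, 1, 1, 1, 5, 5, 5, 5, 5, 5, 7, 3, 1, 1, 1, 1, 5, 5, 5, 5, 5, 5]), ([3, 3, 3, 2, 1, 1, 1, 1, 5, 5, 5, 5, 5, 5, 7, 3, 3, 3, 3, 1, 1, 1, 1, 5, 5, 5, 5, 5, 5, 6, 6,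 6, 6, 5, 5, 5, 5, 4, 6, 6, 6, 6, 5, 5, 5, 5, 6, 6, 6, 6, 5, 5, 5, 5, 6, 6, 6, 6, 5, 5, 5, 5, 8, 8, 8, 8, 7, 9, 3, 3, 1, 1, 1, 0, 5, 5, 5, 3, 3, 2, 2, 2, 1, 1, 1, 5, 5, 5, 8, 7, 8, 8, 9, 5, 5, 4, 5, 5, 3, 3, 3, 2, 2, 1, 1, 5, 8, 9, 2, 2, 2, 2, 1, 1, 5, 8, 8, 8, 7, 8, 8, 8, 6, 6, 6, 6, 5, 6, 6, 6, 6, 5, 6, 6, 6, 6, 5, 4, 6, 6, 6, 6, 5, 8, 8, 8, 8, 9, 3, 3, 2, 2, 1, 8, 3, 3, 3, 3, 2, 2, 2, 1, 0, 8, 8, 8, 9, 6, 6, 5, 5, 5, 5, 6, 6, 5, 5, 5, 5, 6, 6, 5, 5, 5, 5, 6, 6, 5, 5, 5, 5, 4, 8, 8, 7, 9, 12, 12, 12, 12, 12], [0])]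
  e := 0
  adj := [[], [], [1], [2]]
  combo := [[(0, 4), (3, 4), (4, 1), (7, 1)], [], [], [(0, 4), (2, 4), (3, 2), (5, 1)], [(4, 1)], [(1, 4), (3, 1), (5, 3), (6, 2)], [(0, 1), (1, 4)], [(2, 4)], [(0, 4)], [(3, 1)]]
  fuel := 206

end CfsgLib.CoOneMult.FiveData
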