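import Cfsg.Agent.Schur.TwoCert

/-!
An invariant complement to a central involution inside the preimage of an elementary abelian normal
subgroup, from a linear certificate over the field with two elements.

Unknown `12 * a + b` for `a < b < 12` is the commutator of two lifts, `13 * a` the square of a lift,
and in the second stage `12 * j + i` the twist of lift `i` under conjugation by generator `j`.
-/

set_option autoImplicit false

namespace CfsgLib.CoOneMult.Linear

open CfsgLib.Schur.Pc (ev comm_center)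
open CfsgLib.Schur.Two (chi chi_zero chi_xor chi_bit bit sgn sgn_add sgn_zero sgn_mem)

/-- The mask of a commutator. -/
def pairM (a b : ℕ) : ℕ :=
  if a = b then 0 else bit (12 * min a b + max a b)

/-- The mask of the commutators of `a` with a word. -/
def bilOne (a : ℕ) : List ℕ → ℕ
  | [] => 0
  | b :: v => Nat.xor (pairM a b) (bilOne a v)

/-- The mask of the commutator of two words. -/
def bilM : List ℕ → List ℕ → ℕ
  | [], _ => 0
  | a :: u, v => Nat.xor (bilOne a v) (bilM u v)

/-- The mask of the square of a word. -/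
def sqM : List ℕ → ℕ
  | [] => 0
  | a :: u => Nat.xor (Nat.xor (bilOne a u) (bit (13 * a))) (sqM u)

/-- The exponents mod two of a word. -/
def maskL : List ℕ → ℕ
  | [] => 0
  | a :: u => Nat.xor (bit a) (maskL u)

/-- The word of a mask. -/
def bits (n m : ℕ) : List ℕ := (List.range n).filter m.testBit

/-- Exclusive or over a list. -/
def xorF (f : ℕ → ℕ) : List ℕ → ℕ
  | [] => 0
  | a :: u => Nat.xor (f a) (xorF f u)

/-- A certificate. -/
structure Dat where
  /-- number of generators -/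
  k : ℕ
  /-- images of the letters -/
  M : List (List (List ℕ))
  /-- words that are trivial on the generators -/
  rels : List (List ℕ)
  /-- combinations for the first stage -/
  c1 : List (List ℕ)
  /-- the correction of each lift -/
  F : List ℕ
  /-- combinations for the second stage -/
  c2 : List (List ℕ)

namespace Dat

variable (D : Dat)

/-- The image word. -/
def im (j i : ℕ) : List ℕ := (D.M.getD j []).getD i []

/-- The equations of the first stage. -/
def eqs1 : List ℕ :=
  (List.range D.k).flatMap fun j => (List.range 12).flatMap fun a =>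
    Nat.xor (sqM (D.im j a)) (bit (13 * a)) ::
      (List.range a).map fun b => Nat.xor (bilM (D.im j a) (D.im j b)) (pairM a b)

/-- Follow one letter of a relation. -/
def track (r : List ℕ) (i : ℕ) : List ℕ × ℕ :=
  r.foldr (fun j q => (bits 12 (maskL (q.1.flatMap (D.im j))),
    Nat.xor q.2 (xorF (fun x => bit (12 * j + x)) q.1))) ([i], 0)

/-- The equations of the second stage. -/
def eqs2 : List ℕ :=
  D.rels.flatMap fun r => (List.range 12).map fun i =>
    bif (D.track r i).1 == [i] then (D.track r i).2 else 0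

/-- A combination of equations. -/
def comb (E : List ℕ) (L : List ℕ) : ℕ := xorF (fun i => E.getD i 0) L

/-- The first check. -/
def ok1 : Bool :=
  let E := D.eqs1
  (List.range 12).all fun a => (List.range (a + 1)).all fun b =>
    (if b = a then bit (13 * a) else pairM a b) == comb E (D.c1.getD (12 * a + b) [])

/-- The second check. -/
def ok2 : Bool :=
  let E := D.eqs2
  (List.range D.k).all fun j => (List.range 12).all fun i =>
    Nat.xor (Nat.xor (bit (12 * j + i)) (D.F.getD i 0)) (xorF (fun x => D.F.getD x 0) (D.im j i)) ==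
      comb E (D.c2.getD (12 * j + i) [])

/-- The shape check. -/
def okShape : Bool :=
  Nat.ble D.k 12 && ((List.range D.k).all fun j => (List.range 12).all fun i =>
    (D.im j i).all fun x => Nat.blt x 12) && D.rels.all fun r => r.all fun j => Nat.blt j D.k

end Dat

variable {Γ G : Type*} [Group Γ] [Group G]

theorem ev_toggle (y : ℕ → Γ) (hc : ∀ a b, a < 12 → b < 12 → y a * y b = y b * y a)
    (hs : ∀ a, a < 12 → y a * y a = 1) (a : ℕ) (ha : a < 12) (m : ℕ) :
    ∀ n ≤ 12, ev y (bits n (Nat.xor (bit a) m)) =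
      if a < n then y a * ev y (bits n m) else ev y (bits n m)
  | 0, _ => by simp [bits]
  | n + 1, hn => by
    have ih := ev_toggle y hc hs a ha m n (by omega)
    have hbits : ∀ M, ev y (bits (n + 1) M) =
        ev y (bits n M) * if M.testBit n then y n else 1 := fun M => by
      simp only [bits, List.range_succ, List.filter_append, CfsgLib.Schur.Pc.ev_append,
        List.filter_cons, List.filter_nil]
      cases M.testBit n <;> simp [CfsgLib.Schur.Pc.ev_cons]
    have hmove : ∀ u : List ℕ, (∀ x ∈ u, x < 12) → ev y u * y a = y a * ev y u := by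
      intro u hu
      induction u with
      | nil => simp
      | cons b u ihu =>
        rw [CfsgLib.Schur.Pc.ev_cons, mul_assoc, ihu fun x hx => hu x (List.mem_cons_of_mem _ hx),
          ← mul_assoc, hc b a (hu b List.mem_cons_self) ha, mul_assoc]
    rw [hbits, hbits, ih, show (Nat.xor (bit a) m).testBit n = (decide (a = n) ^^ m.testBit n) by
      rw [show Nat.xor (bit a) m = bit a ^^^ m from rfl, Nat.testBit_xor, bit,
        show Nat.shiftLeft 1 a = 1 <<< a from rfl, Nat.one_shiftLeft, Nat.testBit_two_pow]]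
    rcases Nat.lt_trichotomy a n with h | h | h
    · rw [if_pos h, if_pos (show a < n + 1 by omega), decide_eq_false (show ¬a = n by omega), Bool.false_xor, mul_assoc]
    · subst h
      have hP : ∀ x ∈ bits a m, x < 12 := fun x hx => by
        have := List.mem_range.1 (List.mem_filter.1 hx).1; omega
      rw [if_neg (lt_irrefl a), if_pos (Nat.lt_succ_self a), decide_eq_true rfl]
      cases m.testBit a
      · simp [hmove _ hP]
      · simp [← mul_assoc, ← hmove _ hP, mul_assoc (ev y (bits a m)), hs a ha]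
    · rw [if_neg (show ¬a < n by omega), if_neg (show ¬a < n + 1 by omega), decide_eq_false (show ¬a = n by omega), Bool.false_xor]

theorem bits_zero (n : ℕ) : bits n 0 = [] := by
  simp [bits]

theorem ev_bits (y : ℕ → Γ) (hc : ∀ a b, a < 12 → b < 12 → y a * y b = y b * y a)
    (hs : ∀ a, a < 12 → y a * y a = 1) :
    ∀ u : List ℕ, (∀ x ∈ u, x < 12) → ev y (bits 12 (maskL u)) = ev y u
  | [], _ => by rw [maskL, bits_zero]
  | a :: u, h => by
    rw [maskL, ev_toggle y hc hs a (h a List.mem_cons_self) _ 12 le_rfl,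
      if_pos (h a List.mem_cons_self), ev_bits y hc hs u fun x hx => h x (List.mem_cons_of_mem _ hx),
      CfsgLib.Schur.Pc.ev_cons]

theorem bits_lt {n m x : ℕ} (h : x ∈ bits n m) : x < n :=
  List.mem_range.1 (List.mem_filter.1 h).1

/-- Conjugation invariant complement: there is one when the certificate checks. -/
theorem exists_complement (D : Dat) (hshape : D.okShape = true) (h1 : D.ok1 = true)
    (h2 : D.ok2 = true) (σ : Γ →* G) (hσ : Function.Surjective σ) {z : Γ}
    (hker : ∀ g, σ g = 1 → g = 1 ∨ g = z) (hz : σ z = 1) (hzc : z ∈ Subgroup.center Γ)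
    (hz2 : z ^ 2 = 1) (hz1 : z ≠ 1) (e s : ℕ → G)
    (hec : ∀ a b, a < 12 → b < 12 → e a * e b = e b * e a) (hes : ∀ a, a < 12 → e a * e a = 1)
    (hconj : ∀ j < D.k, ∀ i < 12, s j * e i * (s j)⁻¹ = ev e (D.im j i))
    (hrel : ∀ r ∈ D.rels, ev s r = 1)
    (hind : ∀ u : List ℕ, (∀ x ∈ u, x < 12) → ev e u = 1 → maskL u = 0)
    (S : ℕ → Γ) (hS : ∀ j, σ (S j) = s j) :
    ∃ W : Subgroup Γ, z ∉ W ∧ (∀ j < D.k, ∀ w ∈ W, S j * w * (S j)⁻¹ ∈ W) ∧
      (∀ i < 12, ∃ w ∈ W, σ w = e i) ∧ ∀ w ∈ W, ∃ u : List ℕ, (∀ x ∈ u, x < 12) ∧ σ w = ev e u := by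
  classical
  let Y : ℕ → Γ := fun i => (hσ (e i)).choose
  have hY : ∀ i, σ (Y i) = e i := fun i => (hσ (e i)).choose_spec
  have hevσ : ∀ (T : ℕ → Γ) (t : ℕ → G), (∀ i, σ (T i) = t i) → ∀ w, σ (ev T w) = ev t w :=
    fun T t h w => by
      rw [CfsgLib.Schur.Pc.map_ev]; exact congrArg (fun y => ev y w) (funext h)
  have hsg : ∀ c, σ (sgn z c) = 1 := fun c => by rw [sgn, map_pow, hz, one_pow]
  have hsc : ∀ c (g : Γ), sgn z c * g = g * sgn z c := fun c g => comm_center (sgn_mem hzc c) g
  have hinv : ∀ c, (sgn z c)⁻¹ = sgn z c := fun c => by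
    rw [inv_eq_iff_mul_eq_one, ← sgn_add hz2, CharTwo.add_self_eq_zero, sgn_zero]
  have hdiff : ∀ g h : Γ, σ g = σ h → ∃ c : ZMod 2, g = h * sgn z c := fun g h he => by
    rcases hker (h⁻¹ * g) (by rw [map_mul, map_inv, he, inv_mul_cancel]) with e1 | e1
    · exact ⟨0, by rw [sgn_zero, mul_one]; exact (inv_mul_eq_one.1 e1).symm⟩
    · refine ⟨1, ?_⟩
      rw [show sgn z 1 = z by simp [sgn, ZMod.val_one]]
      exact inv_mul_eq_iff_eq_mul.1 e1
  have hinj : ∀ c d : ZMod 2, sgn z c = sgn z d → c = d := by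
    have h01 : sgn z (0 : ZMod 2) ≠ sgn z 1 := by simp [sgn, ZMod.val_one, Ne.symm hz1]
    intro c d
    fin_cases c <;> fin_cases d <;> intro h
    · rfl
    · exact absurd h h01
    · exact absurd h.symm h01
    · rfl
  -- the unknowns
  have hexists : ∀ n : ℕ, ∃ c : ZMod 2,
      (∀ a < 12, n = 13 * a → Y a * Y a = sgn z c) ∧
      ∀ a b, a < b → b < 12 → n = 12 * a + b → Y b * Y a = Y a * Y b * sgn z c := by
    intro n
    by_cases hd : ∃ a < 12, n = 13 * a
    · obtain ⟨a, ha, rfl⟩ := hd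
      obtain ⟨c, hc⟩ := hdiff (Y a * Y a) 1 (by rw [map_mul, hY, hes a ha, map_one])
      refine ⟨c, fun a' _ h' => ?_, fun a' b hab hb h' => by omega⟩
      rw [show a' = a by omega, hc, one_mul]
    · by_cases hp : ∃ a b, a < b ∧ b < 12 ∧ n = 12 * a + b
      · obtain ⟨a, b, hab, hb, rfl⟩ := hp
        obtain ⟨c, hc⟩ := hdiff (Y b * Y a) (Y a * Y b)
          (by rw [map_mul, map_mul, hY, hY, hec b a hb (hab.trans hb)])
        refine ⟨c, fun a' ha' h' => absurd ⟨a', ha', h'⟩ hd, fun a' b' hab' hb' h' => ?_⟩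
        rw [show a' = a by omega, show b' = b by omega, hc]
      · exact ⟨0, fun a' ha' h' => absurd ⟨a', ha', h'⟩ hd,
          fun a' b' hab' hb' h' => absurd ⟨a', b', hab', hb', h'⟩ hp⟩
  choose w hwq hwp using hexists
  set χ := chi w 144 with hχ
  have hx : ∀ a b, χ (Nat.xor a b) = χ a + χ b := chi_xor _ _
  have h0 : χ 0 = 0 := chi_zero _ _
  have hsq : ∀ a < 12, Y a * Y a = sgn z (χ (bit (13 * a))) := fun a ha => by
    rw [hχ, chi_bit _ (by omega)]; exact hwq _ a ha rfl
  have hpair : ∀ a b, a < 12 → b < 12 → Y a * Y b = Y b * Y a * sgn z (χ (pairM a b)) := by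
    intro a b ha hb
    rw [pairM]
    rcases Nat.lt_trichotomy a b with h | h | h
    · rw [if_neg (by omega), Nat.min_eq_left h.le, Nat.max_eq_right h.le, hχ,
        chi_bit _ (by omega), hwp _ a b h hb rfl, mul_assoc, ← sgn_add hz2,
        CharTwo.add_self_eq_zero, sgn_zero, mul_one]
    · subst h; rw [if_pos rfl, h0, sgn_zero, mul_one]
    · rw [if_neg (by omega), Nat.min_eq_right h.le, Nat.max_eq_left h.le, hχ,
        chi_bit _ (by omega)]
      exact hwp _ b a h ha rfl
  have hOne : ∀ a < 12, ∀ v : List ℕ, (∀ x ∈ v, x < 12) →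
      Y a * ev Y v = ev Y v * Y a * sgn z (χ (bilOne a v)) := by
    intro a ha v hv
    induction v with
    | nil => simp [bilOne, h0, sgn_zero]
    | cons b v ih =>
      rw [bilOne, hx, sgn_add hz2, CfsgLib.Schur.Pc.ev_cons, ← mul_assoc,
        hpair a b ha (hv b List.mem_cons_self), mul_assoc (Y b * Y a), hsc, ← mul_assoc,
        mul_assoc (Y b) (Y a), ih fun x hx => hv x (List.mem_cons_of_mem _ hx)]
      simp only [mul_assoc]
      rw [← hsc (χ (pairM a b))]
  have hBil : ∀ u v : List ℕ, (∀ x ∈ u, x < 12) → (∀ x ∈ v, x < 12) →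
      ev Y u * ev Y v = ev Y v * ev Y u * sgn z (χ (bilM u v)) := by
    intro u v hu hv
    induction u with
    | nil => simp [bilM, h0, sgn_zero]
    | cons a u ih =>
      rw [bilM, hx, sgn_add hz2, CfsgLib.Schur.Pc.ev_cons, mul_assoc,
        ih fun x hx => hu x (List.mem_cons_of_mem _ hx), ← mul_assoc, ← mul_assoc,
        hOne a (hu a List.mem_cons_self) v hv]
      simp only [mul_assoc]
      rw [← mul_assoc (sgn z (χ (bilOne a v))) (ev Y u), hsc (χ (bilOne a v)) (ev Y u), mul_assoc]
  have hSqr : ∀ u : List ℕ, (∀ x ∈ u, x < 12) → ev Y u * ev Y u = sgn z (χ (sqM u)) := by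
    intro u hu
    induction u with
    | nil => simp [sqM, h0, sgn_zero]
    | cons a u ih =>
      have hu' : ∀ x ∈ u, x < 12 := fun x hx => hu x (List.mem_cons_of_mem _ hx)
      rw [sqM, hx, hx, sgn_add hz2, sgn_add hz2, CfsgLib.Schur.Pc.ev_cons]
      have hswap : ev Y u * Y a = Y a * ev Y u * sgn z (χ (bilOne a u)) := by
        rw [hOne a (hu a List.mem_cons_self) u hu', mul_assoc, mul_assoc, ← sgn_add hz2,
          CharTwo.add_self_eq_zero, sgn_zero, mul_one]
      calc Y a * ev Y u * (Y a * ev Y u)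
          = Y a * (ev Y u * Y a) * ev Y u := by simp only [mul_assoc]
        _ = Y a * Y a * (ev Y u * ev Y u) * sgn z (χ (bilOne a u)) := by
            rw [hswap]
            simp only [mul_assoc]
            rw [hsc (χ (bilOne a u)) (ev Y u)]
        _ = _ := by
            rw [ih hu', hsq a (hu a List.mem_cons_self), ← sgn_add hz2, ← sgn_add hz2, ← sgn_add hz2,
              ← sgn_add hz2]
            exact congrArg (sgn z) (by ring)
  simp only [Dat.okShape, Bool.and_eq_true, List.all_eq_true, List.mem_range] at hshape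
  obtain ⟨⟨hk12, himlt⟩, hrlt⟩ := hshape
  have hk : D.k ≤ 12 := Nat.le_of_ble_eq_true hk12
  have him : ∀ j < D.k, ∀ i < 12, ∀ x ∈ D.im j i, x < 12 := fun j hj i hi x hx =>
    Nat.le_of_ble_eq_true (himlt j hj i hi x hx)
  have htwist : ∀ n : ℕ, ∃ c : ZMod 2, ∀ j i, j < D.k → i < 12 → n = 12 * j + i →
      MulAut.conj (S j) (Y i) = ev Y (D.im j i) * sgn z c := by
    intro n
    by_cases h : ∃ j i, j < D.k ∧ i < 12 ∧ n = 12 * j + i
    · obtain ⟨j, i, hj, hi, rfl⟩ := h
      obtain ⟨c, hc⟩ := hdiff (MulAut.conj (S j) (Y i)) (ev Y (D.im j i)) (by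
        rw [MulAut.conj_apply, map_mul, map_mul, map_inv, hS, hY, hevσ Y e hY]
        exact hconj j hj i hi)
      refine ⟨c, fun j' i' _ hi' h' => ?_⟩
      rw [show j' = j by omega, show i' = i by omega, hc]
    · exact ⟨0, fun j' i' hj' hi' h' => absurd ⟨j', i', hj', hi', h'⟩ h⟩
  choose t ht using htwist
  have ht' : ∀ j i, j < D.k → i < 12 →
      MulAut.conj (S j) (Y i) = ev Y (D.im j i) * sgn z (t (12 * j + i)) :=
    fun j i hj hi => ht _ j i hj hi rfl
  have hfix : ∀ (g : Γ) c, MulAut.conj g (sgn z c) = sgn z c := fun g c => by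
    rw [MulAut.conj_apply, ← hsc, mul_inv_cancel_right]
  -- first stage
  have heq1 : ∀ m ∈ D.eqs1, χ m = 0 := by
    intro m hm
    simp only [Dat.eqs1, List.mem_flatMap, List.mem_range, List.mem_cons, List.mem_map] at hm
    obtain ⟨j, hj, a, ha, rfl | ⟨b, hb, rfl⟩⟩ := hm
    · have e1 := congrArg (MulAut.conj (S j)) (hsq a ha)
      rw [map_mul, ht' j a hj ha, hfix, mul_assoc, ← mul_assoc (sgn z _) (ev Y (D.im j a)), hsc,
        mul_assoc (ev Y (D.im j a)) (sgn z _), ← sgn_add hz2, CharTwo.add_self_eq_zero, sgn_zero,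
        mul_one, hSqr _ (him j hj a ha)] at e1
      rw [hx, hinj _ _ e1, CharTwo.add_self_eq_zero]
    · have hb' : b < 12 := hb.trans ha
      have e1 := congrArg (MulAut.conj (S j)) (hpair a b ha hb')
      rw [map_mul, map_mul, map_mul, ht' j a hj ha, ht' j b hj hb', hfix] at e1
      rw [show ev Y (D.im j a) * sgn z (t (12 * j + a)) * (ev Y (D.im j b) * sgn z (t (12 * j + b))) =
          ev Y (D.im j a) * ev Y (D.im j b) * (sgn z (t (12 * j + a)) * sgn z (t (12 * j + b))) by
            rw [mul_assoc, ← mul_assoc (sgn z _) (ev Y _), hsc]; simp only [mul_assoc],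
        show ev Y (D.im j b) * sgn z (t (12 * j + b)) * (ev Y (D.im j a) * sgn z (t (12 * j + a))) =
          ev Y (D.im j b) * ev Y (D.im j a) * (sgn z (t (12 * j + a)) * sgn z (t (12 * j + b))) by
            rw [mul_assoc, ← mul_assoc (sgn z _) (ev Y _), hsc, hsc (t (12 * j + a))]
            simp only [mul_assoc],
        hBil _ _ (him j hj a ha) (him j hj b hb'),
        mul_assoc (ev Y (D.im j b) * ev Y (D.im j a)), mul_assoc (ev Y (D.im j b) * ev Y (D.im j a)),
        mul_left_cancel_iff, ← sgn_add hz2, ← sgn_add hz2, ← sgn_add hz2] at e1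
      have e2 := hinj _ _ e1
      rw [hx]
      exact CharTwo.add_eq_zero.2
        (add_right_cancel (e2.trans (add_comm _ _)))
  have hcomb : ∀ (κ : ℕ → ZMod 2) (N : ℕ) (E L : List ℕ), (∀ m ∈ E, chi κ N m = 0) →
      chi κ N (Dat.comb E L) = 0 := by
    intro κ N E L hE
    induction L with
    | nil => exact chi_zero _ _
    | cons i L ih =>
      rw [Dat.comb, xorF, chi_xor, ← Dat.comb, ih, add_zero]
      by_cases h : i < E.length
      · rw [List.getD_eq_getElem _ _ h]; exact hE _ (List.getElem_mem h)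
      · rw [List.getD_eq_default _ _ (Nat.le_of_not_lt h)]; exact chi_zero _ _
  simp only [Dat.ok1, List.all_eq_true, List.mem_range, beq_iff_eq] at h1
  have hcomm : ∀ a b, a < 12 → b < 12 → Y a * Y b = Y b * Y a := by
    have key : ∀ a b, a < 12 → b < a → Y a * Y b = Y b * Y a := fun a b ha hb => by
      have := congrArg χ (h1 a ha b (by omega))
      rw [if_neg (by omega), hχ, hcomb _ _ _ _ (hχ ▸ heq1)] at this
      rw [hpair a b ha (hb.trans ha), hχ, this, sgn_zero, mul_one]
    intro a b ha hb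
    rcases Nat.lt_trichotomy a b with h | h | h
    · exact (key b a hb h).symm
    · rw [h]
    · exact key a b ha h
  have hinvol : ∀ a, a < 12 → Y a * Y a = 1 := fun a ha => by
    have := congrArg χ (h1 a ha a (by omega))
    rw [if_pos rfl, hχ, hcomb _ _ _ _ (hχ ▸ heq1)] at this
    rw [hsq a ha, hχ, this, sgn_zero]
  -- second stage
  set ψ := chi t 144 with hψ
  have hy : ∀ a b, ψ (Nat.xor a b) = ψ a + ψ b := chi_xor _ _
  have hy0 : ψ 0 = 0 := chi_zero _ _
  have hconjW : ∀ j < D.k, ∀ u : List ℕ, (∀ x ∈ u, x < 12) →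
      MulAut.conj (S j) (ev Y u) =
        ev Y (u.flatMap (D.im j)) * sgn z (ψ (xorF (fun x => bit (12 * j + x)) u)) := by
    intro j hj u hu
    induction u with
    | nil => simp [xorF, hy0, sgn_zero]
    | cons a u ih =>
      rw [xorF, hy, sgn_add hz2, CfsgLib.Schur.Pc.ev_cons, map_mul, List.flatMap_cons,
        CfsgLib.Schur.Pc.ev_append, ih fun x hx => hu x (List.mem_cons_of_mem _ hx),
        ht' j a hj (hu a List.mem_cons_self), hψ,
        chi_bit _ (by have := hu a List.mem_cons_self; omega)]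
      simp only [mul_assoc]
      rw [← mul_assoc (sgn z _) (ev Y _), hsc]
      simp only [mul_assoc]
  have htrack : ∀ r : List ℕ, (∀ j ∈ r, j < D.k) → ∀ i < 12,
      (∀ x ∈ (D.track r i).1, x < 12) ∧
      MulAut.conj (ev S r) (Y i) = ev Y (D.track r i).1 * sgn z (ψ (D.track r i).2) := by
    intro r hr i hi
    induction r with
    | nil => simp [Dat.track, hy0, sgn_zero, hi, CfsgLib.Schur.Pc.ev_cons]
    | cons j r ih =>
      obtain ⟨hlt, e1⟩ := ih fun x hx => hr x (List.mem_cons_of_mem _ hx)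
      have hj : j < D.k := hr j List.mem_cons_self
      refine ⟨fun x hx => bits_lt hx, ?_⟩
      show _ = ev Y (bits 12 (maskL ((D.track r i).1.flatMap (D.im j)))) *
        sgn z (ψ (Nat.xor (D.track r i).2 (xorF (fun x => bit (12 * j + x)) (D.track r i).1)))
      rw [ev_bits Y hcomm hinvol _ (fun x hx => by
          obtain ⟨y, hy, hxy⟩ := List.mem_flatMap.1 hx
          exact him j hj y (hlt y hy) x hxy),
        hy, sgn_add hz2, CfsgLib.Schur.Pc.ev_cons, map_mul, MulAut.mul_apply, e1, map_mul, hfix,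
        hconjW j hj _ hlt]
      simp only [mul_assoc]
      rw [hsc]
  have heq2 : ∀ m ∈ D.eqs2, ψ m = 0 := by
    intro m hm
    simp only [Dat.eqs2, List.mem_flatMap, List.mem_map, List.mem_range] at hm
    obtain ⟨r, hr, i, hi, rfl⟩ := hm
    cases hb : (D.track r i).1 == [i] with
    | false => exact hy0
    | true =>
      obtain ⟨-, e1⟩ := htrack r (fun j hj => Nat.le_of_ble_eq_true (hrlt r hr j hj)) i hi
      obtain ⟨c, hc⟩ := hdiff (ev S r) 1 (by rw [hevσ S s hS, hrel r hr, map_one])
      rw [hc, one_mul, beq_iff_eq.1 hb, CfsgLib.Schur.Pc.ev_cons, CfsgLib.Schur.Pc.ev_nil, mul_one,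
        MulAut.conj_apply, hsc c (Y i), mul_inv_cancel_right] at e1
      have e2 : sgn z (ψ (D.track r i).2) = sgn z (0 : ZMod 2) := by
        rw [sgn_zero]; exact left_eq_mul.1 e1
      exact hinj _ _ e2
  simp only [Dat.ok2, List.all_eq_true, List.mem_range, beq_iff_eq] at h2
  let Y' : ℕ → Γ := fun i => Y i * sgn z (ψ (D.F.getD i 0))
  have hY'σ : ∀ i, σ (Y' i) = e i := fun i => by simp only [Y', map_mul, hsg, mul_one, hY]
  have hY'ev : ∀ u, ev Y' u = ev Y u * sgn z (ψ (xorF (fun x => D.F.getD x 0) u)) := by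
    intro u
    induction u with
    | nil => simp [xorF, hy0, sgn_zero]
    | cons a u ih =>
      rw [xorF, hy, sgn_add hz2, CfsgLib.Schur.Pc.ev_cons, CfsgLib.Schur.Pc.ev_cons, ih]
      simp only [Y', mul_assoc]
      rw [← mul_assoc (sgn z (ψ (D.F.getD a 0))), hsc, mul_assoc]
  have hconjY' : ∀ j < D.k, ∀ i < 12, MulAut.conj (S j) (Y' i) = ev Y' (D.im j i) := by
    intro j hj i hi
    have e1 := congrArg ψ (h2 j hj i hi)
    rw [hy, hy, hψ, hcomb _ _ _ _ (hψ ▸ heq2), chi_bit _ (by omega)] at e1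
    rw [hY'ev, map_mul, hfix, ht' j i hj hi, mul_assoc, ← sgn_add hz2, hψ,
      CharTwo.add_eq_zero.1 e1]
  have hY'c : ∀ a b, a < 12 → b < 12 → Y' a * Y' b = Y' b * Y' a := by
    intro a b ha hb
    simp only [Y']
    rw [mul_assoc, ← mul_assoc (sgn z _) (Y b), hsc, mul_assoc (Y b), ← mul_assoc, hcomm a b ha hb,
      mul_assoc (Y b) (sgn z _), ← mul_assoc (sgn z (ψ (D.F.getD b 0))) (Y a),
      hsc (ψ (D.F.getD b 0)) (Y a), hsc (ψ (D.F.getD a 0)) (sgn z _)]
    simp only [mul_assoc]
  have hY's : ∀ a, a < 12 → Y' a * Y' a = 1 := fun a ha => by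
    simp only [Y']
    rw [mul_assoc, ← mul_assoc (sgn z _) (Y a), hsc, mul_assoc (Y a), ← sgn_add hz2,
      CharTwo.add_self_eq_zero, sgn_zero, mul_one, hinvol a ha]
  let W : Subgroup Γ :=
    { carrier := {g | ∃ u : List ℕ, (∀ x ∈ u, x < 12) ∧ ev Y' u = g}
      one_mem' := ⟨[], by simp, CfsgLib.Schur.Pc.ev_nil Y'⟩
      mul_mem' := by
        rintro _ _ ⟨u, hu, rfl⟩ ⟨v, hv, rfl⟩
        exact ⟨u ++ v, fun x hx => (List.mem_append.1 hx).elim (hu x) (hv x),
          CfsgLib.Schur.Pc.ev_append Y' u v⟩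
      inv_mem' := by
        rintro _ ⟨u, hu, rfl⟩
        refine ⟨u.reverse, fun x hx => hu x (List.mem_reverse.1 hx), ?_⟩
        symm
        induction u with
        | nil => simp
        | cons a u ih =>
          rw [List.reverse_cons, CfsgLib.Schur.Pc.ev_append, CfsgLib.Schur.Pc.ev_cons,
            CfsgLib.Schur.Pc.ev_cons, CfsgLib.Schur.Pc.ev_nil, mul_one, mul_inv_rev,
            ih fun x hx => hu x (List.mem_cons_of_mem _ hx),
            inv_eq_of_mul_eq_one_left (hY's a (hu a List.mem_cons_self))] }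
  refine ⟨W, ?_, ?_, fun i hi => ⟨Y' i, ⟨[i], by simpa using hi, by simp [CfsgLib.Schur.Pc.ev_cons]⟩,
    hY'σ i⟩, ?_⟩
  · rintro ⟨u, hu, hu'⟩
    have e1 : ev e u = 1 := by rw [← hevσ Y' e hY'σ, hu', hz]
    have e2 := ev_bits Y' hY'c hY's u hu
    rw [hind u hu e1, hu'] at e2
    rw [bits_zero] at e2
    exact hz1 (e2.symm.trans (CfsgLib.Schur.Pc.ev_nil Y'))
  · rintro j hj _ ⟨u, hu, rfl⟩
    refine ⟨u.flatMap (D.im j), fun x hx => ?_, ?_⟩
    · obtain ⟨y, hy, hxy⟩ := List.mem_flatMap.1 hx
      exact him j hj y (hu y hy) x hxy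
    · rw [← MulAut.conj_apply]
      induction u with
      | nil => simp
      | cons a u ih =>
        rw [List.flatMap_cons, CfsgLib.Schur.Pc.ev_append, CfsgLib.Schur.Pc.ev_cons,
          ih fun x hx => hu x (List.mem_cons_of_mem _ hx), map_mul,
          hconjY' j hj a (hu a List.mem_cons_self)]
  · rintro _ ⟨u, hu, rfl⟩
    exact ⟨u, hu, hevσ Y' e hY'σ u⟩

end CfsgLib.CoOneMult.Linear
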