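import Cfsg.Agent.Schur.PcCover

/-!
Data: a Sylow 7-subgroup of the lattice group by matrices (each with its transpose), elements giving
fusion, and the certificate for the multiplier.
-/

set_option autoImplicit false
set_option maxRecDepth 20000

namespace CfsgLib.CoOneMult.SevenData

/-- A matrix. -/
def m0 : List (List ℤ) :=
  [[8, 0, 0, 0, 0, 0, 0, 0, 0, 0, 0, 0, 0, 0, 0, 0, 0, 0, 0, 0, 0, 0, 0, 0],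
   [0, 0, 0, 0, 0, 0, 0, 0, 0, 0, 0, 0, 0, 8, 0, 0, 0, 0, 0, 0, 0, 0, 0, 0],
   [0, 8, 0, 0, 0, 0, 0, 0, 0, 0, 0, 0, 0, 0, 0, 0, 0, 0, 0, 0, 0, 0, 0, 0],
   [0, 0, 0, 0, 0, 0, 0, 0, 0, 0, 0, 0, 0, 0, 0, 0, 8, 0, 0, 0, 0, 0, 0, 0],
   [0, 0, 0, 0, 0, 0, 0, 0, 0, 0, 0, 0, 8, 0, 0, 0, 0, 0, 0, 0, 0, 0, 0, 0],
   [0, 0, 0, 0, 8, 0, 0, 0, 0, 0, 0, 0, 0, 0, 0, 0, 0, 0, 0, 0, 0, 0, 0, 0],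
   [0, 0, 0, 0, 0, 0, 0, 0, 0, 0, 0, 0, 0, 0, 8, 0, 0, 0, 0, 0, 0, 0, 0, 0],
   [0, 0, 0, 0, 0, 0, 0, 0, 0, 0, 0, 0, 0, 0, 0, 0, 0, 8, 0, 0, 0, 0, 0, 0],
   [0, 0, 0, 0, 0, 0, 0, 8, 0, 0, 0, 0, 0, 0, 0, 0, 0, 0, 0, 0, 0, 0, 0, 0],
   [0, 0, 0, 0, 0, 0, 0, 0, 8, 0, 0, 0, 0, 0, 0, 0, 0, 0, 0, 0, 0, 0, 0, 0],
   [0, 0, 0, 0, 0, 0, 0, 0, 0, 0, 0, 8, 0, 0, 0, 0, 0, 0, 0, 0, 0, 0, 0, 0],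
   [0, 0, 0, 0, 0, 8, 0, 0, 0, 0, 0, 0, 0, 0, 0, 0, 0, 0, 0, 0, 0, 0, 0, 0],
   [0, 0, 0, 8, 0, 0, 0, 0, 0, 0, 0, 0, 0, 0, 0, 0, 0, 0, 0, 0, 0, 0, 0, 0],
   [0, 0, 0, 0, 0, 0, 0, 0, 0, 8, 0, 0, 0, 0, 0, 0, 0, 0, 0, 0, 0, 0, 0, 0],
   [0, 0, 0, 0, 0, 0, 0, 0, 0, 0, 0, 0, 0, 0, 0, 0, 0, 0, 0, 0, 0, 0, 0, 8],
   [0, 0, 0, 0, 0, 0, 0, 0, 0, 0, 0, 0, 0, 0, 0, 8, 0, 0, 0, 0, 0, 0, 0, 0],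
   [0, 0, 0, 0, 0, 0, 0, 0, 0, 0, 8, 0, 0, 0, 0, 0, 0, 0, 0, 0, 0, 0, 0, 0],
   [0, 0, 8, 0, 0, 0, 0, 0, 0, 0, 0, 0, 0, 0, 0, 0, 0, 0, 0, 0, 0, 0, 0, 0],
   [0, 0, 0, 0, 0, 0, 0, 0, 0, 0, 0, 0, 0, 0, 0, 0, 0, 0, 0, 8, 0, 0, 0, 0],
   [0, 0, 0, 0, 0, 0, 0, 0, 0, 0, 0, 0, 0, 0, 0, 0, 0, 0, 0, 0, 0, 8, 0, 0],
   [0, 0, 0, 0, 0, 0, 0, 0, 0, 0, 0, 0, 0, 0, 0, 0, 0, 0, 0, 0, 8, 0, 0, 0],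
   [0, 0, 0, 0, 0, 0, 8, 0, 0, 0, 0, 0, 0, 0, 0, 0, 0, 0, 0, 0, 0, 0, 0, 0],
   [0, 0, 0, 0, 0, 0, 0, 0, 0, 0, 0, 0, 0, 0, 0, 0, 0, 0, 8, 0, 0, 0, 0, 0],
   [0, 0, 0, 0, 0, 0, 0, 0, 0, 0, 0, 0, 0, 0, 0, 0, 0, 0, 0, 0, 0, 0, 8, 0]]

/-- Its transpose. -/
def t0 : List (List ℤ) :=
  [[8, 0, 0, 0, 0, 0, 0, 0, 0, 0, 0, 0, 0, 0, 0, 0, 0, 0, 0, 0, 0, 0, 0, 0],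
   [0, 0, 8, 0, 0, 0, 0, 0, 0, 0, 0, 0, 0, 0, 0, 0, 0, 0, 0, 0, 0, 0, 0, 0],
   [0, 0, 0, 0, 0, 0, 0, 0, 0, 0, 0, 0, 0, 0, 0, 0, 0, 8, 0, 0, 0, 0, 0, 0],
   [0, 0, 0, 0, 0, 0, 0, 0, 0, 0, 0, 0, 8, 0, 0, 0, 0, 0, 0, 0, 0, 0, 0, 0],
   [0, 0, 0, 0, 0, 8, 0, 0, 0, 0, 0, 0, 0, 0, 0, 0, 0, 0, 0, 0, 0, 0, 0, 0],
   [0, 0, 0, 0, 0, 0, 0, 0, 0, 0, 0, 8, 0, 0, 0, 0, 0, 0, 0, 0, 0, 0, 0, 0],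
   [0, 0, 0, 0, 0, 0, 0, 0, 0, 0, 0, 0, 0, 0, 0, 0, 0, 0, 0, 0, 0, 8, 0, 0],
   [0, 0, 0, 0, 0, 0, 0, 0, 8, 0, 0, 0, 0, 0, 0, 0, 0, 0, 0, 0, 0, 0, 0, 0],
   [0, 0, 0, 0, 0, 0, 0, 0, 0, 8, 0, 0, 0, 0, 0, 0, 0, 0, 0, 0, 0, 0, 0, 0],
   [0, 0, 0, 0, 0, 0, 0, 0, 0, 0, 0, 0, 0, 8, 0, 0, 0, 0, 0, 0, 0, 0, 0, 0],
   [0, 0, 0, 0, 0, 0, 0, 0, 0, 0, 0, 0, 0, 0, 0, 0, 8, 0, 0, 0, 0, 0, 0, 0],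
   [0, 0, 0, 0, 0, 0, 0, 0, 0, 0, 8, 0, 0, 0, 0, 0, 0, 0, 0, 0, 0, 0, 0, 0],
   [0, 0, 0, 0, 8, 0, 0, 0, 0, 0, 0, 0, 0, 0, 0, 0, 0, 0, 0, 0, 0, 0, 0, 0],
   [0, 8, 0, 0, 0, 0, 0, 0, 0, 0, 0, 0, 0, 0, 0, 0, 0, 0, 0, 0, 0, 0, 0, 0],
   [0, 0, 0, 0, 0, 0, 8, 0, 0, 0, 0, 0, 0, 0, 0, 0, 0, 0, 0, 0, 0, 0, 0, 0],
   [0, 0, 0, 0, 0, 0, 0, 0, 0, 0, 0, 0, 0, 0, 0, 8, 0, 0, 0, 0, 0, 0, 0, 0],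
   [0, 0, 0, 8, 0, 0, 0, 0, 0, 0, 0, 0, 0, 0, 0, 0, 0, 0, 0, 0, 0, 0, 0, 0],
   [0, 0, 0, 0, 0, 0, 0, 8, 0, 0, 0, 0, 0, 0, 0, 0, 0, 0, 0, 0, 0, 0, 0, 0],
   [0, 0, 0, 0, 0, 0, 0, 0, 0, 0, 0, 0, 0, 0, 0, 0, 0, 0, 0, 0, 0, 0, 8, 0],
   [0, 0, 0, 0, 0, 0, 0, 0, 0, 0, 0, 0, 0, 0, 0, 0, 0, 0, 8, 0, 0, 0, 0, 0],
   [0, 0, 0, 0, 0, 0, 0, 0, 0, 0, 0, 0, 0, 0, 0, 0, 0, 0, 0, 0, 8, 0, 0, 0],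
   [0, 0, 0, 0, 0, 0, 0, 0, 0, 0, 0, 0, 0, 0, 0, 0, 0, 0, 0, 8, 0, 0, 0, 0],
   [0, 0, 0, 0, 0, 0, 0, 0, 0, 0, 0, 0, 0, 0, 0, 0, 0, 0, 0, 0, 0, 0, 0, 8],
   [0, 0, 0, 0, 0, 0, 0, 0, 0, 0, 0, 0, 0, 0, 8, 0, 0, 0, 0, 0, 0, 0, 0, 0]]

/-- A matrix. -/
def m1 : List (List ℤ) :=
  [[-4, 0, 0, 0, 0, 0, -2, 0, 0, 0, 0, 0, 0, 0, -2, -2, 0, 0, -2, -2, 4, -2, -2, -2],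
   [0, 0, 0, 4, 0, 0, -2, 0, -4, 0, 0, 0, 0, 0, 2, 2, 0, 0, 2, -2, 0, -2, -2, 2],
   [0, 0, 0, 0, 0, 0, 2, 0, 0, -4, 0, 0, 4, 0, 2, 2, 0, 0, -2, -2, 0, -2, 2, -2],
   [-2, -2, -2, -2, -2, -2, 0, 2, -2, 2, 2, -2, 2, -2, 0, 0, 2, 2, 0, 0, -2, 0, 0, 0],
   [-2, 2, -2, 2, -2, 2, 0, -2, 2, 2, -2, -2, 2, -2, 0, 0, -2, -2, 0, 0, -2, 0, 0, 0],
   [-2, -2, 2, -2, 2, -2, 0, -2, -2, 2, -2, 2, 2, 2, 0, 0, -2, -2, 0, 0, -2, 0, 0, 0],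
   [0, 0, -4, 0, 0, 0, -2, 0, 0, 0, 0, 4, 0, 0, 2, -2, 0, 0, -2, -2, 0, 2, 2, 2],
   [0, -4, 0, 0, 0, 4, -2, 0, 0, 0, 0, 0, 0, 0, 2, 2, 0, 0, -2, 2, 0, 2, -2, -2],
   [0, 0, -4, 0, 0, 0, 2, 0, 0, 0, 0, 4, 0, 0, -2, 2, 0, 0, 2, 2, 0, -2, -2, -2],
   [0, 0, 0, 0, 0, 0, -2, 0, 0, 0, 4, 0, 0, 0, -2, 2, 0, -4, 2, -2, 0, 2, 2, -2],
   [-2, 2, 2, -2, -2, 2, 0, 2, -2, -2, -2, 2, -2, -2, 0, 0, 2, -2, 0, 0, -2, 0, 0, 0],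
   [-2, 2, -2, -2, 2, 2, 0, -2, -2, -2, 2, -2, -2, 2, 0, 0, -2, 2, 0, 0, -2, 0, 0, 0],
   [-2, -2, -2, 2, 2, -2, 0, 2, 2, -2, -2, -2, -2, 2, 0, 0, 2, -2, 0, 0, -2, 0, 0, 0],
   [0, 0, 0, 0, 0, 0, -2, -4, 0, 0, 0, 0, 0, 0, -2, 2, 4, 0, -2, 2, 0, -2, 2, 2],
   [0, -4, 0, 0, 0, 4, 2, 0, 0, 0, 0, 0, 0, 0, -2, -2, 0, 0, 2, -2, 0, -2, 2, 2],
   [-4, 0, 0, 0, 0, 0, 2, 0, 0, 0, 0, 0, 0, 0, 2, 2, 0, 0, 2, 2, 4, 2, 2, 2],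
   [-2, -2, 2, 2, -2, -2, 0, -2, 2, -2, 2, 2, -2, -2, 0, 0, -2, 2, 0, 0, -2, 0, 0, 0],
   [0, 0, 0, 0, 4, 0, 2, 0, 0, 0, 0, 0, 0, -4, -2, 2, 0, 0, -2, -2, 0, 2, -2, 2],
   [0, 0, 0, 4, 0, 0, 2, 0, -4, 0, 0, 0, 0, 0, -2, -2, 0, 0, -2, 2, 0, 2, 2, -2],
   [0, 0, 0, 0, 0, 0, 2, -4, 0, 0, 0, 0, 0, 0, 2, -2, 4, 0, 2, -2, 0, 2, -2, -2],
   [-2, 2, 2, 2, 2, 2, 0, 2, 2, 2, 2, 2, 2, 2, 0, 0, 2, 2, 0, 0, -2, 0, 0, 0],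
   [0, 0, 0, 0, 0, 0, 2, 0, 0, 0, 4, 0, 0, 0, 2, -2, 0, -4, -2, 2, 0, -2, -2, 2],
   [0, 0, 0, 0, 0, 0, -2, 0, 0, -4, 0, 0, 4, 0, -2, -2, 0, 0, 2, 2, 0, 2, -2, 2],
   [0, 0, 0, 0, 4, 0, -2, 0, 0, 0, 0, 0, 0, -4, 2, -2, 0, 0, 2, 2, 0, -2, 2, -2]]

/-- Its transpose. -/
def t1 : List (List ℤ) :=
  [[-4, 0, 0, -2, -2, -2, 0, 0, 0, 0, -2, -2, -2, 0, 0, -4, -2, 0, 0, 0, -2, 0, 0, 0],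
   [0, 0, 0, -2, 2, -2, 0, -4, 0, 0, 2, 2, -2, 0, -4, 0, -2, 0, 0, 0, 2, 0, 0, 0],
   [0, 0, 0, -2, -2, 2, -4, 0, -4, 0, 2, -2, -2, 0, 0, 0, 2, 0, 0, 0, 2, 0, 0, 0],
   [0, 4, 0, -2, 2, -2, 0, 0, 0, 0, -2, -2, 2, 0, 0, 0, 2, 0, 4, 0, 2, 0, 0, 0],
   [0, 0, 0, -2, -2, 2, 0, 0, 0, 0, -2, 2, 2, 0, 0, 0, -2, 4, 0, 0, 2, 0, 0, 4],
   [0, 0, 0, -2, 2, -2, 0, 4, 0, 0, 2, 2, -2, 0, 4, 0, -2, 0, 0, 0, 2, 0, 0, 0],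
   [-2, -2, 2, 0, 0, 0, -2, -2, 2, -2, 0, 0, 0, -2, 2, 2, 0, 2, 2, 2, 0, 2, -2, -2],
   [0, 0, 0, 2, -2, -2, 0, 0, 0, 0, 2, -2, 2, -4, 0, 0, -2, 0, 0, -4, 2, 0, 0, 0],
   [0, -4, 0, -2, 2, -2, 0, 0, 0, 0, -2, -2, 2, 0, 0, 0, 2, 0, -4, 0, 2, 0, 0, 0],
   [0, 0, -4, 2, 2, 2, 0, 0, 0, 0, -2, -2, -2, 0, 0, 0, -2, 0, 0, 0, 2, 0, -4, 0],
   [0, 0, 0, 2, -2, -2, 0, 0, 0, 4, -2, 2, -2, 0, 0, 0, 2, 0, 0, 0, 2, 4, 0, 0],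
   [0, 0, 0, -2, -2, 2, 4, 0, 4, 0, 2, -2, -2, 0, 0, 0, 2, 0, 0, 0, 2, 0, 0, 0],
   [0, 0, 4, 2, 2, 2, 0, 0, 0, 0, -2, -2, -2, 0, 0, 0, -2, 0, 0, 0, 2, 0, 4, 0],
   [0, 0, 0, -2, -2, 2, 0, 0, 0, 0, -2, 2, 2, 0, 0, 0, -2, -4, 0, 0, 2, 0, 0, -4],
   [-2, 2, 2, 0, 0, 0, 2, 2, -2, -2, 0, 0, 0, -2, -2, 2, 0, -2, -2, 2, 0, 2, -2, 2],
   [-2, 2, 2, 0, 0, 0, -2, 2, 2, 2, 0, 0, 0, 2, -2, 2, 0, 2, -2, -2, 0, -2, -2, -2],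
   [0, 0, 0, 2, -2, -2, 0, 0, 0, 0, 2, -2, 2, 4, 0, 0, -2, 0, 0, 4, 2, 0, 0, 0],
   [0, 0, 0, 2, -2, -2, 0, 0, 0, -4, -2, 2, -2, 0, 0, 0, 2, 0, 0, 0, 2, -4, 0, 0],
   [-2, 2, -2, 0, 0, 0, -2, -2, 2, 2, 0, 0, 0, -2, 2, 2, 0, -2, -2, 2, 0, -2, 2, 2],
   [-2, -2, -2, 0, 0, 0, -2, 2, 2, -2, 0, 0, 0, 2, -2, 2, 0, -2, 2, -2, 0, 2, 2, 2],
   [4, 0, 0, -2, -2, -2, 0, 0, 0, 0, -2, -2, -2, 0, 0, 4, -2, 0, 0, 0, -2, 0, 0, 0],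
   [-2, -2, -2, 0, 0, 0, 2, 2, -2, 2, 0, 0, 0, -2, -2, 2, 0, 2, 2, 2, 0, -2, 2, -2],
   [-2, -2, 2, 0, 0, 0, 2, -2, -2, 2, 0, 0, 0, 2, 2, 2, 0, -2, 2, -2, 0, -2, -2, 2],
   [-2, 2, -2, 0, 0, 0, 2, -2, -2, -2, 0, 0, 0, 2, 2, 2, 0, 2, -2, -2, 0, 2, 2, -2]]

/-- A matrix. -/
def m2 : List (List ℤ) :=
  [[-2, 2, 2, 2, 2, 2, 0, 2, 2, 2, 2, 2, 2, 2, 0, 0, 2, 2, 0, 0, -2, 0, 0, 0],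
   [-2, 2, 2, -2, -2, 2, 0, 2, -2, -2, -2, 2, -2, -2, 0, 0, 2, -2, 0, 0, -2, 0, 0, 0],
   [-2, -2, -2, -2, -2, -2, 0, 2, -2, 2, 2, -2, 2, -2, 0, 0, 2, 2, 0, 0, -2, 0, 0, 0],
   [0, -4, 0, 0, 0, 4, 2, 0, 0, 0, 0, 0, 0, 0, -2, -2, 0, 0, 2, -2, 0, -2, 2, 2],
   [0, 0, 0, 4, 0, 0, 2, 0, -4, 0, 0, 0, 0, 0, -2, -2, 0, 0, -2, 2, 0, 2, 2, -2],
   [0, 0, 0, 0, 4, 0, -2, 0, 0, 0, 0, 0, 0, -4, 2, -2, 0, 0, 2, 2, 0, -2, 2, -2],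
   [0, -4, 0, 0, 0, 4, -2, 0, 0, 0, 0, 0, 0, 0, 2, 2, 0, 0, -2, 2, 0, 2, -2, -2],
   [-2, 2, -2, -2, 2, 2, 0, -2, -2, -2, 2, -2, -2, 2, 0, 0, -2, 2, 0, 0, -2, 0, 0, 0],
   [-2, -2, 2, 2, -2, -2, 0, -2, 2, -2, 2, 2, -2, -2, 0, 0, -2, 2, 0, 0, -2, 0, 0, 0],
   [-2, -2, -2, 2, 2, -2, 0, 2, 2, -2, -2, -2, -2, 2, 0, 0, 2, -2, 0, 0, -2, 0, 0, 0],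
   [0, 0, 0, 0, 0, 0, 2, -4, 0, 0, 0, 0, 0, 0, 2, -2, 4, 0, 2, -2, 0, 2, -2, -2],
   [0, 0, -4, 0, 0, 0, -2, 0, 0, 0, 0, 4, 0, 0, 2, -2, 0, 0, -2, -2, 0, 2, 2, 2],
   [0, 0, 0, 0, 0, 0, 2, 0, 0, 0, 4, 0, 0, 0, 2, -2, 0, -4, -2, 2, 0, -2, -2, 2],
   [-2, -2, 2, -2, 2, -2, 0, -2, -2, 2, -2, 2, 2, 2, 0, 0, -2, -2, 0, 0, -2, 0, 0, 0],
   [0, 0, 0, 0, 0, 0, 2, 0, 0, -4, 0, 0, 4, 0, 2, 2, 0, 0, -2, -2, 0, -2, 2, -2],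
   [-4, 0, 0, 0, 0, 0, -2, 0, 0, 0, 0, 0, 0, 0, -2, -2, 0, 0, -2, -2, 4, -2, -2, -2],
   [0, 0, 0, 0, 0, 0, -2, 0, 0, -4, 0, 0, 4, 0, -2, -2, 0, 0, 2, 2, 0, 2, -2, 2],
   [-2, 2, -2, 2, -2, 2, 0, -2, 2, 2, -2, -2, 2, -2, 0, 0, -2, -2, 0, 0, -2, 0, 0, 0],
   [0, 0, 0, 0, 4, 0, 2, 0, 0, 0, 0, 0, 0, -4, -2, 2, 0, 0, -2, -2, 0, 2, -2, 2],
   [0, 0, 0, 4, 0, 0, -2, 0, -4, 0, 0, 0, 0, 0, 2, 2, 0, 0, 2, -2, 0, -2, -2, 2],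
   [-4, 0, 0, 0, 0, 0, 2, 0, 0, 0, 0, 0, 0, 0, 2, 2, 0, 0, 2, 2, 4, 2, 2, 2],
   [0, 0, 0, 0, 0, 0, -2, 0, 0, 0, 4, 0, 0, 0, -2, 2, 0, -4, 2, -2, 0, 2, 2, -2],
   [0, 0, -4, 0, 0, 0, 2, 0, 0, 0, 0, 4, 0, 0, -2, 2, 0, 0, 2, 2, 0, -2, -2, -2],
   [0, 0, 0, 0, 0, 0, -2, -4, 0, 0, 0, 0, 0, 0, -2, 2, 4, 0, -2, 2, 0, -2, 2, 2]]

/-- Its transpose. -/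
def t2 : List (List ℤ) :=
  [[-2, -2, -2, 0, 0, 0, 0, -2, -2, -2, 0, 0, 0, -2, 0, -4, 0, -2, 0, 0, -4, 0, 0, 0],
   [2, 2, -2, -4, 0, 0, -4, 2, -2, -2, 0, 0, 0, -2, 0, 0, 0, 2, 0, 0, 0, 0, 0, 0],
   [2, 2, -2, 0, 0, 0, 0, -2, 2, -2, 0, -4, 0, 2, 0, 0, 0, -2, 0, 0, 0, 0, -4, 0],
   [2, -2, -2, 0, 4, 0, 0, -2, 2, 2, 0, 0, 0, -2, 0, 0, 0, 2, 0, 4, 0, 0, 0, 0],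
   [2, -2, -2, 0, 0, 4, 0, 2, -2, 2, 0, 0, 0, 2, 0, 0, 0, -2, 4, 0, 0, 0, 0, 0],
   [2, 2, -2, 4, 0, 0, 4, 2, -2, -2, 0, 0, 0, -2, 0, 0, 0, 2, 0, 0, 0, 0, 0, 0],
   [0, 0, 0, 2, 2, -2, -2, 0, 0, 0, 2, -2, 2, 0, 2, -2, -2, 0, 2, -2, 2, -2, 2, -2],
   [2, 2, 2, 0, 0, 0, 0, -2, -2, 2, -4, 0, 0, -2, 0, 0, 0, -2, 0, 0, 0, 0, 0, -4],
   [2, -2, -2, 0, -4, 0, 0, -2, 2, 2, 0, 0, 0, -2, 0, 0, 0, 2, 0, -4, 0, 0, 0, 0],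
   [2, -2, 2, 0, 0, 0, 0, -2, -2, -2, 0, 0, 0, 2, -4, 0, -4, 2, 0, 0, 0, 0, 0, 0],
   [2, -2, 2, 0, 0, 0, 0, 2, 2, -2, 0, 0, 4, -2, 0, 0, 0, -2, 0, 0, 0, 4, 0, 0],
   [2, 2, -2, 0, 0, 0, 0, -2, 2, -2, 0, 4, 0, 2, 0, 0, 0, -2, 0, 0, 0, 0, 4, 0],
   [2, -2, 2, 0, 0, 0, 0, -2, -2, -2, 0, 0, 0, 2, 4, 0, 4, 2, 0, 0, 0, 0, 0, 0],
   [2, -2, -2, 0, 0, -4, 0, 2, -2, 2, 0, 0, 0, 2, 0, 0, 0, -2, -4, 0, 0, 0, 0, 0],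
   [0, 0, 0, -2, -2, 2, 2, 0, 0, 0, 2, 2, 2, 0, 2, -2, -2, 0, -2, 2, 2, -2, -2, -2],
   [0, 0, 0, -2, -2, -2, 2, 0, 0, 0, -2, -2, -2, 0, 2, -2, -2, 0, 2, 2, 2, 2, 2, 2],
   [2, 2, 2, 0, 0, 0, 0, -2, -2, 2, 4, 0, 0, -2, 0, 0, 0, -2, 0, 0, 0, 0, 0, 4],
   [2, -2, 2, 0, 0, 0, 0, 2, 2, -2, 0, 0, -4, -2, 0, 0, 0, -2, 0, 0, 0, -4, 0, 0],
   [0, 0, 0, 2, -2, 2, -2, 0, 0, 0, 2, -2, -2, 0, -2, -2, 2, 0, -2, 2, 2, 2, 2, -2],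
   [0, 0, 0, -2, 2, 2, 2, 0, 0, 0, -2, -2, 2, 0, -2, -2, 2, 0, -2, -2, 2, -2, 2, 2],
   [-2, -2, -2, 0, 0, 0, 0, -2, -2, -2, 0, 0, 0, -2, 0, 4, 0, -2, 0, 0, 4, 0, 0, 0],
   [0, 0, 0, -2, 2, -2, 2, 0, 0, 0, 2, 2, -2, 0, -2, -2, 2, 0, 2, -2, 2, 2, -2, -2],
   [0, 0, 0, 2, 2, 2, -2, 0, 0, 0, -2, 2, -2, 0, 2, -2, -2, 0, -2, -2, 2, 2, -2, 2],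
   [0, 0, 0, 2, -2, -2, -2, 0, 0, 0, -2, 2, 2, 0, -2, -2, 2, 0, 2, 2, 2, -2, -2, 2]]

/-- The elements: generators of the subgroup, then the fusing elements. -/
def els : List (List (List ℤ) × List (List ℤ)) :=
  [(m0, t0), (m1, t1), (m2, t2)]

/-- The certificate. -/
def cert : Schur.Pc.Cert where
  p := 7
  n := 2
  rules := [([0, 0, 0, 0, 0, 0, 0], []), ([1, 0], [0, 1]), ([1, 1, 1, 1, 1, 1, 1], [])]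
  fus := [([[0], [1]], [[0, 0], [1, 1]])]
  fusW := 2
  assoc := []
  fusEq := [(0, [1, 0], [0, 1]), (0, [0, 0, 0, 0, 0, 0, 0], []), (0, [1, 1, 1, 1, 1, 1, 1], [])]
  eqs := [([1, 1, 1, 1, 4, 3], [3, 4, 1]), ([0, 0, 3, 3, 3, 3, 3, 3, 3], [0]), ([2, 2, 4, 4, 4, 4, 4, 4, 4], [2])]
  e := 0
  adj := [[], []]
  combo := [[(1, 1)], [(0, 5)], [(2, 1)]]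
  fuel := 14

end CfsgLib.CoOneMult.SevenData
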