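import Cfsg.Agent.CoOneMult.Odd
import Cfsg.Agent.CoOneMult.SevenData

/-!
The 7-part of the multiplier of the lattice group vanishes.
-/

set_option autoImplicit false
set_option maxRecDepth 100000
set_option Elab.async false

namespace CfsgLib.CoOneMult.SevenData

open Cfsg CfsgLib.Leech

theorem ok0 : matOK (m0, t0) = true := by decide +kernel

theorem ok1 : matOK (m1, t1) = true := by decide +kernel

theorem ok2 : matOK (m2, t2) = true := by decide +kernel

theorem els_ok : els.all matOK = true := by
  simp only [els, List.all_cons, List.all_nil, ok0, ok1, ok2, Bool.and_self]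

theorem rels_ok : relsOK els cert = true := by decide +kernel

theorem shape_ok : Schur.Pc.shaped cert.p cert.n cert.rules = true := by decide +kernel

theorem eqs_ok : (cert.equations == cert.eqs) = true := by decide +kernel

theorem rule0_ok : ∀ r < 3, cert.ruleCheck (0 + r) (cert.rules.getD (0 + r) ([], [])) = true := by
  decide +kernel

theorem cert_ok : cert.check = true := by
  simp only [Schur.Pc.Cert.check, shape_ok, eqs_ok, Bool.true_and, List.all_eq_true, List.mem_range]
  intro r hr
  have hlen : cert.rules.length = 3 := rfl
  rw [hlen] at hr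
  have := rule0_ok (r - 0) (by omega)
  rwa [show 0 + (r - 0) = r by omega] at this

theorem keys_ok : keysOK els (Schur.Pc.normalWords cert.p cert.n 0) = true := by decide +kernel

theorem card_ok : cert.p ^ cert.n ≤ Nat.card (Schur.Pc.tailSubgroup (elsOf els) cert.n 0) :=
  card_ge_flat els_ok cert.p cert.n keys_ok

/-- No stem extension has a kernel of exponent 7. -/
theorem ker_eq_bot {Γ : Type} [Group Γ] [Finite Γ] (σ : Γ →* Co0) (hσ : Cfsg.IsStemExtension σ)
    (hexp : ∀ z ∈ σ.ker, z ^ 7 = 1) : σ.ker = ⊥ :=
  ker_eq_bot_of_cert els_ok cert rels_ok cert_ok (by decide) card_ok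
    (q := 8315553613086720000 / 7 ^ cert.n) (by rw [card_Co0]; decide +kernel) (by decide +kernel)
    σ hσ hexp

end CfsgLib.CoOneMult.SevenData
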