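import Cfsg.Agent.Schur.PcCover

/-!
Data: a Sylow 3-subgroup of the lattice group by matrices (each with its transpose), elements giving
fusion, and the certificate for the multiplier.
-/

set_option autoImplicit false
set_option maxRecDepth 20000

namespace CfsgLib.CoOneMult.ThreeData

/-- A matrix. -/
def m0 : List (List ℤ) :=
  [[0, 2, 0, 0, 0, 0, -2, 0, 2, -2, -2, -2, 0, 2, 0, -2, -2, 4, 0, 0, 2, -2, 0, 2],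
   [-4, -2, 0, 0, 0, 0, -2, 0, -2, -2, -2, -2, 0, 2, 0, -2, 2, 0, 0, 0, -2, 2, 0, -2],
   [0, -2, 0, 0, 0, 0, -2, 0, 2, 2, 2, -2, 0, -2, 4, -2, 2, 0, 0, 0, 2, -2, 0, -2],
   [0, 2, 0, 0, -4, 0, -2, 0, 2, 2, 2, 2, 0, 2, 0, -2, -2, 0, 0, 0, -2, 2, 0, -2],
   [-2, 0, 2, 2, -2, 2, 4, -2, 0, 0, 0, 0, 2, 0, 2, 0, 0, 2, 2, -2, 0, 0, -2, 0],
   [0, 2, 0, 0, 0, 0, 2, 0, -2, 2, -2, -2, 0, -2, 0, -2, -2, 0, 0, 4, 2, 2, 0, -2],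
   [0, 2, 0, -4, 0, 0, 2, 0, 2, -2, 2, -2, 0, -2, 0, -2, 2, 0, 0, 0, -2, 2, 0, 2],
   [0, -2, 0, 0, 0, 0, -2, 0, -2, -2, 2, 2, 0, -2, 0, -2, -2, 0, 4, 0, 2, 2, 0, 2],
   [-2, 0, -2, -2, 2, -2, 0, -2, 0, 4, 0, 0, -2, 0, -2, 0, 0, 2, 2, -2, 0, 0, -2, 0],
   [2, 0, 2, 2, 2, -2, 0, 2, 0, 0, 0, 0, -2, 0, 2, 0, 0, 2, 2, 2, -4, 0, -2, 0],
   [0, 2, 0, 0, 0, 4, -2, 0, -2, 2, -2, 2, 0, -2, 0, -2, 2, 0, 0, 0, -2, -2, 0, 2],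
   [-2, 0, 2, -2, -2, -2, 0, 2, 0, 0, 0, 0, 2, 0, -2, 0, 0, -2, 2, 2, 0, -4, -2, 0],
   [-2, 0, -2, -2, -2, 2, 0, 2, 0, 0, 0, 0, -2, 0, 2, 4, 0, 2, 2, 2, 0, 0, 2, 0],
   [2, 0, -2, 2, -2, 2, 0, 2, 0, 0, 0, -4, -2, 0, -2, 0, 0, -2, 2, -2, 0, 0, -2, 0],
   [-2, 0, 2, -2, 2, 2, 0, 2, 0, 0, 0, 0, -2, 0, 2, 0, -4, -2, -2, -2, 0, 0, -2, 0],
   [0, 2, 0, 0, 0, 0, -2, 0, 2, -2, -2, 2, 0, -2, 0, 2, 2, 0, 0, 0, 2, 2, -4, -2],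
   [0, -2, -4, 0, 0, 0, 2, 0, 2, -2, -2, 2, 0, -2, 0, -2, -2, 0, 0, 0, -2, -2, 0, -2],
   [2, -4, 2, -2, -2, 2, 0, -2, 0, 0, 0, 0, -2, 0, -2, 0, 0, 2, -2, 2, 0, 0, -2, 0],
   [-2, 0, -2, 2, -2, -2, 0, -2, 0, 0, 0, 0, -2, 0, 2, 0, 0, -2, -2, 2, 0, 0, -2, 4],
   [-2, 0, -2, 2, 2, 2, 0, 2, 0, 0, 4, 0, 2, 0, -2, 0, 0, 2, -2, 2, 0, 0, -2, 0],
   [2, 0, -2, -2, -2, -2, 0, 2, -4, 0, 0, 0, 2, 0, 2, 0, 0, 2, -2, -2, 0, 0, -2, 0],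
   [2, 0, -2, -2, 2, 2, 0, -2, 0, 0, 0, 0, 2, 4, 2, 0, 0, -2, 2, 2, 0, 0, -2, 0],
   [0, 2, 0, 0, 0, 0, 2, 0, -2, -2, 2, 2, -4, 2, 0, -2, 2, 0, 0, 0, 2, -2, 0, -2],
   [0, -2, 0, 0, 0, 0, 2, 4, 2, 2, -2, 2, 0, 2, 0, -2, 2, 0, 0, 0, 2, 2, 0, 2]]

/-- Its transpose. -/
def t0 : List (List ℤ) :=
  [[0, -4, 0, 0, -2, 0, 0, 0, -2, 2, 0, -2, -2, 2, -2, 0, 0, 2, -2, -2, 2, 2, 0, 0],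
   [2, -2, -2, 2, 0, 2, 2, -2, 0, 0, 2, 0, 0, 0, 0, 2, -2, -4, 0, 0, 0, 0, 2, -2],
   [0, 0, 0, 0, 2, 0, 0, 0, -2, 2, 0, 2, -2, -2, 2, 0, -4, 2, -2, -2, -2, -2, 0, 0],
   [0, 0, 0, 0, 2, 0, -4, 0, -2, 2, 0, -2, -2, 2, -2, 0, 0, -2, 2, 2, -2, -2, 0, 0],
   [0, 0, 0, -4, -2, 0, 0, 0, 2, 2, 0, -2, -2, -2, 2, 0, 0, -2, -2, 2, -2, 2, 0, 0],
   [0, 0, 0, 0, 2, 0, 0, 0, -2, -2, 4, -2, 2, 2, 2, 0, 0, 2, -2, 2, -2, 2, 0, 0],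
   [-2, -2, -2, -2, 4, 2, 2, -2, 0, 0, -2, 0, 0, 0, 0, -2, 2, 0, 0, 0, 0, 0, 2, 2],
   [0, 0, 0, 0, -2, 0, 0, 0, -2, 2, 0, 2, 2, 2, 2, 0, 0, -2, -2, 2, 2, -2, 0, 4],
   [2, -2, 2, 2, 0, -2, 2, -2, 0, 0, -2, 0, 0, 0, 0, 2, 2, 0, 0, 0, -4, 0, -2, 2],
   [-2, -2, 2, 2, 0, 2, -2, -2, 4, 0, 2, 0, 0, 0, 0, -2, -2, 0, 0, 0, 0, 0, -2, 2],
   [-2, -2, 2, 2, 0, -2, 2, 2, 0, 0, -2, 0, 0, 0, 0, -2, -2, 0, 0, 4, 0, 0, 2, -2],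
   [-2, -2, -2, 2, 0, -2, -2, 2, 0, 0, 2, 0, 0, -4, 0, 2, 2, 0, 0, 0, 0, 0, 2, 2],
   [0, 0, 0, 0, 2, 0, 0, 0, -2, -2, 0, 2, -2, -2, -2, 0, 0, -2, -2, 2, 2, 2, -4, 0],
   [2, 2, -2, 2, 0, -2, -2, -2, 0, 0, -2, 0, 0, 0, 0, -2, -2, 0, 0, 0, 0, 4, 2, 2],
   [0, 0, 4, 0, 2, 0, 0, 0, -2, 2, 0, -2, 2, -2, 2, 0, 0, -2, 2, -2, 2, 2, 0, 0],
   [-2, -2, -2, -2, 0, -2, -2, -2, 0, 0, -2, 0, 4, 0, 0, 2, -2, 0, 0, 0, 0, 0, -2, -2],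
   [-2, 2, 2, -2, 0, -2, 2, -2, 0, 0, 2, 0, 0, 0, -4, 2, -2, 0, 0, 0, 0, 0, 2, 2],
   [4, 0, 0, 0, 2, 0, 0, 0, 2, 2, 0, -2, 2, -2, -2, 0, 0, 2, -2, 2, 2, -2, 0, 0],
   [0, 0, 0, 0, 2, 0, 0, 4, 2, 2, 0, 2, 2, 2, -2, 0, 0, -2, -2, -2, -2, 2, 0, 0],
   [0, 0, 0, 0, -2, 4, 0, 0, -2, 2, 0, 2, 2, -2, -2, 0, 0, 2, 2, 2, -2, 2, 0, 0],
   [2, -2, 2, -2, 0, 2, -2, 2, 0, -4, -2, 0, 0, 0, 0, 2, -2, 0, 0, 0, 0, 0, 2, 2],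
   [-2, 2, -2, 2, 0, 2, 2, 2, 0, 0, -2, -4, 0, 0, 0, 2, -2, 0, 0, 0, 0, 0, -2, 2],
   [0, 0, 0, 0, -2, 0, 0, 0, -2, -2, 0, -2, 2, -2, -2, -4, 0, -2, -2, -2, -2, -2, 0, 0],
   [2, -2, -2, -2, 0, -2, 2, 2, 0, 0, 2, 0, 0, 0, 0, -2, -2, 0, 4, 0, 0, 0, -2, 2]]

/-- A matrix. -/
def m1 : List (List ℤ) :=
  [[4, -2, 0, 0, -2, 0, 0, -2, 2, 0, -2, 0, 0, -2, -2, 0, 0, 4, 0, 0, 0, 0, 2, 0],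
   [-2, 0, 2, -2, 0, 2, 2, 0, 0, 2, 0, 2, -2, 0, 0, -2, -2, 2, 2, 2, -2, 2, 0, 2],
   [-2, 0, 2, -2, 0, -2, -2, 0, 0, 2, 0, -2, -2, 0, 0, -2, 2, 2, 2, -2, 2, -2, 0, -2],
   [0, -2, 0, 4, -2, 0, 0, 2, 2, 0, 2, 0, 0, 2, 2, 0, 0, 0, 4, 0, 0, 0, 2, 0],
   [-2, 0, 2, 2, 0, 2, 2, 0, 0, 2, 0, -2, 2, 0, 0, 2, 2, 2, -2, -2, -2, 2, 0, -2],
   [0, 2, 0, 0, 2, 4, 0, -2, 2, 0, 2, 0, 0, 2, -2, 0, 0, 0, 0, 0, 4, 0, 2, 0],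
   [2, 0, -2, -2, 0, 2, 2, 0, 0, -2, 0, -2, -2, 0, 0, -2, 2, -2, 2, -2, -2, 2, 0, -2],
   [0, -2, 0, 0, 2, 0, -4, 2, -2, 0, 2, 0, 0, -2, -2, 0, 0, 0, 0, 0, 0, 4, 2, 0],
   [0, -2, -4, 0, 2, 0, 0, -2, 2, 4, 2, 0, 0, -2, 2, 0, 0, 0, 0, 0, 0, 0, -2, 0],
   [2, 0, 2, -2, 0, 2, -2, 0, 0, 2, 0, 2, 2, 0, 0, 2, 2, -2, 2, -2, -2, -2, 0, 2],
   [-2, 0, -2, 2, 0, 2, -2, 0, 0, -2, 0, 2, -2, 0, 0, -2, 2, 2, -2, -2, -2, -2, 0, 2],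
   [0, 2, 0, 0, -2, 0, 0, 2, 2, 0, 2, 4, 0, -2, -2, 0, 0, 0, 0, 0, 0, 0, -2, -4],
   [0, 2, 0, 0, -2, 0, 0, 2, 2, 0, 2, -4, 0, -2, -2, 0, 0, 0, 0, 0, 0, 0, -2, 4],
   [-2, 0, -2, -2, 0, 2, -2, 0, 0, -2, 0, -2, 2, 0, 0, 2, -2, 2, 2, 2, -2, -2, 0, -2],
   [0, -2, 4, 0, 2, 0, 0, -2, 2, -4, 2, 0, 0, -2, 2, 0, 0, 0, 0, 0, 0, 0, -2, 0],
   [0, -2, 0, 0, 2, 0, 0, 2, 2, 0, -2, 0, -4, 2, -2, 4, 0, 0, 0, 0, 0, 0, -2, 0],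
   [0, 2, 0, 0, 2, 0, 0, 2, 2, 0, -2, 0, 0, -2, 2, 0, 4, 0, 0, 4, 0, 0, 2, 0],
   [0, -2, 0, 0, -2, 4, 0, 2, -2, 0, -2, 0, 0, -2, 2, 0, 0, 0, 0, 0, 4, 0, -2, 0],
   [0, 2, 0, 4, 2, 0, 0, -2, -2, 0, -2, 0, 0, -2, -2, 0, 0, 0, 4, 0, 0, 0, -2, 0],
   [0, -2, 0, 0, -2, 0, 0, -2, -2, 0, 2, 0, 0, 2, -2, 0, 4, 0, 0, 4, 0, 0, -2, 0],
   [4, 2, 0, 0, 2, 0, 0, 2, -2, 0, 2, 0, 0, 2, 2, 0, 0, 4, 0, 0, 0, 0, -2, 0],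
   [-2, 0, -2, -2, 0, -2, 2, 0, 0, -2, 0, 2, 2, 0, 0, 2, 2, 2, 2, -2, 2, 2, 0, 2],
   [0, -2, 0, 0, 2, 0, 4, 2, -2, 0, 2, 0, 0, -2, -2, 0, 0, 0, 0, 0, 0, -4, 2, 0],
   [0, -2, 0, 0, 2, 0, 0, 2, 2, 0, -2, 0, 4, 2, -2, -4, 0, 0, 0, 0, 0, 0, -2, 0]]

/-- Its transpose. -/
def t1 : List (List ℤ) :=
  [[4, -2, -2, 0, -2, 0, 2, 0, 0, 2, -2, 0, 0, -2, 0, 0, 0, 0, 0, 0, 4, -2, 0, 0],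
   [-2, 0, 0, -2, 0, 2, 0, -2, -2, 0, 0, 2, 2, 0, -2, -2, 2, -2, 2, -2, 2, 0, -2, -2],
   [0, 2, 2, 0, 2, 0, -2, 0, -4, 2, -2, 0, 0, -2, 4, 0, 0, 0, 0, 0, 0, -2, 0, 0],
   [0, -2, -2, 4, 2, 0, -2, 0, 0, -2, 2, 0, 0, -2, 0, 0, 0, 0, 4, 0, 0, -2, 0, 0],
   [-2, 0, 0, -2, 0, 2, 0, 2, 2, 0, 0, -2, -2, 0, 2, 2, 2, -2, 2, -2, 2, 0, 2, 2],
   [0, 2, -2, 0, 2, 4, 2, 0, 0, 2, 2, 0, 0, 2, 0, 0, 0, 4, 0, 0, 0, -2, 0, 0],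
   [0, 2, -2, 0, 2, 0, 2, -4, 0, -2, -2, 0, 0, -2, 0, 0, 0, 0, 0, 0, 0, 2, 4, 0],
   [-2, 0, 0, 2, 0, -2, 0, 2, -2, 0, 0, 2, 2, 0, -2, 2, 2, 2, -2, -2, 2, 0, 2, 2],
   [2, 0, 0, 2, 0, 2, 0, -2, 2, 0, 0, 2, 2, 0, 2, 2, 2, -2, -2, -2, -2, 0, -2, 2],
   [0, 2, 2, 0, 2, 0, -2, 0, 4, 2, -2, 0, 0, -2, -4, 0, 0, 0, 0, 0, 0, -2, 0, 0],
   [-2, 0, 0, 2, 0, 2, 0, 2, 2, 0, 0, 2, 2, 0, 2, -2, -2, -2, -2, 2, 2, 0, 2, -2],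
   [0, 2, -2, 0, -2, 0, -2, 0, 0, 2, 2, 4, -4, -2, 0, 0, 0, 0, 0, 0, 0, 2, 0, 0],
   [0, -2, -2, 0, 2, 0, -2, 0, 0, 2, -2, 0, 0, 2, 0, -4, 0, 0, 0, 0, 0, 2, 0, 4],
   [-2, 0, 0, 2, 0, 2, 0, -2, -2, 0, 0, -2, -2, 0, -2, 2, -2, -2, -2, 2, 2, 0, -2, 2],
   [-2, 0, 0, 2, 0, -2, 0, -2, 2, 0, 0, -2, -2, 0, 2, -2, 2, 2, -2, -2, 2, 0, -2, -2],
   [0, -2, -2, 0, 2, 0, -2, 0, 0, 2, -2, 0, 0, 2, 0, 4, 0, 0, 0, 0, 0, 2, 0, -4],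
   [0, -2, 2, 0, 2, 0, 2, 0, 0, 2, 2, 0, 0, -2, 0, 0, 4, 0, 0, 4, 0, 2, 0, 0],
   [4, 2, 2, 0, 2, 0, -2, 0, 0, -2, 2, 0, 0, 2, 0, 0, 0, 0, 0, 0, 4, 2, 0, 0],
   [0, 2, 2, 4, -2, 0, 2, 0, 0, 2, -2, 0, 0, 2, 0, 0, 0, 0, 4, 0, 0, 2, 0, 0],
   [0, 2, -2, 0, -2, 0, -2, 0, 0, -2, -2, 0, 0, 2, 0, 0, 4, 0, 0, 4, 0, -2, 0, 0],
   [0, -2, 2, 0, -2, 4, -2, 0, 0, -2, -2, 0, 0, -2, 0, 0, 0, 4, 0, 0, 0, 2, 0, 0],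
   [0, 2, -2, 0, 2, 0, 2, 4, 0, -2, -2, 0, 0, -2, 0, 0, 0, 0, 0, 0, 0, 2, -4, 0],
   [2, 0, 0, 2, 0, 2, 0, 2, -2, 0, 0, -2, -2, 0, -2, -2, 2, -2, -2, -2, -2, 0, 2, -2],
   [0, 2, -2, 0, -2, 0, -2, 0, 0, 2, 2, -4, 4, -2, 0, 0, 0, 0, 0, 0, 0, 2, 0, 0]]

/-- A matrix. -/
def m2 : List (List ℤ) :=
  [[0, 2, 0, 0, 0, 2, 0, 2, 0, 0, 0, 0, 0, 0, 2, 0, 2, 4, 0, 0, 4, -2, -2, 2],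
   [-2, 0, -2, -2, -2, 0, 2, 0, -2, 2, -2, 2, -2, 2, 0, -2, 0, 2, 2, -2, -2, 0, 0, 0],
   [0, 2, 4, 0, 0, -2, 0, 2, 0, 0, -4, 0, 0, 0, 2, 0, -2, 0, 0, 0, 0, -2, 2, -2],
   [0, -2, 0, 4, 0, -2, 0, 2, 0, 0, 0, 4, 0, 0, 2, 0, 2, 0, 0, 0, 0, 2, 2, 2],
   [-2, 0, -2, 2, 2, 0, 2, 0, -2, 2, -2, -2, -2, -2, 0, 2, 0, -2, -2, -2, 2, 0, 0, 0],
   [0, 2, 0, 0, 0, 2, 0, 2, 0, -4, 0, 0, 0, 0, -2, 0, -2, 0, 0, -4, 0, 2, 2, 2],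
   [0, 2, 0, 0, 0, 2, 4, -2, 0, 0, 0, 0, 4, 0, 2, 0, 2, 0, 0, 0, 0, 2, 2, -2],
   [0, -2, 0, 0, -4, 2, 0, 2, 0, 0, 0, 0, 0, 0, -2, 4, 2, 0, 0, 0, 0, -2, 2, -2],
   [-4, -2, 0, 0, 0, 2, 0, 2, 4, 0, 0, 0, 0, 0, 2, 0, -2, 0, 0, 0, 0, 2, -2, -2],
   [-2, 0, 2, -2, 2, 0, -2, 0, -2, 2, 2, 2, 2, 2, 0, 2, 0, -2, 2, -2, 2, 0, 0, 0],
   [0, 2, -4, 0, 0, -2, 0, 2, 0, 0, 4, 0, 0, 0, 2, 0, -2, 0, 0, 0, 0, -2, 2, -2],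
   [0, 2, 0, 4, 0, 2, 0, -2, 0, 0, 0, 4, 0, 0, -2, 0, -2, 0, 0, 0, 0, -2, -2, -2],
   [0, 2, 0, 0, 0, -2, 0, 2, 0, 0, 0, 0, 0, 4, -2, 0, 2, 0, -4, 0, 0, 2, -2, -2],
   [0, -2, 0, 0, 0, -2, 4, 2, 0, 0, 0, 0, 4, 0, -2, 0, -2, 0, 0, 0, 0, -2, -2, 2],
   [0, -2, 0, 0, 0, -2, 0, -2, 0, -4, 0, 0, 0, 0, 2, 0, 2, 0, 0, -4, 0, -2, -2, -2],
   [2, 0, -2, 2, 2, 0, -2, 0, 2, 2, -2, -2, 2, 2, 0, 2, 0, 2, 2, -2, -2, 0, 0, 0],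
   [-2, 0, 2, 2, 2, 0, 2, 0, -2, -2, 2, -2, -2, 2, 0, 2, 0, 2, 2, 2, -2, 0, 0, 0],
   [4, -2, 0, 0, 0, 2, 0, 2, -4, 0, 0, 0, 0, 0, 2, 0, -2, 0, 0, 0, 0, 2, -2, -2],
   [0, 2, 0, 0, 0, -2, 0, 2, 0, 0, 0, 0, 0, -4, -2, 0, 2, 0, 4, 0, 0, 2, -2, -2],
   [-2, 0, -2, 2, -2, 0, -2, 0, -2, -2, -2, -2, 2, 2, 0, -2, 0, -2, 2, 2, 2, 0, 0, 0],
   [0, -2, 0, 0, 0, -2, 0, -2, 0, 0, 0, 0, 0, 0, -2, 0, -2, 4, 0, 0, 4, 2, 2, -2],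
   [2, 0, -2, -2, 2, 0, 2, 0, 2, -2, -2, 2, -2, 2, 0, 2, 0, -2, 2, 2, 2, 0, 0, 0],
   [0, -2, 0, 0, 4, 2, 0, 2, 0, 0, 0, 0, 0, 0, -2, -4, 2, 0, 0, 0, 0, -2, 2, -2],
   [-2, 0, -2, -2, 2, 0, -2, 0, -2, -2, -2, 2, 2, -2, 0, 2, 0, 2, -2, 2, -2, 0, 0, 0]]

/-- Its transpose. -/
def t2 : List (List ℤ) :=
  [[0, -2, 0, 0, -2, 0, 0, 0, -4, -2, 0, 0, 0, 0, 0, 2, -2, 4, 0, -2, 0, 2, 0, -2],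
   [2, 0, 2, -2, 0, 2, 2, -2, -2, 0, 2, 2, 2, -2, -2, 0, 0, -2, 2, 0, -2, 0, -2, 0],
   [0, -2, 4, 0, -2, 0, 0, 0, 0, 2, -4, 0, 0, 0, 0, -2, 2, 0, 0, -2, 0, -2, 0, -2],
   [0, -2, 0, 4, 2, 0, 0, 0, 0, -2, 0, 4, 0, 0, 0, 2, 2, 0, 0, 2, 0, -2, 0, -2],
   [0, -2, 0, 0, 2, 0, 0, -4, 0, 2, 0, 0, 0, 0, 0, 2, 2, 0, 0, -2, 0, 2, 4, 2],
   [2, 0, -2, -2, 0, 2, 2, 2, 2, 0, -2, 2, -2, -2, -2, 0, 0, 2, -2, 0, -2, 0, 2, 0],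
   [0, 2, 0, 0, 2, 0, 4, 0, 0, -2, 0, 0, 0, 4, 0, -2, 2, 0, 0, -2, 0, 2, 0, -2],
   [2, 0, 2, 2, 0, 2, -2, 2, 2, 0, 2, -2, 2, 2, -2, 0, 0, 2, 2, 0, -2, 0, 2, 0],
   [0, -2, 0, 0, -2, 0, 0, 0, 4, -2, 0, 0, 0, 0, 0, 2, -2, -4, 0, -2, 0, 2, 0, -2],
   [0, 2, 0, 0, 2, -4, 0, 0, 0, 2, 0, 0, 0, 0, -4, 2, -2, 0, 0, -2, 0, -2, 0, -2],
   [0, -2, -4, 0, -2, 0, 0, 0, 0, 2, 4, 0, 0, 0, 0, -2, 2, 0, 0, -2, 0, -2, 0, -2],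
   [0, 2, 0, 4, -2, 0, 0, 0, 0, 2, 0, 4, 0, 0, 0, -2, -2, 0, 0, -2, 0, 2, 0, 2],
   [0, -2, 0, 0, -2, 0, 4, 0, 0, 2, 0, 0, 0, 4, 0, 2, -2, 0, 0, 2, 0, -2, 0, 2],
   [0, 2, 0, 0, -2, 0, 0, 0, 0, 2, 0, 0, 4, 0, 0, 2, 2, 0, -4, 2, 0, 2, 0, -2],
   [2, 0, 2, 2, 0, -2, 2, -2, 2, 0, 2, -2, -2, -2, 2, 0, 0, 2, -2, 0, -2, 0, -2, 0],
   [0, -2, 0, 0, 2, 0, 0, 4, 0, 2, 0, 0, 0, 0, 0, 2, 2, 0, 0, -2, 0, 2, -4, 2],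
   [2, 0, -2, 2, 0, -2, 2, 2, -2, 0, -2, -2, 2, -2, 2, 0, 0, -2, 2, 0, -2, 0, 2, 0],
   [4, 2, 0, 0, -2, 0, 0, 0, 0, -2, 0, 0, 0, 0, 0, 2, 2, 0, 0, -2, 4, -2, 0, 2],
   [0, 2, 0, 0, -2, 0, 0, 0, 0, 2, 0, 0, -4, 0, 0, 2, 2, 0, 4, 2, 0, 2, 0, -2],
   [0, -2, 0, 0, -2, -4, 0, 0, 0, -2, 0, 0, 0, 0, -4, -2, 2, 0, 0, 2, 0, 2, 0, 2],
   [4, -2, 0, 0, 2, 0, 0, 0, 0, 2, 0, 0, 0, 0, 0, -2, -2, 0, 0, 2, 4, 2, 0, -2],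
   [-2, 0, -2, 2, 0, 2, 2, -2, 2, 0, -2, -2, 2, -2, -2, 0, 0, 2, 2, 0, 2, 0, -2, 0],
   [-2, 0, 2, 2, 0, 2, 2, 2, -2, 0, 2, -2, -2, -2, -2, 0, 0, -2, -2, 0, 2, 0, 2, 0],
   [2, 0, -2, 2, 0, 2, -2, -2, -2, 0, -2, -2, -2, 2, -2, 0, 0, -2, -2, 0, -2, 0, -2, 0]]

/-- A matrix. -/
def m3 : List (List ℤ) :=
  [[-4, -2, 2, 2, 2, 0, 0, 2, -2, 0, -2, 2, 0, 0, -2, 0, 2, 0, 0, -2, 2, 0, 0, 0],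
   [2, -4, 0, 0, 0, -2, -2, 0, 0, -2, 0, 0, 2, 2, 0, -2, 0, -2, 2, 0, 0, -2, -2, 2],
   [-2, 0, -4, 0, 0, 2, 2, 0, 0, -2, 0, 0, -2, -2, 0, 2, 0, -2, 2, 0, 0, -2, -2, 2],
   [-2, 0, 0, -4, 0, -2, -2, 0, 0, -2, 0, 0, -2, 2, 0, 2, 0, -2, 2, 0, 0, 2, 2, -2],
   [-2, 0, 0, 0, -4, -2, 2, 0, 0, 2, 0, 0, -2, 2, 0, -2, 0, 2, 2, 0, 0, -2, -2, -2],
   [0, 2, -2, 2, 2, -4, 0, -2, -2, 0, -2, -2, 0, 0, -2, 0, -2, 0, 0, -2, -2, 0, 0, 0],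
   [0, 2, -2, 2, -2, 0, -4, 2, 2, 0, -2, 2, 0, 0, 2, 0, 2, 0, 0, -2, -2, 0, 0, 0],
   [-2, 0, 0, 0, 0, 2, -2, -4, 0, -2, 0, 0, -2, 2, 0, -2, 0, 2, -2, 0, 0, 2, -2, 2],
   [2, 0, 0, 0, 0, 2, -2, 0, -4, -2, 0, 0, -2, -2, 0, -2, 0, 2, 2, 0, 0, -2, 2, -2],
   [0, 2, 2, 2, -2, 0, 0, 2, 2, -4, 2, -2, 0, 0, -2, 0, -2, 0, 0, -2, 2, 0, 0, 0],
   [2, 0, 0, 0, 0, 2, 2, 0, 0, -2, -4, 0, 2, 2, 0, 2, 0, 2, 2, 0, 0, 2, -2, -2],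
   [-2, 0, 0, 0, 0, 2, -2, 0, 0, 2, 0, -4, 2, -2, 0, -2, 0, -2, 2, 0, 0, 2, -2, -2],
   [0, -2, 2, 2, 2, 0, 0, 2, 2, 0, -2, -2, -4, 0, 2, 0, -2, 0, 0, 2, -2, 0, 0, 0],
   [0, -2, 2, -2, -2, 0, 0, -2, 2, 0, -2, 2, 0, -4, -2, 0, -2, 0, 0, -2, -2, 0, 0, 0],
   [2, 0, 0, 0, 0, 2, -2, 0, 0, 2, 0, 0, -2, 2, -4, 2, 0, -2, -2, 0, 0, -2, -2, -2],
   [0, 2, -2, -2, 2, 0, 0, 2, 2, 0, -2, 2, 0, 0, -2, -4, -2, 0, 0, 2, 2, 0, 0, 0],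
   [-2, 0, 0, 0, 0, 2, -2, 0, 0, 2, 0, 0, 2, 2, 0, 2, -4, 2, 2, 0, 0, -2, 2, 2],
   [0, 2, 2, 2, -2, 0, 0, -2, -2, 0, -2, 2, 0, 0, 2, 0, -2, -4, 0, 2, 2, 0, 0, 0],
   [0, -2, -2, -2, -2, 0, 0, 2, -2, 0, -2, -2, 0, 0, 2, 0, -2, 0, -4, -2, 2, 0, 0, 0],
   [2, 0, 0, 0, 0, 2, 2, 0, 0, 2, 0, 0, -2, 2, 0, -2, 0, -2, 2, -4, 0, 2, 2, 2],
   [-2, 0, 0, 0, 0, 2, 2, 0, 0, -2, 0, 0, 2, 2, 0, -2, 0, -2, -2, 0, -4, -2, 2, -2],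
   [0, 2, 2, -2, 2, 0, 0, -2, 2, 0, -2, -2, 0, 0, 2, 0, 2, 0, 0, -2, 2, -4, 0, 0],
   [0, 2, 2, -2, 2, 0, 0, 2, -2, 0, 2, 2, 0, 0, 2, 0, -2, 0, 0, -2, -2, 0, -4, 0],
   [0, -2, -2, 2, 2, 0, 0, -2, 2, 0, 2, 2, 0, 0, 2, 0, -2, 0, 0, -2, 2, 0, 0, -4]]

/-- Its transpose. -/
def t3 : List (List ℤ) :=
  [[-4, 2, -2, -2, -2, 0, 0, -2, 2, 0, 2, -2, 0, 0, 2, 0, -2, 0, 0, 2, -2, 0, 0, 0],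
   [-2, -4, 0, 0, 0, 2, 2, 0, 0, 2, 0, 0, -2, -2, 0, 2, 0, 2, -2, 0, 0, 2, 2, -2],
   [2, 0, -4, 0, 0, -2, -2, 0, 0, 2, 0, 0, 2, 2, 0, -2, 0, 2, -2, 0, 0, 2, 2, -2],
   [2, 0, 0, -4, 0, 2, 2, 0, 0, 2, 0, 0, 2, -2, 0, -2, 0, 2, -2, 0, 0, -2, -2, 2],
   [2, 0, 0, 0, -4, 2, -2, 0, 0, -2, 0, 0, 2, -2, 0, 2, 0, -2, -2, 0, 0, 2, 2, 2],
   [0, -2, 2, -2, -2, -4, 0, 2, 2, 0, 2, 2, 0, 0, 2, 0, 2, 0, 0, 2, 2, 0, 0, 0],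
   [0, -2, 2, -2, 2, 0, -4, -2, -2, 0, 2, -2, 0, 0, -2, 0, -2, 0, 0, 2, 2, 0, 0, 0],
   [2, 0, 0, 0, 0, -2, 2, -4, 0, 2, 0, 0, 2, -2, 0, 2, 0, -2, 2, 0, 0, -2, 2, -2],
   [-2, 0, 0, 0, 0, -2, 2, 0, -4, 2, 0, 0, 2, 2, 0, 2, 0, -2, -2, 0, 0, 2, -2, 2],
   [0, -2, -2, -2, 2, 0, 0, -2, -2, -4, -2, 2, 0, 0, 2, 0, 2, 0, 0, 2, -2, 0, 0, 0],
   [-2, 0, 0, 0, 0, -2, -2, 0, 0, 2, -4, 0, -2, -2, 0, -2, 0, -2, -2, 0, 0, -2, 2, 2],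
   [2, 0, 0, 0, 0, -2, 2, 0, 0, -2, 0, -4, -2, 2, 0, 2, 0, 2, -2, 0, 0, -2, 2, 2],
   [0, 2, -2, -2, -2, 0, 0, -2, -2, 0, 2, 2, -4, 0, -2, 0, 2, 0, 0, -2, 2, 0, 0, 0],
   [0, 2, -2, 2, 2, 0, 0, 2, -2, 0, 2, -2, 0, -4, 2, 0, 2, 0, 0, 2, 2, 0, 0, 0],
   [-2, 0, 0, 0, 0, -2, 2, 0, 0, -2, 0, 0, 2, -2, -4, -2, 0, 2, 2, 0, 0, 2, 2, 2],
   [0, -2, 2, 2, -2, 0, 0, -2, -2, 0, 2, -2, 0, 0, 2, -4, 2, 0, 0, -2, -2, 0, 0, 0],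
   [2, 0, 0, 0, 0, -2, 2, 0, 0, -2, 0, 0, -2, -2, 0, -2, -4, -2, -2, 0, 0, 2, -2, -2],
   [0, -2, -2, -2, 2, 0, 0, 2, 2, 0, 2, -2, 0, 0, -2, 0, 2, -4, 0, -2, -2, 0, 0, 0],
   [0, 2, 2, 2, 2, 0, 0, -2, 2, 0, 2, 2, 0, 0, -2, 0, 2, 0, -4, 2, -2, 0, 0, 0],
   [-2, 0, 0, 0, 0, -2, -2, 0, 0, -2, 0, 0, 2, -2, 0, 2, 0, 2, -2, -4, 0, -2, -2, -2],
   [2, 0, 0, 0, 0, -2, -2, 0, 0, 2, 0, 0, -2, -2, 0, 2, 0, 2, 2, 0, -4, 2, -2, 2],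
   [0, -2, -2, 2, -2, 0, 0, 2, -2, 0, 2, 2, 0, 0, -2, 0, -2, 0, 0, 2, -2, -4, 0, 0],
   [0, -2, -2, 2, -2, 0, 0, -2, 2, 0, -2, -2, 0, 0, -2, 0, 2, 0, 0, 2, 2, 0, -4, 0],
   [0, 2, 2, -2, -2, 0, 0, 2, -2, 0, -2, -2, 0, 0, -2, 0, 2, 0, 0, 2, -2, 0, 0, -4]]

/-- A matrix. -/
def m4 : List (List ℤ) :=
  [[2, -2, 0, 4, 2, -2, 0, 0, 0, -2, 0, 2, -2, 0, 0, 0, -2, -2, 0, -2, 2, 2, 0, 0],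
   [0, 4, 2, 2, 0, 0, -2, 2, 2, 0, 2, 0, 0, 2, -2, -2, 0, 0, -2, 0, 0, 0, -2, 2],
   [-2, 2, 0, 0, -2, 2, 4, 0, 0, -2, 0, 2, -2, 0, 0, 0, 2, -2, 0, -2, 2, -2, 0, 0],
   [-2, 2, 0, 0, -2, -2, 0, 0, 0, -2, 0, -2, -2, 0, 0, 0, -2, -2, 0, 2, -2, 2, 0, -4],
   [0, 0, -2, -2, 4, 0, 2, 2, 2, 0, 2, 0, 0, 2, -2, 2, 0, 0, 2, 0, 0, 0, -2, -2],
   [-2, 2, 0, 0, 2, 2, 0, 0, -4, 2, 0, 2, 2, 0, 0, 0, -2, -2, 0, -2, -2, 2, 0, 0],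
   [0, 0, -2, 2, 0, 0, 2, 2, 2, 0, -2, 0, 4, 2, 2, -2, 0, 0, -2, 0, 0, 0, 2, -2],
   [-2, -2, 0, 0, 2, 2, 0, 0, 0, -2, 0, 2, -2, 0, 0, 0, 2, 2, -4, 2, -2, 2, 0, 0],
   [2, 2, 0, 0, 2, 2, 0, 0, 0, -2, 0, -2, -2, 0, 0, 0, -2, 2, 0, -2, -2, -2, 4, 0],
   [-2, -2, 0, 0, -2, 2, 0, 4, 0, 2, 0, -2, -2, 0, 0, 0, -2, 2, 0, -2, 2, 2, 0, 0],
   [2, 2, 0, 0, -2, 2, 0, 0, 0, -2, 0, 2, 2, 0, 0, 4, -2, 2, 0, 2, 2, 2, 0, 0],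
   [0, 0, 2, -2, 0, 0, -2, 2, 2, 0, 2, 4, 0, -2, 2, -2, 0, 0, 2, 0, 0, 0, 2, -2],
   [-2, -2, 4, 0, 2, 2, 0, 0, 0, -2, 0, -2, 2, 0, 0, 0, -2, -2, 0, 2, 2, -2, 0, 0],
   [0, 0, 2, -2, 0, 0, 2, -2, 2, 0, -2, 0, 0, 2, -2, -2, 0, 0, 2, 0, 0, 4, 2, 2],
   [2, -2, 0, 0, -2, 2, 0, 0, 0, 2, 0, 2, -2, 4, 0, 0, -2, -2, 0, 2, -2, -2, 0, 0],
   [0, 0, -2, -2, 0, 0, -2, 2, 2, 0, -2, 0, 0, -2, -2, 2, 0, -4, -2, 0, 0, 0, 2, 2],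
   [0, 0, 2, 2, 0, 0, -2, 2, -2, 0, -2, 0, 0, 2, -2, 2, 4, 0, 2, 0, 0, 0, 2, -2],
   [-2, 2, 0, 0, 2, -2, 0, 0, 0, 2, -4, 2, -2, 0, 0, 0, -2, 2, 0, 2, 2, -2, 0, 0],
   [0, 0, -2, -2, 0, 0, -2, 2, -2, -4, -2, 0, 0, 2, 2, -2, 0, 0, 2, 0, 0, 0, -2, 2],
   [0, 0, -2, 2, 0, 0, 2, 2, -2, 0, 2, 0, 0, -2, -2, -2, 0, 0, 2, 4, 0, 0, 2, 2],
   [0, 0, -2, -2, 0, 0, -2, -2, -2, 0, 2, 0, 0, 2, -2, -2, 0, 0, -2, 0, 4, 0, 2, -2],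
   [2, 2, 0, 0, 2, 2, 0, 0, 0, 2, 0, -2, -2, 0, 4, 0, 2, -2, 0, 2, 2, 2, 0, 0],
   [0, 0, 2, -2, 0, -4, 2, 2, -2, 0, 2, 0, 0, 2, 2, 2, 0, 0, -2, 0, 0, 0, 2, 2],
   [-4, 0, -2, 2, 0, 0, -2, -2, 2, 0, 2, 0, 0, 2, 2, 2, 0, 0, 2, 0, 0, 0, 2, 2]]

/-- Its transpose. -/
def t4 : List (List ℤ) :=
  [[2, 0, -2, -2, 0, -2, 0, -2, 2, -2, 2, 0, -2, 0, 2, 0, 0, -2, 0, 0, 0, 2, 0, -4],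
   [-2, 4, 2, 2, 0, 2, 0, -2, 2, -2, 2, 0, -2, 0, -2, 0, 0, 2, 0, 0, 0, 2, 0, 0],
   [0, 2, 0, 0, -2, 0, -2, 0, 0, 0, 0, 2, 4, 2, 0, -2, 2, 0, -2, -2, -2, 0, 2, -2],
   [4, 2, 0, 0, -2, 0, 2, 0, 0, 0, 0, -2, 0, -2, 0, -2, 2, 0, -2, 2, -2, 0, -2, 2],
   [2, 0, -2, -2, 4, 2, 0, 2, 2, -2, -2, 0, 2, 0, -2, 0, 0, 2, 0, 0, 0, 2, 0, 0],
   [-2, 0, 2, -2, 0, 2, 0, 2, 2, 2, 2, 0, 2, 0, 2, 0, 0, -2, 0, 0, 0, 2, -4, 0],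
   [0, -2, 4, 0, 2, 0, 2, 0, 0, 0, 0, -2, 0, 2, 0, -2, -2, 0, -2, 2, -2, 0, 2, -2],
   [0, 2, 0, 0, 2, 0, 2, 0, 0, 4, 0, 2, 0, -2, 0, 2, 2, 0, 2, 2, -2, 0, 2, -2],
   [0, 2, 0, 0, 2, -4, 2, 0, 0, 0, 0, 2, 0, 2, 0, 2, -2, 0, -2, -2, -2, 0, -2, 2],
   [-2, 0, -2, -2, 0, 2, 0, -2, -2, 2, -2, 0, -2, 0, 2, 0, 0, 2, -4, 0, 0, 2, 0, 0],
   [0, 2, 0, 0, 2, 0, -2, 0, 0, 0, 0, 2, 0, -2, 0, -2, -2, -4, -2, 2, 2, 0, 2, 2],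
   [2, 0, 2, -2, 0, 2, 0, 2, -2, -2, 2, 4, -2, 0, 2, 0, 0, 2, 0, 0, 0, -2, 0, 0],
   [-2, 0, -2, -2, 0, 2, 4, -2, -2, -2, 2, 0, 2, 0, -2, 0, 0, -2, 0, 0, 0, -2, 0, 0],
   [0, 2, 0, 0, 2, 0, 2, 0, 0, 0, 0, -2, 0, 2, 4, -2, 2, 0, 2, -2, 2, 0, 2, 2],
   [0, -2, 0, 0, -2, 0, 2, 0, 0, 0, 0, 2, 0, -2, 0, -2, -2, 0, 2, -2, -2, 4, 2, 2],
   [0, -2, 0, 0, 2, 0, -2, 0, 0, 0, 4, -2, 0, -2, 0, 2, 2, 0, -2, -2, -2, 0, 2, 2],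
   [-2, 0, 2, -2, 0, -2, 0, 2, -2, -2, -2, 0, -2, 0, -2, 0, 4, -2, 0, 0, 0, 2, 0, 0],
   [-2, 0, -2, -2, 0, -2, 0, 2, 2, 2, 2, 0, -2, 0, -2, -4, 0, 2, 0, 0, 0, -2, 0, 0],
   [0, -2, 0, 0, 2, 0, -2, -4, 0, 0, 0, 2, 0, 2, 0, -2, 2, 0, 2, 2, -2, 0, -2, 2],
   [-2, 0, -2, 2, 0, -2, 0, 2, -2, -2, 2, 0, 2, 0, 2, 0, 0, 2, 0, 4, 0, 2, 0, 0],
   [2, 0, 2, -2, 0, -2, 0, -2, -2, 2, 2, 0, 2, 0, -2, 0, 0, 2, 0, 0, 4, 2, 0, 0],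
   [2, 0, -2, 2, 0, 2, 0, 2, -2, 2, 2, 0, -2, 4, -2, 0, 0, -2, 0, 0, 0, 2, 0, 0],
   [0, -2, 0, 0, -2, 0, 2, 0, 4, 0, 0, 2, 0, 2, 0, 2, 2, 0, -2, 2, 2, 0, 2, 2],
   [0, 2, 0, -4, -2, 0, -2, 0, 0, 0, 0, -2, 0, 2, 0, 2, -2, 0, 2, 2, -2, 0, 2, 2]]

/-- A matrix. -/
def m5 : List (List ℤ) :=
  [[2, 0, 0, 0, -2, 0, 2, -2, 2, 0, 2, 0, 0, -4, 0, 0, 0, -2, 0, 0, 0, -2, 4, 0],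
   [-2, 4, 0, 0, -2, 0, -2, -2, 2, 0, 2, 0, 0, 0, -4, 0, 0, 2, 0, 0, 0, 2, 0, 0],
   [0, 2, -2, 2, 0, 2, 0, 0, 0, -2, 0, 2, -2, -2, 2, 2, 2, 0, 2, -2, 2, 0, -2, 2],
   [2, 0, 0, 4, -2, 0, -2, 2, -2, 0, 2, -4, 0, 0, 0, 0, 0, 2, 0, 0, 0, -2, 0, 0],
   [-2, 0, 0, 0, 2, 0, 2, 2, 2, 0, 2, 0, 4, 0, 0, 4, 0, 2, 0, 0, 0, -2, 0, 0],
   [-2, 0, 0, 0, 2, 4, -2, -2, -2, 4, 2, 0, 0, 0, 0, 0, 0, -2, 0, 0, 0, -2, 0, 0],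
   [-2, 0, -4, 0, -2, 0, -2, 2, 2, 0, -2, 0, 0, 0, 0, 0, 0, -2, 0, 0, -4, -2, 0, 0],
   [-2, 0, 0, 0, 2, 0, -2, 2, -2, 0, -2, 0, 0, -4, 0, 0, 0, 2, 0, 0, 0, 2, 4, 0],
   [2, 0, 0, 0, 2, 0, -2, -2, 2, 0, -2, 0, 0, 0, 0, 0, 0, 2, -4, 0, 0, -2, 0, 4],
   [2, 0, 0, 0, -2, 4, 2, 2, 2, 4, -2, 0, 0, 0, 0, 0, 0, 2, 0, 0, 0, 2, 0, 0],
   [-2, 0, 4, 0, -2, 0, -2, 2, 2, 0, -2, 0, 0, 0, 0, 0, 0, -2, 0, 0, 4, -2, 0, 0],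
   [2, 0, 0, -4, -2, 0, -2, 2, -2, 0, 2, 4, 0, 0, 0, 0, 0, 2, 0, 0, 0, -2, 0, 0],
   [0, -2, 2, -2, 0, 2, 0, 0, 0, -2, 0, -2, 2, -2, -2, -2, 2, 0, 2, -2, -2, 0, -2, 2],
   [0, 2, 2, -2, 0, 2, 0, 0, 0, -2, 0, -2, -2, 2, 2, 2, -2, 0, 2, 2, -2, 0, 2, 2],
   [-2, -4, 0, 0, -2, 0, -2, -2, 2, 0, 2, 0, 0, 0, 4, 0, 0, 2, 0, 0, 0, 2, 0, 0],
   [0, -2, -2, -2, 0, 2, 0, 0, 0, -2, 0, -2, -2, 2, -2, 2, 2, 0, -2, -2, 2, 0, 2, -2],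
   [2, 0, 0, 0, 2, 0, -2, 2, 2, 0, 2, 0, 0, 0, 0, 0, 4, -2, 0, 4, 0, 2, 0, 0],
   [-2, 0, 0, 0, 2, 0, 2, 2, 2, 0, 2, 0, -4, 0, 0, -4, 0, 2, 0, 0, 0, -2, 0, 0],
   [0, -2, -2, 2, 0, 2, 0, 0, 0, -2, 0, 2, 2, 2, -2, -2, -2, 0, 2, 2, 2, 0, 2, 2],
   [-2, 0, 0, 0, -2, 0, 2, -2, -2, 0, -2, 0, 0, 0, 0, 0, 4, 2, 0, 4, 0, -2, 0, 0],
   [0, 2, 2, 2, 0, 2, 0, 0, 0, -2, 0, 2, 2, 2, 2, -2, 2, 0, -2, -2, -2, 0, 2, -2],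
   [-2, 0, 0, 0, -2, 0, 2, 2, -2, 0, 2, 0, 0, 0, 0, 0, 0, -2, -4, 0, 0, 2, 0, 4],
   [0, -2, 2, 2, 0, -2, 0, 0, 0, 2, 0, 2, -2, 2, -2, 2, 2, 0, 2, -2, -2, 0, 2, 2],
   [0, 2, -2, -2, 0, -2, 0, 0, 0, 2, 0, -2, 2, 2, 2, -2, 2, 0, 2, -2, 2, 0, 2, 2]]

/-- Its transpose. -/
def t5 : List (List ℤ) :=
  [[2, -2, 0, 2, -2, -2, -2, -2, 2, 2, -2, 2, 0, 0, -2, 0, 2, -2, 0, -2, 0, -2, 0, 0],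
   [0, 4, 2, 0, 0, 0, 0, 0, 0, 0, 0, 0, -2, 2, -4, -2, 0, 0, -2, 0, 2, 0, -2, 2],
   [0, 0, -2, 0, 0, 0, -4, 0, 0, 0, 4, 0, 2, 2, 0, -2, 0, 0, -2, 0, 2, 0, 2, -2],
   [0, 0, 2, 4, 0, 0, 0, 0, 0, 0, 0, -4, -2, -2, 0, -2, 0, 0, 2, 0, 2, 0, 2, -2],
   [-2, -2, 0, -2, 2, 2, -2, 2, 2, -2, -2, -2, 0, 0, -2, 0, 2, 2, 0, -2, 0, -2, 0, 0],
   [0, 0, 2, 0, 0, 4, 0, 0, 0, 4, 0, 0, 2, 2, 0, 2, 0, 0, 2, 0, 2, 0, -2, -2],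
   [2, -2, 0, -2, 2, -2, -2, -2, -2, 2, -2, -2, 0, 0, -2, 0, -2, 2, 0, 2, 0, 2, 0, 0],
   [-2, -2, 0, 2, 2, -2, 2, 2, -2, 2, 2, 2, 0, 0, -2, 0, 2, 2, 0, -2, 0, 2, 0, 0],
   [2, 2, 0, -2, 2, -2, 2, -2, 2, 2, 2, -2, 0, 0, 2, 0, 2, 2, 0, -2, 0, -2, 0, 0],
   [0, 0, -2, 0, 0, 4, 0, 0, 0, 4, 0, 0, -2, -2, 0, -2, 0, 0, -2, 0, -2, 0, 2, 2],
   [2, 2, 0, 2, 2, 2, -2, -2, -2, -2, -2, 2, 0, 0, 2, 0, 2, 2, 0, -2, 0, 2, 0, 0],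
   [0, 0, 2, -4, 0, 0, 0, 0, 0, 0, 0, 4, -2, -2, 0, -2, 0, 0, 2, 0, 2, 0, 2, -2],
   [0, 0, -2, 0, 4, 0, 0, 0, 0, 0, 0, 0, 2, -2, 0, -2, 0, -4, 2, 0, 2, 0, -2, 2],
   [-4, 0, -2, 0, 0, 0, 0, -4, 0, 0, 0, 0, -2, 2, 0, 2, 0, 0, 2, 0, 2, 0, 2, 2],
   [0, -4, 2, 0, 0, 0, 0, 0, 0, 0, 0, 0, -2, 2, 4, -2, 0, 0, -2, 0, 2, 0, -2, 2],
   [0, 0, 2, 0, 4, 0, 0, 0, 0, 0, 0, 0, -2, 2, 0, 2, 0, -4, -2, 0, -2, 0, 2, -2],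
   [0, 0, 2, 0, 0, 0, 0, 0, 0, 0, 0, 0, 2, -2, 0, 2, 4, 0, -2, 4, 2, 0, 2, 2],
   [-2, 2, 0, 2, 2, -2, -2, 2, 2, 2, -2, 2, 0, 0, 2, 0, -2, 2, 0, 2, 0, -2, 0, 0],
   [0, 0, 2, 0, 0, 0, 0, 0, -4, 0, 0, 0, 2, 2, 0, -2, 0, 0, 2, 0, -2, -4, 2, 2],
   [0, 0, -2, 0, 0, 0, 0, 0, 0, 0, 0, 0, -2, 2, 0, -2, 4, 0, 2, 4, -2, 0, -2, -2],
   [0, 0, 2, 0, 0, 0, -4, 0, 0, 0, 4, 0, -2, -2, 0, 2, 0, 0, 2, 0, -2, 0, -2, 2],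
   [-2, 2, 0, -2, -2, -2, -2, 2, -2, 2, -2, -2, 0, 0, 2, 0, 2, -2, 0, -2, 0, 2, 0, 0],
   [4, 0, -2, 0, 0, 0, 0, 4, 0, 0, 0, 0, -2, 2, 0, 2, 0, 0, 2, 0, 2, 0, 2, 2],
   [0, 0, 2, 0, 0, 0, 0, 0, 4, 0, 0, 0, 2, 2, 0, -2, 0, 0, 2, 0, -2, 4, 2, 2]]

/-- A matrix. -/
def m6 : List (List ℤ) :=
  [[1, -1, -1, 1, 3, -1, 1, 1, 1, -3, 1, -1, -1, -1, 1, -1, -1, -1, 1, -3, -1, 1, 3, -3],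
   [-1, 1, 1, -1, 1, 1, -1, -1, 3, -1, 3, 1, 1, 1, -1, 1, 1, 1, 3, -1, 1, 3, 1, 3],
   [-1, 1, -3, -1, 1, 1, -5, -1, -1, -1, -1, 1, 1, 1, -1, 1, 1, 1, -1, -1, -3, -1, 1, -1],
   [1, -1, -1, -3, -1, -1, 1, 1, -3, -3, 1, -1, -1, 3, 1, 3, -1, -1, 1, 1, -1, 1, -1, 1],
   [1, 3, -1, 1, -1, -1, 1, 1, 1, 1, 1, 3, -1, 3, 1, -1, -1, 3, 1, 1, -1, 1, -1, -3],
   [-3, 3, -1, 1, 3, -1, 1, 1, -3, 1, 1, -1, -1, -1, -3, -1, -1, -1, 1, 1, -1, 1, -1, 1],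
   [1, -1, 3, 1, -1, -1, -3, 1, 1, 1, 1, -1, -1, -1, 1, -1, -1, -1, 1, 1, -5, 1, -1, 1],
   [-1, 1, 1, -1, 1, 1, -1, -1, -1, -1, -1, 1, -3, -3, 3, 1, 1, 1, -1, 3, 1, 3, 1, -1],
   [3, 1, 1, 3, 1, 1, -1, -1, -1, -1, -1, 1, -3, 1, -1, 1, -3, 1, -1, -1, 1, -1, 1, 3],
   [-1, 1, 1, 3, -3, 1, -1, 3, -1, -1, -1, -3, 1, 1, -1, 1, 1, 1, -1, -1, 1, 3, 1, -1],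
   [-1, 1, 1, -1, 1, 1, -1, 3, 3, -1, -1, 1, 1, 1, -1, 1, -3, -3, -1, 3, 1, -1, 1, -1],
   [3, 1, 1, -1, 1, 1, -1, 3, -1, -1, 3, 1, 1, -3, -1, 1, 1, 1, -1, -1, 1, -1, -3, -1],
   [-3, -1, -1, 1, -1, 3, 1, 1, 1, -3, 1, -1, -1, -1, 1, -1, -1, 3, 1, 1, -1, -3, -1, 1],
   [1, 3, -1, -3, -1, 3, 1, 1, 1, 1, -3, -1, -1, -1, 1, -1, -1, -1, 1, -3, -1, 1, -1, 1],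
   [1, -1, -1, 1, -1, 3, 1, -3, 1, 1, 1, -1, -1, -1, -3, 3, -1, -1, 1, 1, -1, 1, -1, -3],
   [1, -1, -1, -3, -1, -1, 1, 1, 1, 1, 1, -1, -1, -1, -3, -1, -1, 3, -3, 1, -1, 1, 3, 1],
   [-1, -3, 1, -1, 1, 1, -1, 3, -1, 3, -1, 1, -3, 1, -1, 1, 1, 1, 3, -1, 1, -1, 1, -1],
   [-1, 1, 1, -1, -3, 1, -1, -1, -1, -1, 3, 1, -3, 1, -1, -3, 1, -3, -1, -1, 1, -1, 1, -1],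
   [-1, -3, 1, -1, 1, 1, -1, -1, -1, -1, -1, 1, 1, 1, -1, -3, -3, 1, -1, -1, 1, 3, -3, -1],
   [1, -1, -1, 1, -1, 3, 1, 1, -3, 1, 1, 3, 3, -1, 1, -1, -1, -1, 1, 1, -1, 1, 3, 1],
   [-1, 1, 5, -1, 1, 1, 3, -1, -1, -1, -1, 1, 1, 1, -1, 1, 1, 1, -1, -1, -3, -1, 1, -1],
   [1, -1, -1, 1, 3, 3, 1, 1, 1, 1, 1, -1, -1, 3, 1, -1, 3, -1, -3, 1, -1, 1, -1, 1],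
   [-3, -1, -1, 1, -1, -1, 1, 1, 1, 1, 1, 3, -1, -1, 1, 3, -1, -1, -3, -3, -1, 1, -1, 1],
   [-1, 1, 1, -1, 1, 1, -1, -1, -1, 3, 3, -3, 1, 1, 3, 1, -3, 1, -1, -1, 1, -1, 1, -1]]

/-- Its transpose. -/
def t6 : List (List ℤ) :=
  [[1, -1, -1, 1, 1, -3, 1, -1, 3, -1, -1, 3, -3, 1, 1, 1, -1, -1, -1, 1, -1, 1, -3, -1],
   [-1, 1, 1, -1, 3, 3, -1, 1, 1, 1, 1, 1, -1, 3, -1, -1, -3, 1, -3, -1, 1, -1, -1, 1],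
   [-1, 1, -3, -1, -1, -1, 3, 1, 1, 1, 1, 1, -1, -1, -1, -1, 1, 1, 1, -1, 5, -1, -1, 1],
   [1, -1, -1, -3, 1, 1, 1, -1, 3, 3, -1, -1, 1, -3, 1, -3, -1, -1, -1, 1, -1, 1, 1, -1],
   [3, 1, 1, -1, -1, 3, -1, 1, 1, -3, 1, 1, -1, -1, -1, -1, 1, -3, 1, -1, 1, 3, -1, 1],
   [-1, 1, 1, -1, -1, -1, -1, 1, 1, 1, 1, 1, 3, 3, 3, -1, 1, 1, 1, 3, 1, 3, -1, 1],
   [1, -1, -5, 1, 1, 1, -3, -1, -1, -1, -1, -1, 1, 1, 1, 1, -1, -1, -1, 1, 3, 1, 1, -1],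
   [1, -1, -1, 1, 1, 1, 1, -1, -1, 3, 3, 3, 1, 1, -3, 1, 3, -1, -1, 1, -1, 1, 1, -1],
   [1, 3, -1, -3, 1, -3, 1, -1, -1, -1, 3, -1, 1, 1, 1, 1, -1, -1, -1, -3, -1, 1, 1, -1],
   [-3, -1, -1, -3, 1, 1, 1, -1, -1, -1, -1, -1, -3, 1, 1, 1, 3, -1, -1, 1, -1, 1, 1, 3],
   [1, 3, -1, 1, 1, 1, 1, -1, -1, -1, -1, 3, 1, -3, 1, 1, -1, 3, -1, 1, -1, 1, 1, 3],
   [-1, 1, 1, -1, 3, -1, -1, 1, 1, -3, 1, 1, -1, -1, -1, -1, 1, 1, 1, 3, 1, -1, 3, -3],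
   [-1, 1, 1, -1, -1, -1, -1, -3, -3, 1, 1, 1, -1, -1, -1, -1, -3, -3, 1, 3, 1, -1, -1, 1],
   [-1, 1, 1, 3, 3, -1, -1, -3, 1, 1, 1, -3, -1, -1, -1, -1, 1, 1, 1, -1, 1, 3, -1, 1],
   [1, -1, -1, 1, 1, -3, 1, 3, -1, -1, -1, -1, 1, 1, -3, -3, -1, -1, -1, 1, -1, 1, 1, 3],
   [-1, 1, 1, 3, -1, -1, -1, 1, 1, 1, 1, 1, -1, -1, 3, -1, 1, -3, -3, -1, 1, -1, 3, 1],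
   [-1, 1, 1, -1, -1, -1, -1, 1, -3, 1, -3, 1, -1, -1, -1, -1, 1, 1, -3, -1, 1, 3, -1, -3],
   [-1, 1, 1, -1, 3, -1, -1, 1, 1, 1, -3, 1, 3, -1, -1, 3, 1, -3, 1, -1, 1, -1, -1, 1],
   [1, 3, -1, 1, 1, 1, 1, -1, -1, -1, -1, -1, 1, 1, 1, -3, 3, -1, -1, 1, -1, -3, -3, -1],
   [-3, -1, -1, 1, 1, 1, 1, 3, -1, -1, 3, -1, 1, -3, 1, 1, -1, -1, -1, 1, -1, 1, -3, -1],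
   [-1, 1, -3, -1, -1, -1, -5, 1, 1, 1, 1, 1, -1, -1, -1, -1, 1, 1, 1, -1, -3, -1, -1, 1],
   [1, 3, -1, 1, 1, 1, 1, 3, -1, 3, -1, -1, -3, 1, 1, 1, -1, -1, 3, 1, -1, 1, 1, -1],
   [3, 1, 1, -1, -1, -1, -1, 1, 1, 1, 1, -3, -1, -1, -1, 3, 1, 1, -3, 3, 1, -1, -1, 1],
   [-3, 3, -1, 1, -3, 1, 1, -1, 3, -1, -1, -1, 1, 1, -3, 1, -1, -1, -1, 1, -1, 1, 1, -1]]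

/-- A matrix. -/
def m7 : List (List ℤ) :=
  [[4, -2, -2, 0, -2, 0, 0, 0, 0, 2, -2, -2, 0, 0, -2, 0, 2, 2, -2, -2, 0, -2, 0, 0],
   [-2, 0, 0, -2, 0, 2, 2, 2, -2, 4, 0, 0, -2, 2, 0, -2, 0, 0, 0, 0, -2, 0, -2, 2],
   [-2, 0, 0, 2, 0, 2, -2, 2, 2, 0, 0, 0, 2, 2, 0, -2, 0, 0, -4, 0, -2, 0, 2, -2],
   [0, -2, 2, 4, 2, 0, 0, 0, 0, 2, -2, 2, 0, 0, 2, 0, -2, 2, 2, -2, 0, -2, 0, 0],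
   [-2, 0, 0, 2, 0, -2, -2, -2, -2, 0, 0, 0, -2, 2, 0, -2, 4, 0, 0, 0, 2, 0, 2, 2],
   [0, 2, 2, 0, 2, 4, 0, 0, 0, -2, -2, -2, 0, 0, -2, 0, 2, 2, 2, 2, 0, -2, 0, 0],
   [2, 0, 4, -2, 0, -2, 2, -2, -2, 0, 0, 0, 2, 2, 0, -2, 0, 0, 0, 0, -2, 0, 2, -2],
   [0, -2, 2, 0, -2, 0, 0, 4, 0, -2, 2, 2, 0, 0, -2, 0, 2, 2, 2, -2, 0, 2, 0, 0],
   [0, -2, 2, 0, -2, 0, 0, 0, 4, 2, -2, -2, 0, 0, 2, 0, 2, -2, 2, 2, 0, 2, 0, 0],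
   [0, -2, -2, 0, 2, 0, 0, 0, 0, 2, 2, 2, 4, 0, -2, 0, 2, -2, 2, 2, 0, -2, 0, 0],
   [0, 2, -2, 0, 2, 0, 0, 0, 0, 2, 2, -2, 0, 0, 2, 0, 2, 2, 2, -2, 0, 2, 0, -4],
   [0, 2, 2, 0, 2, 0, 0, 0, 0, 2, -2, 2, 0, 0, -2, 4, 2, -2, -2, -2, 0, 2, 0, 0],
   [2, 4, 0, 2, 0, -2, 2, 2, 2, 0, 0, 0, 2, 2, 0, -2, 0, 0, 0, 0, 2, 0, -2, 2],
   [-2, 0, 0, 2, -4, 2, 2, -2, -2, 0, 0, 0, 2, 2, 0, 2, 0, 0, 0, 0, 2, 0, -2, -2],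
   [0, -2, 2, 0, 2, 0, 0, 0, 0, -2, 2, -2, 0, 0, 2, 0, 2, -2, -2, -2, 0, -2, -4, 0],
   [2, 0, 0, 2, 0, -2, -2, 2, -2, 0, 0, 0, -2, 2, 0, 2, 0, 0, 0, 4, -2, 0, -2, -2],
   [0, 2, 2, 0, -2, 0, 0, 0, 0, 2, 2, 2, 0, -4, 2, 0, 2, 2, -2, 2, 0, -2, 0, 0],
   [2, 0, 0, -2, 0, 2, -2, 2, -2, 0, 0, 0, 2, 2, 4, 2, 0, 0, 0, 0, 2, 0, 2, 2],
   [0, 2, 2, 0, -2, 0, -4, 0, 0, 2, 2, -2, 0, 0, -2, 0, -2, -2, 2, -2, 0, -2, 0, 0],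
   [2, 0, 0, -2, 0, 2, -2, -2, 2, 0, 0, 4, -2, 2, 0, -2, 0, 0, 0, 0, 2, 0, -2, -2],
   [0, -2, 2, 0, 2, 0, 0, 0, 0, 2, 2, -2, 0, 0, -2, 0, -2, 2, -2, 2, 4, 2, 0, 0],
   [-2, 0, 0, -2, 0, -2, -2, 2, -2, 0, -4, 0, 2, -2, 0, -2, 0, 0, 0, 0, 2, 0, -2, -2],
   [2, 0, 0, 2, 0, 2, 2, 2, -2, 0, 0, 0, -2, -2, 0, -2, 0, -4, 0, 0, 2, 0, 2, -2],
   [2, 0, 0, 2, 0, 2, -2, -2, -2, 0, 0, 0, 2, -2, 0, -2, 0, 0, 0, 0, -2, 4, -2, 2]]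

/-- Its transpose. -/
def t7 : List (List ℤ) :=
  [[4, -2, -2, 0, -2, 0, 2, 0, 0, 0, 0, 0, 2, -2, 0, 2, 0, 2, 0, 2, 0, -2, 2, 2],
   [-2, 0, 0, -2, 0, 2, 0, -2, -2, -2, 2, 2, 4, 0, -2, 0, 2, 0, 2, 0, -2, 0, 0, 0],
   [-2, 0, 0, 2, 0, 2, 4, 2, 2, -2, -2, 2, 0, 0, 2, 0, 2, 0, 2, 0, 2, 0, 0, 0],
   [0, -2, 2, 4, 2, 0, -2, 0, 0, 0, 0, 0, 2, 2, 0, 2, 0, -2, 0, -2, 0, -2, 2, 2],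
   [-2, 0, 0, 2, 0, 2, 0, -2, -2, 2, 2, 2, 0, -4, 2, 0, -2, 0, -2, 0, 2, 0, 0, 0],
   [0, 2, 2, 0, -2, 4, -2, 0, 0, 0, 0, 0, -2, 2, 0, -2, 0, 2, 0, 2, 0, -2, 2, 2],
   [0, 2, -2, 0, -2, 0, 2, 0, 0, 0, 0, 0, 2, 2, 0, -2, 0, -2, -4, -2, 0, -2, 2, -2],
   [0, 2, 2, 0, -2, 0, -2, 4, 0, 0, 0, 0, 2, -2, 0, 2, 0, 2, 0, -2, 0, 2, 2, -2],
   [0, -2, 2, 0, -2, 0, -2, 0, 4, 0, 0, 0, 2, -2, 0, -2, 0, -2, 0, 2, 0, -2, -2, -2],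
   [2, 4, 0, 2, 0, -2, 0, -2, 2, 2, 2, 2, 0, 0, -2, 0, 2, 0, 2, 0, 2, 0, 0, 0],
   [-2, 0, 0, -2, 0, -2, 0, 2, -2, 2, 2, -2, 0, 0, 2, 0, 2, 0, 2, 0, 2, -4, 0, 0],
   [-2, 0, 0, 2, 0, -2, 0, 2, -2, 2, -2, 2, 0, 0, -2, 0, 2, 0, -2, 4, -2, 0, 0, 0],
   [0, -2, 2, 0, -2, 0, 2, 0, 0, 4, 0, 0, 2, 2, 0, -2, 0, 2, 0, -2, 0, 2, -2, 2],
   [0, 2, 2, 0, 2, 0, 2, 0, 0, 0, 0, 0, 2, 2, 0, 2, -4, 2, 0, 2, 0, -2, -2, -2],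
   [-2, 0, 0, 2, 0, -2, 0, -2, 2, -2, 2, -2, 0, 0, 2, 0, 2, 4, -2, 0, -2, 0, 0, 0],
   [0, -2, -2, 0, -2, 0, -2, 0, 0, 0, 0, 4, -2, 2, 0, 2, 0, 2, 0, -2, 0, -2, -2, -2],
   [2, 0, 0, -2, 4, 2, 0, 2, 2, 2, 2, 2, 0, 0, 2, 0, 2, 0, -2, 0, -2, 0, 0, 0],
   [2, 0, 0, 2, 0, 2, 0, 2, -2, -2, 2, -2, 0, 0, -2, 0, 2, 0, -2, 0, 2, 0, -4, 0],
   [-2, 0, -4, 2, 0, 2, 0, 2, 2, 2, 2, -2, 0, 0, -2, 0, -2, 0, 2, 0, -2, 0, 0, 0],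
   [-2, 0, 0, -2, 0, 2, 0, -2, 2, 2, -2, -2, 0, 0, -2, 4, 2, 0, -2, 0, 2, 0, 0, 0],
   [0, -2, -2, 0, 2, 0, -2, 0, 0, 0, 0, 0, 2, 2, 0, -2, 0, 2, 0, 2, 4, 2, 2, -2],
   [-2, 0, 0, -2, 0, -2, 0, 2, 2, -2, 2, 2, 0, 0, -2, 0, -2, 0, -2, 0, 2, 0, 0, 4],
   [0, -2, 2, 0, 2, 0, 2, 0, 0, 0, 0, 0, -2, -2, -4, -2, 0, 2, 0, -2, 0, -2, 2, -2],
   [0, 2, -2, 0, 2, 0, -2, 0, 0, 0, -4, 0, 2, -2, 0, -2, 0, 2, 0, -2, 0, -2, -2, 2]]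

/-- A matrix. -/
def m8 : List (List ℤ) :=
  [[-1, -1, -1, -3, -1, 1, -1, 1, -3, -1, -1, 1, -1, 3, -1, 1, 3, 3, -1, 1, 1, -1, -1, -1],
   [1, -3, 1, -1, 1, -1, 1, -1, -1, -3, 1, -1, 1, 1, 1, -1, 1, -3, 1, -1, -1, -3, -3, 1],
   [-1, -1, -1, 1, -1, 1, -1, 1, 1, -1, -1, 1, 3, 3, -1, -3, -1, -1, -1, 1, -3, -1, 3, -1],
   [1, 1, 1, -1, 1, -1, 1, -1, -1, 1, -3, 3, 1, 1, -3, 3, 1, -3, 1, -1, -1, 1, 1, 1],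
   [-1, -1, -1, 1, -1, 1, -1, -3, -3, 3, -1, 1, -1, -1, -1, -3, -1, -1, -1, -3, 1, -1, -1, -1],
   [1, 1, 1, -1, -3, -1, 1, -1, -1, -3, -3, -1, -3, 1, 1, -1, -3, 1, 1, -1, -1, 1, 1, 1],
   [1, 1, 5, -1, 1, -1, 1, -1, -1, 1, 1, -1, 1, 1, 1, -1, 1, 1, -3, -1, -1, 1, 1, -3],
   [1, 1, 1, -1, -3, 3, 1, -1, 3, 1, 1, -1, 1, 1, -3, -1, 1, 1, 1, -1, -1, 1, -3, 1],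
   [-1, -1, 3, 1, -1, 1, -1, 1, 1, -1, -1, 1, -1, -1, -1, 1, -1, -1, 3, 1, 1, -1, -1, -5],
   [-1, 3, -1, 1, -1, -3, -1, -3, 1, -1, 3, 1, -1, 3, -1, 1, -1, -1, -1, 1, 1, -1, -1, -1],
   [1, 1, -3, -1, 1, -1, 1, -1, -1, 1, 1, -1, 1, 1, 1, -1, 1, 1, 5, -1, -1, 1, 1, -3],
   [-3, 1, 1, 3, 1, -1, 1, -1, -1, 1, -3, -1, 1, 1, 1, -1, 1, 1, 1, 3, -1, 1, -3, 1],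
   [3, -1, -1, 1, -1, 1, 3, 1, 1, 3, -1, 1, -1, 3, 3, 1, -1, -1, -1, 1, 1, -1, -1, -1],
   [-1, -1, -1, 1, -1, -3, 3, 1, 1, -1, -1, 1, 3, -1, -1, 1, -1, 3, -1, -3, 1, -1, -1, -1],
   [1, 1, 1, 3, 1, -1, 1, 3, -1, 1, 1, -1, -3, 1, -3, -1, 1, 1, 1, -1, -1, -3, 1, 1],
   [1, 1, 1, -1, 1, -1, -3, 3, -1, 1, 1, 3, 1, 1, 1, -1, -3, 1, 1, -1, -1, 1, -3, 1],
   [-3, 1, 1, -1, 1, 3, 1, -1, -1, 1, 1, -1, 1, 1, 1, 3, -3, 1, 1, -1, -1, -3, 1, 1],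
   [3, 3, -1, 1, -1, 1, -1, 1, -3, -1, -1, -3, 3, -1, -1, 1, -1, -1, -1, 1, 1, -1, -1, -1],
   [-1, -1, -1, -3, -1, -3, -1, 1, 1, 3, -1, -3, -1, -1, -1, 1, -1, -1, -1, 1, -3, -1, -1, -1],
   [-1, -1, -1, 1, 3, 1, -1, 1, 1, -1, -1, -3, -1, 3, -1, 1, -1, -1, -1, -3, 1, 3, -1, -1],
   [1, -3, 1, -1, 1, -1, 1, -1, -1, 1, 1, -1, 1, 1, -3, -1, -3, 1, 1, 3, 3, 1, 1, 1],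
   [1, 1, 1, -1, 1, -1, -3, -1, 3, 1, -3, -1, 1, 1, 1, -1, 1, 1, 1, -1, 3, -3, 1, 1],
   [-1, 3, -1, -3, 3, 1, 3, 1, 1, -1, -1, 1, -1, -1, -1, -3, -1, -1, -1, 1, 1, -1, -1, -1],
   [3, -1, -1, 1, 3, 1, -1, -3, 1, -1, -1, 1, -1, -1, -1, 1, -1, 3, -1, 1, -3, -1, -1, -1]]

/-- Its transpose. -/
def t8 : List (List ℤ) :=
  [[-1, 1, -1, 1, -1, 1, 1, 1, -1, -1, 1, -3, 3, -1, 1, 1, -3, 3, -1, -1, 1, 1, -1, 3],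
   [-1, -3, -1, 1, -1, 1, 1, 1, -1, 3, 1, 1, -1, -1, 1, 1, 1, 3, -1, -1, -3, 1, 3, -1],
   [-1, 1, -1, 1, -1, 1, 5, 1, 3, -1, -3, 1, -1, -1, 1, 1, 1, -1, -1, -1, 1, 1, -1, -1],
   [-3, -1, 1, -1, 1, -1, -1, -1, 1, 1, -1, 3, 1, 1, 3, -1, -1, 1, -3, 1, -1, -1, -3, 1],
   [-1, 1, -1, 1, -1, -3, 1, -3, -1, -1, 1, 1, -1, -1, 1, 1, 1, -1, -1, 3, 1, 1, 3, 3],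
   [1, -1, 1, -1, 1, -1, -1, 3, 1, -3, -1, -1, 1, -3, -1, -1, 3, 1, -3, 1, -1, -1, 1, 1],
   [-1, 1, -1, 1, -1, 1, 1, 1, -1, -1, 1, 1, 3, 3, 1, -3, 1, -1, -1, -1, 1, -3, 3, -1],
   [1, -1, 1, -1, -3, -1, -1, -1, 1, -3, -1, -1, 1, 1, 3, 3, -1, 1, 1, 1, -1, -1, 1, -3],
   [-3, -1, 1, -1, -3, -1, -1, 3, 1, 1, -1, -1, 1, 1, -1, -1, -1, -3, 1, 1, -1, 3, 1, 1],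
   [-1, -3, -1, 1, 3, -3, 1, 1, -1, -1, 1, 1, 3, -1, 1, 1, 1, -1, 3, -1, 1, 1, -1, -1],
   [-1, 1, -1, -3, -1, -3, 1, 1, -1, 3, 1, -3, -1, -1, 1, 1, 1, -1, -1, -1, 1, -3, -1, -1],
   [1, -1, 1, 3, 1, -1, -1, -1, 1, 1, -1, -1, 1, 1, -1, 3, -1, -3, -3, -3, -1, -1, 1, 1],
   [-1, 1, 3, 1, -1, -3, 1, 1, -1, -1, 1, 1, -1, 3, -3, 1, 1, 3, -1, -1, 1, 1, -1, -1],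
   [3, 1, 3, 1, -1, 1, 1, 1, -1, 3, 1, 1, 3, -1, 1, 1, 1, -1, -1, 3, 1, 1, -1, -1],
   [-1, 1, -1, -3, -1, 1, 1, -3, -1, -1, 1, 1, 3, -1, -3, 1, 1, -1, -1, -1, -3, 1, -1, -1],
   [1, -1, -3, 3, -3, -1, -1, -1, 1, 1, -1, -1, 1, 1, -1, -1, 3, 1, 1, 1, -1, -1, -3, 1],
   [3, 1, -1, 1, -1, -3, 1, 1, -1, -1, 1, 1, -1, -1, 1, -3, -3, -1, -1, -1, -3, 1, -1, -1],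
   [3, -3, -1, -3, -1, 1, 1, 1, -1, -1, 1, 1, -1, 3, 1, 1, 1, -1, -1, -1, 1, 1, -1, 3],
   [-1, 1, -1, 1, -1, 1, -3, 1, 3, -1, 5, 1, -1, -1, 1, 1, 1, -1, -1, -1, 1, 1, -1, -1],
   [1, -1, 1, -1, -3, -1, -1, -1, 1, 1, -1, 3, 1, -3, -1, -1, -1, 1, 1, -3, 3, -1, 1, 1],
   [1, -1, -3, -1, 1, -1, -1, -1, 1, 1, -1, -1, 1, 1, -1, -1, -1, 1, -3, 1, 3, 3, 1, -3],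
   [-1, -3, -1, 1, -1, 1, 1, 1, -1, -1, 1, 1, -1, -1, -3, 1, -3, -1, -1, 3, 1, -3, -1, -1],
   [-1, -3, 3, 1, -1, 1, 1, -3, -1, -1, 1, -3, -1, -1, 1, -3, 1, -1, -1, -1, 1, 1, -1, -1],
   [-1, 1, -1, 1, -1, 1, -3, 1, -5, -1, -3, 1, -1, -1, 1, 1, 1, -1, -1, -1, 1, 1, -1, -1]]

/-- A matrix. -/
def m9 : List (List ℤ) :=
  [[1, 1, 1, -1, 3, 1, 1, 3, 1, 1, 3, -3, 1, 1, 1, 1, 1, -1, 1, -1, -1, 1, -1, -3],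
   [-1, -1, 3, 1, 1, -1, -1, 1, -1, -1, 1, 3, -1, -1, -1, 3, -1, 1, -1, 1, 1, 3, -3, -1],
   [-1, 3, 3, 1, 1, -1, -1, 1, -1, 3, -3, -1, -1, -1, 3, -1, -1, 1, -1, 1, 1, -1, 1, -1],
   [-1, 3, -1, 1, 1, -1, 3, 1, -1, -1, 1, 3, -1, -1, -1, -1, 3, 1, -1, 1, -3, -1, 1, -1],
   [1, 1, 1, -1, 3, -3, 1, -1, 1, -3, -1, 1, 1, 1, 1, -3, -3, -1, 1, -1, -1, 1, -1, 1],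
   [1, 1, 1, 3, -1, 1, 1, -1, 5, 1, -1, 1, 1, 1, 1, 1, 1, -1, -3, -1, -1, 1, -1, 1],
   [1, 1, -3, -1, -1, 1, 1, -1, 1, 1, -1, 1, 1, -3, 1, 1, -3, 3, 1, -1, -1, 1, -1, -3],
   [-1, -1, -1, 1, 1, -1, -1, -3, -1, 3, 1, -1, -1, -1, -1, -1, -1, -3, -1, 1, -3, 3, 1, -1],
   [-1, -1, -1, 1, -3, -1, 3, 1, -1, -1, 1, -1, -1, 3, 3, -1, -1, 1, -1, 1, 1, 3, 1, -1],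
   [1, -3, 1, -1, -1, -3, 1, -1, 1, 1, -1, 1, 1, 1, 1, 1, 1, -1, 1, 3, -1, -3, -1, -3],
   [-1, -1, -1, 1, 1, 3, -1, 1, -1, -1, 1, 3, 3, -1, 3, -1, -1, -3, -1, 1, 1, -1, 1, -1],
   [-1, -1, -1, 5, 1, -1, -1, 1, 3, -1, 1, -1, -1, -1, -1, -1, -1, 1, 3, 1, 1, -1, 1, -1],
   [-1, -1, -1, 1, 1, -1, 3, 1, -1, 3, 1, -1, 3, -1, -1, -1, -1, 1, -1, 1, 1, -1, -3, 3],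
   [-1, -1, -1, 1, 1, 3, -1, 1, -1, -1, -3, -1, -1, 3, -1, -1, -1, 1, -1, 1, -3, -1, -3, -1],
   [3, -1, 3, 1, 1, 3, 3, -3, -1, -1, 1, -1, -1, -1, -1, -1, -1, 1, -1, 1, 1, -1, 1, -1],
   [-3, 1, 1, -1, -1, 1, 1, -1, 1, -3, -1, -3, 1, -3, 1, 1, 1, -1, 1, 3, -1, 1, -1, 1],
   [-3, 1, 1, -1, -1, 1, 1, -1, 1, 1, -1, 1, 1, 1, -3, -3, 1, -1, 1, -1, 3, 1, -1, -3],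
   [-1, -1, -1, 1, 1, -1, 3, 1, -1, -1, -3, -1, -1, -1, -1, 3, -1, -3, -1, -3, 1, -1, 1, -1],
   [1, 1, 1, 3, -1, 1, 1, -1, -3, 1, -1, 1, 1, 1, 1, 1, 1, -1, 5, -1, -1, 1, -1, 1],
   [1, 1, 1, -1, -1, 1, 1, 3, 1, 1, -1, 1, 1, 1, -3, 1, -3, -1, 1, 3, -1, 1, 3, 1],
   [-3, -3, 1, -1, 3, 1, 1, -1, 1, 1, -1, 1, 1, 1, 1, 1, 1, 3, 1, -1, -1, 1, 3, 1],
   [1, 1, -3, -1, 3, 1, 1, -1, 1, 1, -1, 1, -3, 1, 1, 1, 1, -1, 1, 3, 3, 1, -1, 1],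
   [-3, 1, 1, -1, -1, 1, 1, -1, 1, 1, 3, 1, -3, 1, 1, 1, -3, -1, 1, -1, -1, -3, -1, 1],
   [-1, 3, -1, 1, 1, -1, -1, -3, -1, -1, 1, -1, 3, 3, -1, 3, -1, 1, -1, 1, 1, -1, 1, -1]]

/-- Its transpose. -/
def t9 : List (List ℤ) :=
  [[1, -1, -1, -1, 1, 1, 1, -1, -1, 1, -1, -1, -1, -1, 3, -3, -3, -1, 1, 1, -3, 1, -3, -1],
   [1, -1, 3, 3, 1, 1, 1, -1, -1, -3, -1, -1, -1, -1, -1, 1, 1, -1, 1, 1, -3, 1, 1, 3],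
   [1, 3, 3, -1, 1, 1, -3, -1, -1, 1, -1, -1, -1, -1, 3, 1, 1, -1, 1, 1, 1, -3, 1, -1],
   [-1, 1, 1, 1, -1, 3, -1, 1, 1, -1, 1, 5, 1, 1, 1, -1, -1, 1, 3, -1, -1, -1, -1, 1],
   [3, 1, 1, 1, 3, -1, -1, 1, -3, -1, 1, 1, 1, 1, 1, -1, -1, 1, -1, -1, 3, 3, -1, 1],
   [1, -1, -1, -1, -3, 1, 1, -1, -1, -3, 3, -1, -1, 3, 3, 1, 1, -1, 1, 1, 1, 1, 1, -1],
   [1, -1, -1, 3, 1, 1, 1, -1, 3, 1, -1, -1, 3, -1, 3, 1, 1, 3, 1, 1, 1, 1, 1, -1],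
   [3, 1, 1, 1, -1, -1, -1, -3, 1, -1, 1, 1, 1, 1, -3, -1, -1, 1, -1, 3, -1, -1, -1, -3],
   [1, -1, -1, -1, 1, 5, 1, -1, -1, 1, -1, 3, -1, -1, -1, 1, 1, -1, -3, 1, 1, 1, 1, -1],
   [1, -1, 3, -1, -3, 1, 1, 3, -1, 1, -1, -1, 3, -1, -1, -3, 1, -1, 1, 1, 1, 1, 1, -1],
   [3, 1, -3, 1, -1, -1, -1, 1, 1, -1, 1, 1, 1, -3, 1, -1, -1, -3, -1, -1, -1, -1, 3, 1],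
   [-3, 3, -1, 3, 1, 1, 1, -1, -1, 1, 3, -1, -1, -1, -1, -3, 1, -1, 1, 1, 1, 1, 1, -1],
   [1, -1, -1, -1, 1, 1, 1, -1, -1, 1, 3, -1, 3, -1, -1, 1, 1, -1, 1, 1, 1, -3, -3, 3],
   [1, -1, -1, -1, 1, 1, -3, -1, 3, 1, -1, -1, -1, 3, -1, -3, 1, -1, 1, 1, 1, 1, 1, 3],
   [1, -1, 3, -1, 1, 1, 1, -1, 3, 1, 3, -1, -1, -1, -1, 1, -3, -1, 1, -3, 1, 1, 1, -1],
   [1, 3, -1, -1, -3, 1, 1, -1, -1, 1, -1, -1, -1, -1, -1, 1, -3, 3, 1, 1, 1, 1, 1, 3],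
   [1, -1, -1, 3, -3, 1, -3, -1, -1, 1, -1, -1, -1, -1, -1, 1, 1, -1, 1, -3, 1, 1, -3, -1],
   [-1, 1, 1, 1, -1, -1, 3, -3, 1, -1, -3, 1, 1, 1, 1, -1, -1, -3, -1, -1, 3, -1, -1, 1],
   [1, -1, -1, -1, 1, -3, 1, -1, -1, 1, -1, 3, -1, -1, -1, 1, 1, -1, 5, 1, 1, 1, 1, -1],
   [-1, 1, 1, 1, -1, -1, -1, 1, 1, 3, 1, 1, 1, 1, 1, 3, -1, -3, -1, 3, -1, 3, -1, 1],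
   [-1, 1, 1, -3, -1, -1, -1, -3, 1, -1, 1, 1, 1, -3, 1, -1, 3, 1, -1, -1, -1, 3, -1, 1],
   [1, 3, -1, -1, 1, 1, 1, 3, 3, -3, -1, -1, -1, -1, -1, 1, 1, -1, 1, 1, 1, 1, -3, -1],
   [-1, -3, 1, 1, -1, -1, -1, 1, 1, -1, 1, 1, -3, -3, 1, -1, -1, 1, -1, 3, 3, -1, -1, 1],
   [-3, -1, -1, -1, 1, 1, -3, -1, -1, -3, -1, -1, 3, -1, -1, 1, -3, -1, 1, 1, 1, 1, 1, -1]]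

/-- A matrix. -/
def m10 : List (List ℤ) :=
  [[0, -2, -2, 2, 0, 0, 0, -4, -2, 0, 0, 0, 2, 0, 2, 2, 0, -2, -2, -2, 0, 0, -2, 2],
   [-2, 0, 0, 0, -2, 2, 2, -2, 0, 2, 2, -2, 0, -2, 0, 0, -2, 0, 0, 0, -2, 2, 4, 0],
   [0, -2, -2, -2, 0, 0, 0, 0, 2, 0, 0, 0, 2, 0, -2, 2, 4, -2, 2, 2, 0, 0, 2, 2],
   [2, 0, 0, 0, -2, -2, -2, 2, 0, 2, 2, 2, 0, -2, 0, 4, -2, 0, 0, 0, -2, -2, 0, 0],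
   [0, -2, 2, -2, 0, 0, 0, 0, -2, 0, 0, 0, -2, 0, -2, 2, 0, -2, 2, -2, 0, 4, -2, -2],
   [0, 2, -2, -2, 0, 0, 0, 0, 2, 0, 0, 0, -2, -4, 2, -2, 0, -2, 2, -2, 0, 0, -2, 2],
   [2, 0, 0, -4, 2, 2, 2, -2, 0, 2, -2, 2, 0, 2, 0, 0, -2, 0, 0, 0, -2, -2, 0, 0],
   [0, -2, 2, 2, 0, 0, 0, 0, 2, 4, 0, 0, 2, 0, 2, -2, 0, -2, 2, 2, 0, 0, -2, -2],
   [2, 0, 0, 0, 2, 2, -2, -2, 0, 2, 2, 2, 0, -2, 0, 0, 2, 4, 0, 0, 2, 2, 0, 0],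
   [0, 2, -2, 2, 4, 0, 0, 0, -2, 0, 0, 0, -2, 0, 2, 2, 0, -2, 2, 2, 0, 0, 2, -2],
   [-2, 0, 0, 0, -2, 2, -2, -2, 0, -2, 2, 2, 0, 2, 0, 0, -2, 0, 4, 0, 2, -2, 0, 0],
   [0, -2, -2, 2, 0, 0, 0, 0, 2, 0, 0, 4, -2, 0, -2, -2, 0, -2, -2, -2, 0, 0, 2, -2],
   [2, 0, 0, 0, -2, -2, 2, -2, 0, 2, 2, -2, -4, 2, 0, 0, 2, 0, 0, 0, 2, -2, 0, 0],
   [2, 0, 0, 0, -2, 2, -2, -2, 0, -2, -2, -2, 0, -2, 0, 0, 2, 0, 0, 0, -2, -2, 0, -4],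
   [2, 0, -4, 0, -2, 2, -2, 2, 0, 2, -2, -2, 0, 2, 0, 0, -2, 0, 0, 0, 2, 2, 0, 0],
   [0, -2, 2, 2, 0, 0, 0, 0, 2, 0, -4, 0, -2, 0, 2, 2, 0, 2, 2, -2, 0, 0, 2, 2],
   [-2, 0, 0, 0, 2, -2, -2, -2, 0, 2, -2, -2, 0, -2, -4, 0, -2, 0, 0, 0, 2, -2, 0, 0],
   [2, 0, 0, 0, 2, -2, -2, -2, 4, -2, 2, -2, 0, 2, 0, 0, -2, 0, 0, 0, -2, 2, 0, 0],
   [-2, 0, 0, 0, 2, 2, -2, 2, 0, 2, 2, -2, 0, 2, 0, 0, 2, 0, 0, -4, -2, -2, 0, 0],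
   [0, -2, 2, -2, 0, 0, -4, 0, -2, 0, 0, 0, -2, 0, 2, -2, 0, -2, -2, 2, 0, 0, 2, 2],
   [-4, -2, -2, -2, 0, 0, 0, 0, 2, 0, 0, 0, -2, 0, 2, 2, 0, 2, -2, 2, 0, 0, -2, -2],
   [0, 2, 2, -2, 0, 0, 0, 0, 2, 0, 0, 0, 2, 0, 2, 2, 0, -2, -2, -2, 4, 0, 2, -2],
   [-2, 4, 0, 0, -2, -2, -2, -2, 0, 2, -2, 2, 0, 2, 0, 0, 2, 0, 0, 0, -2, 2, 0, 0],
   [0, -2, -2, -2, 0, -4, 0, 0, -2, 0, 0, 0, 2, 0, 2, -2, 0, 2, 2, -2, 0, 0, 2, -2]]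

/-- Its transpose. -/
def t10 : List (List ℤ) :=
  [[0, -2, 0, 2, 0, 0, 2, 0, 2, 0, -2, 0, 2, 2, 2, 0, -2, 2, -2, 0, -4, 0, -2, 0],
   [-2, 0, -2, 0, -2, 2, 0, -2, 0, 2, 0, -2, 0, 0, 0, -2, 0, 0, 0, -2, -2, 2, 4, -2],
   [-2, 0, -2, 0, 2, -2, 0, 2, 0, -2, 0, -2, 0, 0, -4, 2, 0, 0, 0, 2, -2, 2, 0, -2],
   [2, 0, -2, 0, -2, -2, -4, 2, 0, 2, 0, 2, 0, 0, 0, 2, 0, 0, 0, -2, -2, -2, 0, -2],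
   [0, -2, 0, -2, 0, 0, 2, 0, 2, 4, -2, 0, -2, -2, -2, 0, 2, 2, 2, 0, 0, 0, -2, 0],
   [0, 2, 0, -2, 0, 0, 2, 0, 2, 0, 2, 0, -2, 2, 2, 0, -2, -2, 2, 0, 0, 0, -2, -4],
   [0, 2, 0, -2, 0, 0, 2, 0, -2, 0, -2, 0, 2, -2, -2, 0, -2, -2, -2, -4, 0, 0, -2, 0],
   [-4, -2, 0, 2, 0, 0, -2, 0, -2, 0, -2, 0, -2, -2, 2, 0, -2, -2, 2, 0, 0, 0, -2, 0],
   [-2, 0, 2, 0, -2, 2, 0, 2, 0, -2, 0, 2, 0, 0, 0, 2, 0, 4, 0, -2, 2, 2, 0, -2],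
   [0, 2, 0, 2, 0, 0, 2, 4, 2, 0, -2, 0, 2, -2, 2, 0, 2, -2, 2, 0, 0, 0, 2, 0],
   [0, 2, 0, 2, 0, 0, -2, 0, 2, 0, 2, 0, 2, -2, -2, -4, -2, 2, 2, 0, 0, 0, -2, 0],
   [0, -2, 0, 2, 0, 0, 2, 0, 2, 0, 2, 4, -2, -2, -2, 0, -2, -2, -2, 0, 0, 0, 2, 0],
   [2, 0, 2, 0, -2, -2, 0, 2, 0, -2, 0, -2, -4, 0, 0, -2, 0, 0, 0, -2, -2, 2, 0, 2],
   [0, -2, 0, -2, 0, -4, 2, 0, -2, 0, 2, 0, 2, -2, 2, 0, -2, 2, 2, 0, 0, 0, 2, 0],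
   [2, 0, -2, 0, -2, 2, 0, 2, 0, 2, 0, -2, 0, 0, 0, 2, -4, 0, 0, 2, 2, 2, 0, 2],
   [2, 0, 2, 4, 2, -2, 0, -2, 0, 2, 0, -2, 0, 0, 0, 2, 0, 0, 0, -2, 2, 2, 0, -2],
   [0, -2, 4, -2, 0, 0, -2, 0, 2, 0, -2, 0, 2, 2, -2, 0, -2, -2, 2, 0, 0, 0, 2, 0],
   [-2, 0, -2, 0, -2, -2, 0, -2, 4, -2, 0, -2, 0, 0, 0, 2, 0, 0, 0, -2, 2, -2, 0, 2],
   [-2, 0, 2, 0, 2, 2, 0, 2, 0, 2, 4, -2, 0, 0, 0, 2, 0, 0, 0, -2, -2, -2, 0, 2],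
   [-2, 0, 2, 0, -2, -2, 0, 2, 0, 2, 0, -2, 0, 0, 0, -2, 0, 0, -4, 2, 2, -2, 0, -2],
   [0, -2, 0, -2, 0, 0, -2, 0, 2, 0, 2, 0, 2, -2, 2, 0, 2, -2, -2, 0, 0, 4, -2, 0],
   [0, 2, 0, -2, 4, 0, -2, 0, 2, 0, -2, 0, -2, -2, 2, 0, -2, 2, -2, 0, 0, 0, 2, 0],
   [-2, 4, 2, 0, -2, -2, 0, -2, 0, 2, 0, 2, 0, 0, 0, 2, 0, 0, 0, 2, -2, 2, 0, 2],
   [2, 0, 2, 0, -2, 2, 0, -2, 0, -2, 0, -2, 0, -4, 0, 2, 0, 0, 0, 2, -2, -2, 0, -2]]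

/-- A matrix. -/
def m11 : List (List ℤ) :=
  [[-1, 1, -1, 1, -1, 1, 1, 1, -3, -1, -1, -3, 1, 1, -1, -3, 1, 3, 1, -3, 1, 1, -1, 1],
   [1, -1, 1, 3, -3, -1, -1, -1, -1, 1, 1, -1, -1, -1, 1, 3, 3, 1, -1, -1, -1, 3, 1, -1],
   [-1, 1, -5, 1, -1, 1, 1, 1, 1, -1, -1, 1, -3, -3, -1, 1, 1, -1, 1, 1, 1, 1, -1, 1],
   [1, 3, 1, -1, -3, -1, -1, -1, -1, 1, 1, -1, -1, -1, -3, -1, -1, -3, 3, -1, -1, -1, 1, -1],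
   [-1, -3, -1, -3, -1, 1, 1, 1, 1, 3, -1, 1, 1, 1, -1, 1, 1, -1, 1, -3, 1, 1, -1, -3],
   [1, -1, 1, -1, 1, -1, -1, 3, -1, -3, -3, -1, -1, -1, -3, 3, -1, 1, -1, -1, -1, -1, 1, -1],
   [1, -1, 1, -1, 1, -1, -1, -1, -1, 1, 1, -1, -1, -1, 1, 3, -1, 1, 3, -1, 3, -1, -3, 3],
   [1, -1, 1, -1, 1, 3, -1, -1, -1, 1, 1, 3, -1, -1, -3, -1, 3, 1, -1, -1, -1, -1, 1, 3],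
   [-3, -1, 1, -1, 1, -1, -1, -1, -1, 1, -3, -1, -1, -1, 1, -1, -1, -3, -1, -1, -1, 3, 1, 3],
   [-1, 1, -1, 1, 3, -3, 1, 1, 1, -1, 3, 1, 1, 1, -1, 1, 1, -1, 1, -3, 1, 1, 3, 1],
   [-1, 1, -1, 1, -1, -3, 1, 1, -3, 3, -1, 1, 1, 1, -1, 1, 1, -1, -3, 1, 1, -3, -1, 1],
   [-3, -1, 1, -1, 1, -1, -1, 3, -1, 1, 1, -1, -1, -1, 1, -1, 3, 1, 3, 3, -1, -1, 1, -1],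
   [1, -1, -3, -1, 1, -1, -1, -1, -1, 1, 1, -1, 3, -5, 1, -1, -1, 1, -1, -1, -1, -1, 1, -1],
   [1, -1, -3, -1, 1, -1, -1, -1, -1, 1, 1, -1, -5, 3, 1, -1, -1, 1, -1, -1, -1, -1, 1, -1],
   [-1, 1, -1, -3, -1, -3, 1, -3, 1, -1, -1, 1, 1, 1, -1, 1, 1, 3, 1, 1, -3, 1, -1, 1],
   [-3, 3, 1, -1, 1, 3, 3, -1, -1, 1, 1, -1, -1, -1, 1, 3, -1, 1, -1, -1, -1, -1, 1, -1],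
   [1, 3, 1, -1, 1, -1, -1, 3, -1, 1, 1, 3, -1, -1, 1, -1, -1, 1, -1, -1, -1, 3, -3, -1],
   [3, 1, -1, -3, -1, 1, 1, 1, -3, -1, -1, 1, 1, 1, 3, 1, 1, -1, 1, 1, 1, 1, 3, 1],
   [1, -1, 1, 3, 1, -1, 3, -1, -1, 1, -3, 3, -1, -1, 1, -1, -1, 1, 3, -1, -1, -1, 1, -1],
   [-3, -1, 1, -1, -3, -1, -1, -1, -1, -3, 1, 3, -1, -1, 1, -1, -1, 1, -1, -1, 3, -1, 1, -1],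
   [1, -1, 1, -1, 1, -1, 3, -1, -1, 1, 1, -1, -1, -1, -3, -1, -1, 1, -1, 3, 3, 3, 1, -1],
   [1, 3, 1, -1, 1, -1, -1, -1, 3, 1, -3, -1, -1, -1, 1, -1, 3, 1, -1, -1, 3, -1, 1, -1],
   [-1, 1, -1, 1, -1, 1, -3, 1, 1, 3, -1, 1, 1, 1, -1, 1, -3, 3, 1, 1, 1, 1, 3, 1],
   [1, -1, 1, -1, -3, -1, 3, 3, 3, 1, 1, -1, -1, -1, 1, -1, -1, 1, -1, -1, -1, -1, 1, 3]]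

/-- Its transpose. -/
def t11 : List (List ℤ) :=
  [[-1, 1, -1, 1, -1, 1, 1, 1, -3, -1, -1, -3, 1, 1, -1, -3, 1, 3, 1, -3, 1, 1, -1, 1],
   [1, -1, 1, 3, -3, -1, -1, -1, -1, 1, 1, -1, -1, -1, 1, 3, 3, 1, -1, -1, -1, 3, 1, -1],
   [-1, 1, -5, 1, -1, 1, 1, 1, 1, -1, -1, 1, -3, -3, -1, 1, 1, -1, 1, 1, 1, 1, -1, 1],
   [1, 3, 1, -1, -3, -1, -1, -1, -1, 1, 1, -1, -1, -1, -3, -1, -1, -3, 3, -1, -1, -1, 1, -1],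
   [-1, -3, -1, -3, -1, 1, 1, 1, 1, 3, -1, 1, 1, 1, -1, 1, 1, -1, 1, -3, 1, 1, -1, -3],
   [1, -1, 1, -1, 1, -1, -1, 3, -1, -3, -3, -1, -1, -1, -3, 3, -1, 1, -1, -1, -1, -1, 1, -1],
   [1, -1, 1, -1, 1, -1, -1, -1, -1, 1, 1, -1, -1, -1, 1, 3, -1, 1, 3, -1, 3, -1, -3, 3],
   [1, -1, 1, -1, 1, 3, -1, -1, -1, 1, 1, 3, -1, -1, -3, -1, 3, 1, -1, -1, -1, -1, 1, 3],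
   [-3, -1, 1, -1, 1, -1, -1, -1, -1, 1, -3, -1, -1, -1, 1, -1, -1, -3, -1, -1, -1, 3, 1, 3],
   [-1, 1, -1, 1, 3, -3, 1, 1, 1, -1, 3, 1, 1, 1, -1, 1, 1, -1, 1, -3, 1, 1, 3, 1],
   [-1, 1, -1, 1, -1, -3, 1, 1, -3, 3, -1, 1, 1, 1, -1, 1, 1, -1, -3, 1, 1, -3, -1, 1],
   [-3, -1, 1, -1, 1, -1, -1, 3, -1, 1, 1, -1, -1, -1, 1, -1, 3, 1, 3, 3, -1, -1, 1, -1],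
   [1, -1, -3, -1, 1, -1, -1, -1, -1, 1, 1, -1, 3, -5, 1, -1, -1, 1, -1, -1, -1, -1, 1, -1],
   [1, -1, -3, -1, 1, -1, -1, -1, -1, 1, 1, -1, -5, 3, 1, -1, -1, 1, -1, -1, -1, -1, 1, -1],
   [-1, 1, -1, -3, -1, -3, 1, -3, 1, -1, -1, 1, 1, 1, -1, 1, 1, 3, 1, 1, -3, 1, -1, 1],
   [-3, 3, 1, -1, 1, 3, 3, -1, -1, 1, 1, -1, -1, -1, 1, 3, -1, 1, -1, -1, -1, -1, 1, -1],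
   [1, 3, 1, -1, 1, -1, -1, 3, -1, 1, 1, 3, -1, -1, 1, -1, -1, 1, -1, -1, -1, 3, -3, -1],
   [3, 1, -1, -3, -1, 1, 1, 1, -3, -1, -1, 1, 1, 1, 3, 1, 1, -1, 1, 1, 1, 1, 3, 1],
   [1, -1, 1, 3, 1, -1, 3, -1, -1, 1, -3, 3, -1, -1, 1, -1, -1, 1, 3, -1, -1, -1, 1, -1],
   [-3, -1, 1, -1, -3, -1, -1, -1, -1, -3, 1, 3, -1, -1, 1, -1, -1, 1, -1, -1, 3, -1, 1, -1],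
   [1, -1, 1, -1, 1, -1, 3, -1, -1, 1, 1, -1, -1, -1, -3, -1, -1, 1, -1, 3, 3, 3, 1, -1],
   [1, 3, 1, -1, 1, -1, -1, -1, 3, 1, -3, -1, -1, -1, 1, -1, 3, 1, -1, -1, 3, -1, 1, -1],
   [-1, 1, -1, 1, -1, 1, -3, 1, 1, 3, -1, 1, 1, 1, -1, 1, -3, 3, 1, 1, 1, 1, 3, 1],
   [1, -1, 1, -1, -3, -1, 3, 3, 3, 1, 1, -1, -1, -1, 1, -1, -1, 1, -1, -1, -1, -1, 1, 3]]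

/-- A matrix. -/
def m12 : List (List ℤ) :=
  [[1, 1, -1, 1, -1, -1, 1, 1, 1, 5, -1, 1, -1, -1, 1, 1, 1, -3, 1, -1, 1, -3, -1, 1],
   [1, 1, -1, 1, -1, 3, 1, -3, 1, 1, 3, 1, -1, 3, 1, 1, 1, 1, 1, -1, 1, 1, 3, 1],
   [1, -3, 3, 1, -1, -1, 1, 1, 1, 1, -1, 1, -1, -1, 1, 1, 1, 1, -3, -1, 1, 1, 3, -3],
   [1, 1, 3, -3, -1, -1, 1, 1, 1, 1, -1, -3, -1, 3, -3, 1, 1, 1, 1, -1, 1, 1, -1, 1],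
   [3, -1, 1, -1, -3, 1, -1, -1, -1, -1, 1, -1, 1, -3, -1, -1, 3, -1, 3, 1, -1, -1, 1, -1],
   [-3, 1, -1, 1, -1, -1, 1, -3, 1, 1, -1, 1, -1, -1, -3, -3, 1, 1, 1, -1, 1, 1, -1, -3],
   [-1, 3, 1, -1, 1, 1, 3, 3, -1, -1, 1, 3, 1, 1, -1, -1, 3, -1, -1, 1, -1, -1, 1, -1],
   [1, 1, 3, 1, 3, -1, 1, -3, 1, 1, -1, 1, 3, -1, 1, 1, 1, 1, 1, 3, 1, 1, -1, 1],
   [-1, -1, 1, -1, -3, 1, -1, -1, -1, -1, -3, 3, 1, 1, -1, -1, -1, -1, -1, 1, 3, -1, 1, 3],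
   [1, 1, -1, 1, -1, -1, 1, 1, 1, -3, -1, 1, -1, -1, 1, 1, 1, 5, 1, -1, 1, -3, -1, 1],
   [1, 1, -1, -3, -1, -1, 1, -3, -3, 1, -1, 1, -1, -1, 1, 1, 1, 1, -3, -1, -3, 1, -1, 1],
   [1, 1, -1, -3, -1, 3, 1, 1, 1, 1, -1, 1, 3, -1, 1, 1, -3, 1, 1, -1, 1, 1, -1, -3],
   [-1, -1, 1, 3, -3, 1, 3, -1, -1, -1, 1, -1, 1, 1, -1, 3, -1, -1, -1, 1, -1, -1, -3, -1],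
   [1, -3, -1, 1, -1, -1, 1, 1, 1, 1, -1, 1, 3, 3, 1, -3, 1, 1, 1, -1, -3, 1, -1, 1],
   [-1, -1, 1, -1, 1, 1, -1, -1, -1, 3, 1, -1, 1, 1, -1, -1, -1, 3, -1, 1, -1, -5, 1, -1],
   [1, 1, -1, 1, -1, -1, -3, 1, -3, 1, -1, 1, -1, 3, 1, 1, 1, 1, 1, 3, 1, 1, -1, -3],
   [-3, 1, -1, 1, -1, -1, 1, 1, -3, 1, -1, -3, 3, -1, 1, 1, 1, 1, 1, -1, 1, 1, 3, 1],
   [-1, -1, 1, -1, 1, -3, -1, -1, -1, -1, 1, 3, 1, 1, -1, 3, -1, -1, 3, -3, -1, -1, 1, -1],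
   [1, -3, -1, 1, 3, 3, 1, 1, -3, 1, -1, 1, -1, -1, -3, 1, 1, 1, 1, -1, 1, 1, -1, 1],
   [-1, -1, -3, -1, 1, 1, -1, -1, 3, -1, -3, -1, 1, 1, -1, 3, 3, -1, -1, 1, -1, -1, 1, -1],
   [-3, 1, 3, 1, -1, 3, -3, 1, 1, 1, -1, 1, -1, -1, 1, 1, 1, 1, 1, -1, -3, 1, -1, 1],
   [1, 1, -1, 1, -1, -1, 1, 1, 1, 1, -1, 1, -1, -1, -3, 1, -3, 1, 1, 3, -3, 1, 3, 1],
   [-1, -1, 1, -1, 1, 1, 3, -1, -1, -1, -3, -1, -3, 1, 3, -1, -1, -1, 3, 1, -1, -1, 1, -1],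
   [-3, -3, -1, -3, -1, -1, 1, 1, 1, 1, 3, 1, -1, -1, 1, 1, 1, 1, 1, 3, 1, 1, -1, 1]]

/-- Its transpose. -/
def t12 : List (List ℤ) :=
  [[1, 1, 1, 1, 3, -3, -1, 1, -1, 1, 1, 1, -1, 1, -1, 1, -3, -1, 1, -1, -3, 1, -1, -3],
   [1, 1, -3, 1, -1, 1, 3, 1, -1, 1, 1, 1, -1, -3, -1, 1, 1, -1, -3, -1, 1, 1, -1, -3],
   [-1, -1, 3, 3, 1, -1, 1, 3, 1, -1, -1, -1, 1, -1, 1, -1, -1, 1, -1, -3, 3, -1, 1, -1],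
   [1, 1, 1, -3, -1, 1, -1, 1, -1, 1, -3, -3, 3, 1, -1, 1, 1, -1, 1, -1, 1, 1, -1, -3],
   [-1, -1, -1, -1, -3, -1, 1, 3, -3, -1, -1, -1, -3, -1, 1, -1, -1, 1, 3, 1, -1, -1, 1, -1],
   [-1, 3, -1, -1, 1, -1, 1, -1, 1, -1, -1, 3, 1, -1, 1, -1, -1, -3, 3, 1, 3, -1, 1, -1],
   [1, 1, 1, 1, -1, 1, 3, 1, -1, 1, 1, 1, 3, 1, -1, -3, 1, -1, 1, -1, -3, 1, 3, 1],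
   [1, -3, 1, 1, -1, -3, 3, -3, -1, 1, -3, 1, -1, 1, -1, 1, 1, -1, 1, -1, 1, 1, -1, 1],
   [1, 1, 1, 1, -1, 1, -1, 1, -1, 1, -3, 1, -1, 1, -1, -3, -3, -1, -3, 3, 1, 1, -1, 1],
   [5, 1, 1, 1, -1, 1, -1, 1, -1, -3, 1, 1, -1, 1, 3, 1, 1, -1, 1, -1, 1, 1, -1, 1],
   [-1, 3, -1, -1, 1, -1, 1, -1, -3, -1, -1, -1, 1, -1, 1, -1, -1, 1, -1, -3, -1, -1, -3, 3],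
   [1, 1, 1, -3, -1, 1, 3, 1, 3, 1, 1, 1, -1, 1, -1, 1, -3, 3, 1, -1, 1, 1, -1, 1],
   [-1, -1, -1, -1, 1, -1, 1, 3, 1, -1, -1, 3, 1, 3, 1, -1, 3, 1, -1, 1, -1, -1, -3, -1],
   [-1, 3, -1, 3, -3, -1, 1, -1, 1, -1, -1, -1, 1, 3, 1, 3, -1, 1, -1, 1, -1, -1, 1, -1],
   [1, 1, 1, -3, -1, -3, -1, 1, -1, 1, 1, 1, -1, 1, -1, 1, 1, -1, -3, -1, 1, -3, 3, 1],
   [1, 1, 1, 1, -1, -3, -1, 1, -1, 1, 1, 1, 3, -3, -1, 1, 1, 3, 1, 3, 1, 1, -1, 1],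
   [1, 1, 1, 1, 3, 1, 3, 1, -1, 1, 1, -3, -1, 1, -1, 1, 1, -1, 1, 3, 1, -3, -1, 1],
   [-3, 1, 1, 1, -1, 1, -1, 1, -1, 5, 1, 1, -1, 1, 3, 1, 1, -1, 1, -1, 1, 1, -1, 1],
   [1, 1, -3, 1, 3, 1, -1, 1, -1, 1, -3, 1, -1, 1, -1, 1, 1, 3, 1, -1, 1, 1, 3, 1],
   [-1, -1, -1, -1, 1, -1, 1, 3, 1, -1, -1, -1, 1, -1, 1, 3, -1, -3, -1, 1, -1, 3, 1, 3],
   [1, 1, 1, 1, -1, 1, -1, 1, 3, 1, -3, 1, -1, -3, -1, 1, 1, -1, 1, -1, -3, -3, -1, 1],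
   [-3, 1, 1, 1, -1, 1, -1, 1, -1, -3, 1, 1, -1, 1, -5, 1, 1, -1, 1, -1, 1, 1, -1, 1],
   [-1, 3, 3, -1, 1, -1, 1, -1, 1, -1, -1, -1, -3, -1, 1, -1, 3, 1, -1, 1, -1, 3, 1, -1],
   [1, 1, -3, 1, -1, -3, -1, 1, 3, 1, 1, -3, -1, 1, -1, -3, 1, -1, 1, -1, 1, 1, -1, 1]]

/-- A matrix. -/
def m13 : List (List ℤ) :=
  [[0, 2, 2, -2, 0, 2, 2, 2, 0, 0, 0, -2, 0, 2, 0, -2, 4, 0, 2, 0, -2, 0, -2, 0],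
   [2, 0, 0, 0, -2, -4, 0, 0, 2, -2, 2, 0, 2, 0, 2, 0, 2, -2, 0, -2, 0, 2, 0, -2],
   [2, 0, -4, 0, -2, 0, 0, 0, 2, 2, -2, 0, 2, 0, -2, 0, 2, -2, 0, 2, 0, -2, 0, 2],
   [-2, 0, 0, 0, -2, 0, 0, 0, -2, 2, -2, 0, 2, 0, 2, 0, 2, 2, -4, -2, 0, 2, 0, 2],
   [0, -2, 2, 2, -4, 2, 2, -2, 0, 0, 0, 2, 0, 2, 0, 2, 0, 0, 2, 0, -2, 0, 2, 0],
   [0, -2, -2, 2, 0, -2, 2, 2, 0, 0, 0, -2, -4, 2, 0, -2, 0, 0, -2, 0, -2, 0, 2, 0],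
   [0, 2, -2, 2, 0, 2, 2, 2, 0, 0, 0, 2, 0, -2, 0, -2, 0, 0, 2, -4, 2, 0, 2, 0],
   [2, 0, 0, 0, 2, 0, 0, 0, -2, -2, -2, 0, 2, 4, 2, 0, -2, -2, 0, -2, 0, -2, 0, 2],
   [-2, 0, 0, 0, -2, 0, 0, 4, -2, 2, 2, 0, 2, 0, 2, 0, -2, -2, 0, 2, 0, -2, 0, -2],
   [0, 2, -2, -2, 0, -2, 2, -2, -4, 0, 0, -2, 0, -2, 0, 2, 0, 0, 2, 0, -2, 0, 2, 0],
   [2, 0, 0, 0, 2, 0, 4, 0, 2, 2, -2, 0, 2, 0, 2, 0, -2, 2, 0, 2, 0, 2, 0, -2],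
   [-2, 0, 0, 0, -2, 0, 0, 0, 2, -2, -2, -4, 2, 0, -2, 0, -2, 2, 0, -2, 0, -2, 0, -2],
   [2, 0, 0, 0, -2, 0, 0, 0, -2, -2, -2, 0, -2, 0, 2, 0, 2, 2, 0, 2, 4, -2, 0, -2],
   [-2, 0, 0, 0, 2, 0, 0, 0, 2, 2, -2, 0, -2, 0, 2, 4, 2, -2, 0, -2, 0, -2, 0, -2],
   [-2, 0, 0, 4, 2, 0, 0, 0, -2, -2, -2, 0, 2, 0, -2, 0, 2, -2, 0, 2, 0, 2, 0, -2],
   [0, 2, 2, 2, 0, -2, -2, -2, 0, 4, 0, -2, 0, 2, 0, -2, 0, 0, 2, 0, 2, 0, 2, 0],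
   [0, -2, -2, 2, 0, 2, -2, -2, 0, 0, 0, -2, 0, -2, 4, -2, 0, 0, 2, 0, -2, 0, -2, 0],
   [2, 0, 0, 0, -2, 0, 0, 0, -2, 2, -2, 0, -2, 0, -2, 0, -2, -2, 0, -2, 0, 2, -4, -2],
   [4, 2, 2, 2, 0, 2, -2, 2, 0, 0, 0, -2, 0, -2, 0, 2, 0, 0, -2, 0, -2, 0, 2, 0],
   [0, -2, 2, -2, 0, 2, 2, -2, 0, 0, 0, -2, 0, -2, 0, -2, 0, -4, -2, 0, 2, 0, 2, 0],
   [0, -2, 2, 2, 0, -2, 2, 2, 0, 0, 0, -2, 0, -2, 0, 2, 0, 0, 2, 0, 2, 0, -2, 4],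
   [0, 2, 2, 2, 0, -2, 2, -2, 0, 0, 0, 2, 0, -2, 0, -2, 0, 0, -2, 0, -2, -4, -2, 0],
   [0, 2, -2, 2, 0, 2, 2, -2, 0, 0, 4, -2, 0, 2, 0, 2, 0, 0, -2, 0, 2, 0, -2, 0],
   [2, -4, 0, 0, 2, 0, 0, 0, -2, 2, 2, 0, 2, 0, -2, 0, 2, 2, 0, -2, 0, -2, 0, -2]]

/-- Its transpose. -/
def t13 : List (List ℤ) :=
  [[0, 2, 2, -2, 0, 0, 0, 2, -2, 0, 2, -2, 2, -2, -2, 0, 0, 2, 4, 0, 0, 0, 0, 2],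
   [2, 0, 0, 0, -2, -2, 2, 0, 0, 2, 0, 0, 0, 0, 0, 2, -2, 0, 2, -2, -2, 2, 2, -4],
   [2, 0, -4, 0, 2, -2, -2, 0, 0, -2, 0, 0, 0, 0, 0, 2, -2, 0, 2, 2, 2, 2, -2, 0],
   [-2, 0, 0, 0, 2, 2, 2, 0, 0, -2, 0, 0, 0, 0, 4, 2, 2, 0, 2, -2, 2, 2, 2, 0],
   [0, -2, -2, -2, -4, 0, 0, 2, -2, 0, 2, -2, -2, 2, 2, 0, 0, -2, 0, 0, 0, 0, 0, 2],
   [2, -4, 0, 0, 2, -2, 2, 0, 0, -2, 0, 0, 0, 0, 0, -2, 2, 0, 2, 2, -2, -2, 2, 0],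
   [2, 0, 0, 0, 2, 2, 2, 0, 0, 2, 4, 0, 0, 0, 0, -2, -2, 0, -2, 2, 2, 2, 2, 0],
   [2, 0, 0, 0, -2, 2, 2, 0, 4, -2, 0, 0, 0, 0, 0, -2, -2, 0, 2, -2, 2, -2, -2, 0],
   [0, 2, 2, -2, 0, 0, 0, -2, -2, -4, 2, 2, -2, 2, -2, 0, 0, -2, 0, 0, 0, 0, 0, -2],
   [0, -2, 2, 2, 0, 0, 0, -2, 2, 0, 2, -2, -2, 2, -2, 4, 0, 2, 0, 0, 0, 0, 0, 2],
   [0, 2, -2, -2, 0, 0, 0, -2, 2, 0, -2, -2, -2, -2, -2, 0, 0, -2, 0, 0, 0, 0, 4, 2],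
   [-2, 0, 0, 0, 2, -2, 2, 0, 0, -2, 0, -4, 0, 0, 0, -2, -2, 0, -2, -2, -2, 2, -2, 0],
   [0, 2, 2, 2, 0, -4, 0, 2, 2, 0, 2, 2, -2, -2, 2, 0, 0, -2, 0, 0, 0, 0, 0, 2],
   [2, 0, 0, 0, 2, 2, -2, 4, 0, -2, 0, 0, 0, 0, 0, 2, -2, 0, -2, -2, -2, -2, 2, 0],
   [0, 2, -2, 2, 0, 0, 0, 2, 2, 0, 2, -2, 2, 2, -2, 0, 4, -2, 0, 0, 0, 0, 0, -2],
   [-2, 0, 0, 0, 2, -2, -2, 0, 0, 2, 0, 0, 0, 4, 0, -2, -2, 0, 2, -2, 2, -2, 2, 0],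
   [4, 2, 2, 2, 0, 0, 0, -2, -2, 0, -2, -2, 2, 2, 2, 0, 0, -2, 0, 0, 0, 0, 0, 2],
   [0, -2, -2, 2, 0, 0, 0, -2, -2, 0, 2, 2, 2, -2, -2, 0, 0, -2, 0, -4, 0, 0, 0, 2],
   [2, 0, 0, -4, 2, -2, 2, 0, 0, 2, 0, 0, 0, 0, 0, 2, 2, 0, -2, -2, 2, -2, -2, 0],
   [0, -2, 2, -2, 0, 0, -4, -2, 2, 0, 2, -2, 2, -2, 2, 0, 0, -2, 0, 0, 0, 0, 0, -2],
   [-2, 0, 0, 0, -2, -2, 2, 0, 0, -2, 0, 0, 4, 0, 0, 2, -2, 0, -2, 2, 2, -2, 2, 0],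
   [0, 2, -2, 2, 0, 0, 0, -2, -2, 0, 2, -2, -2, -2, 2, 0, 0, 2, 0, 0, 0, -4, 0, -2],
   [-2, 0, 0, 0, 2, 2, 2, 0, 0, 2, 0, 0, 0, 0, 0, 2, -2, -4, 2, 2, -2, -2, -2, 0],
   [0, -2, 2, 2, 0, 0, 0, 2, -2, 0, -2, -2, -2, -2, -2, 0, 0, -2, 0, 0, 4, 0, 0, -2]]

/-- A matrix. -/
def m14 : List (List ℤ) :=
  [[1, 3, -1, -1, 3, -3, -1, -3, -1, 1, -1, 1, -1, -1, -1, 3, 1, 1, 1, -1, 1, 1, 1, 1],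
   [-1, 1, 1, -3, 1, 3, 1, -1, 1, -1, 1, 3, 1, 1, 1, 1, 3, -1, -1, 1, -1, -1, 3, -1],
   [-1, 1, -3, 1, 1, -1, 1, 3, 1, -1, -3, -1, 1, 1, -3, 1, 3, -1, -1, 1, -1, -1, -1, -1],
   [-1, 1, 1, 1, 1, -1, -3, 3, 1, 3, 1, 3, 1, 1, 1, 1, -1, -1, -1, 1, 3, -1, -1, -1],
   [3, 1, 1, 1, 1, -1, 1, -1, 5, -1, 1, -1, 1, 1, 1, 1, -1, -1, -1, 1, -1, -1, -1, 3],
   [-1, 1, 1, 1, 1, -1, 1, -1, 1, -1, -3, 3, 1, 1, 1, -3, -1, -1, -1, -3, -1, 3, -1, -1],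
   [-1, 1, -3, 1, 1, 3, 1, -1, 1, -1, 1, -1, 1, -3, 1, 1, -1, -1, -1, -3, 3, -1, -1, -1],
   [-1, 1, 1, 1, -3, -1, -3, -1, 1, -1, 1, -1, 1, 1, 1, 1, 3, -1, 3, -3, -1, -1, -1, -1],
   [1, -1, -1, -1, -1, 1, -1, -3, -1, 1, -1, 1, -1, 3, -1, -1, 1, 1, -3, -1, 1, -3, -3, 1],
   [-5, 1, 1, 1, 1, -1, 1, -1, -3, -1, 1, -1, 1, 1, 1, 1, -1, -1, -1, 1, -1, -1, -1, 3],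
   [-1, 1, 1, 1, -3, -1, 1, -1, 1, -1, 1, 3, 1, -3, -3, 1, -1, 3, -1, 1, -1, -1, -1, -1],
   [1, 3, -1, -1, -1, 1, -1, 1, -1, 1, -1, 1, -1, -1, -1, -1, -3, -3, 1, -1, -3, -3, 1, 1],
   [1, -1, -1, -1, -1, -3, 3, 1, -1, 1, -1, 1, 3, -1, 3, -1, 1, 1, 1, -1, 1, -3, 1, 1],
   [-1, 1, 1, 1, -3, -1, 1, -1, 1, -1, -3, -1, -3, 1, 1, 1, -1, -1, -1, 1, 3, -1, 3, -1],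
   [1, -1, -1, -1, -1, 1, -1, 1, -1, -3, -1, 1, 3, 3, -1, 3, -3, 1, 1, -1, 1, 1, 1, 1],
   [-1, -3, 1, -3, 1, -1, -3, -1, 1, -1, -3, -1, 1, -3, 1, 1, -1, -1, -1, 1, -1, -1, -1, -1],
   [1, -1, -1, 3, -1, 1, -1, 1, -1, 1, -1, 1, -1, -1, 3, 3, 1, 1, -3, -1, -3, 1, 1, 1],
   [-1, 1, 1, 1, 1, 3, 1, -1, 1, 3, -3, -1, 1, 1, 1, 1, -1, 3, 3, 1, -1, -1, -1, -1],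
   [-1, -3, 1, 1, 1, -1, 1, -1, 1, 3, 1, -1, 1, 1, -3, 1, -1, -1, -1, -3, -1, -1, 3, -1],
   [1, -1, 3, 3, 3, 1, -1, 1, -1, -3, -1, 1, -1, -1, -1, -1, 1, 1, 1, -1, 1, -3, 1, 1],
   [1, -1, 3, -1, -1, 1, 3, 1, -1, 1, -1, 1, -1, -1, -1, 3, 1, -3, 1, -1, 1, 1, -3, 1],
   [-1, 1, 1, -3, 1, -1, 1, 3, 1, -1, 1, -1, -3, 1, 1, 1, -1, 3, -1, -3, -1, -1, -1, -1],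
   [-1, -3, -3, 1, 1, -1, 1, -1, 1, -1, 1, 3, -3, 1, 1, 1, -1, -1, 3, 1, -1, -1, -1, -1],
   [3, 1, 1, 1, 1, -1, 1, -1, -3, -1, 1, -1, 1, 1, 1, 1, -1, -1, -1, 1, -1, -1, -1, -5]]

/-- Its transpose. -/
def t14 : List (List ℤ) :=
  [[1, -1, -1, -1, 3, -1, -1, -1, 1, -5, -1, 1, 1, -1, 1, -1, 1, -1, -1, 1, 1, -1, -1, 3],
   [3, 1, 1, 1, 1, 1, 1, 1, -1, 1, 1, 3, -1, 1, -1, -3, -1, 1, -3, -1, -1, 1, -3, 1],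
   [-1, 1, -3, 1, 1, 1, -3, 1, -1, 1, 1, -1, -1, 1, -1, 1, -1, 1, 1, 3, 3, 1, -3, 1],
   [-1, -3, 1, 1, 1, 1, 1, 1, -1, 1, 1, -1, -1, 1, -1, -3, 3, 1, 1, 3, -1, -3, 1, 1],
   [3, 1, 1, 1, 1, 1, 1, -3, -1, 1, -3, -1, -1, -3, -1, 1, -1, 1, 1, 3, -1, 1, 1, 1],
   [-3, 3, -1, -1, -1, -1, 3, -1, 1, -1, -1, 1, -3, -1, 1, -1, 1, 3, -1, 1, 1, -1, -1, -1],
   [-1, 1, 1, -3, 1, 1, 1, -3, -1, 1, 1, -1, 3, 1, -1, -3, -1, 1, 1, -1, 3, 1, 1, 1],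
   [-3, -1, 3, 3, -1, -1, -1, -1, -3, -1, -1, 1, 1, -1, 1, -1, 1, -1, -1, 1, 1, 3, -1, -1],
   [-1, 1, 1, 1, 5, 1, 1, 1, -1, -3, 1, -1, -1, 1, -1, 1, -1, 1, 1, -1, -1, 1, 1, -3],
   [1, -1, -1, 3, -1, -1, -1, -1, 1, -1, -1, 1, 1, -1, -3, -1, 1, 3, 3, -3, 1, -1, -1, -1],
   [-1, 1, -3, 1, 1, -3, 1, 1, -1, 1, 1, -1, -1, -3, -1, -3, -1, -3, 1, -1, -1, 1, 1, 1],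
   [1, 3, -1, 3, -1, 3, -1, -1, 1, -1, 3, 1, 1, -1, 1, -1, 1, -1, -1, 1, 1, -1, 3, -1],
   [-1, 1, 1, 1, 1, 1, 1, 1, -1, 1, 1, -1, 3, -3, 3, 1, -1, 1, 1, -1, -1, -3, -3, 1],
   [-1, 1, 1, 1, 1, 1, -3, 1, 3, 1, -3, -1, -1, 1, 3, -3, -1, 1, 1, -1, -1, 1, 1, 1],
   [-1, 1, -3, 1, 1, 1, 1, 1, -1, 1, -3, -1, 3, 1, -1, 1, 3, 1, -3, -1, -1, 1, 1, 1],
   [3, 1, 1, 1, 1, -3, 1, 1, -1, 1, 1, -1, -1, 1, 3, 1, 3, 1, 1, -1, 3, 1, 1, 1],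
   [1, 3, 3, -1, -1, -1, -1, 3, 1, -1, -1, -3, 1, -1, -3, -1, 1, -1, -1, 1, 1, -1, -1, -1],
   [1, -1, -1, -1, -1, -1, -1, -1, 1, -1, 3, -3, 1, -1, 1, -1, 1, 3, -1, 1, -3, 3, -1, -1],
   [1, -1, -1, -1, -1, -1, -1, 3, -3, -1, -1, 1, 1, -1, 1, -1, -3, 3, -1, 1, 1, -1, 3, -1],
   [-1, 1, 1, 1, 1, -3, -3, -3, -1, 1, 1, -1, -1, 1, -1, 1, -1, 1, -3, -1, -1, -3, 1, 1],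
   [1, -1, -1, 3, -1, -1, 3, -1, 1, -1, -1, -3, 1, 3, 1, -1, -3, -1, -1, 1, 1, -1, -1, -1],
   [1, -1, -1, -1, -1, 3, -1, -1, -3, -1, -1, -3, -3, -1, 1, -1, 1, -1, -1, -3, 1, -1, -1, -1],
   [1, 3, -1, -1, -1, -1, -1, -1, -3, -1, -1, 1, 1, 3, 1, -1, 1, -1, 3, 1, -3, -1, -1, -1],
   [1, -1, -1, -1, 3, -1, -1, -1, 1, 3, -1, 1, 1, -1, 1, -1, 1, -1, -1, 1, 1, -1, -1, -5]]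

/-- A matrix. -/
def m15 : List (List ℤ) :=
  [[0, 0, 0, 0, 0, 0, -2, 0, 4, 0, 2, 0, 2, 0, 0, 0, 2, 0, 2, -2, 2, 0, 2, 4],
   [-2, 2, 2, 2, 2, 2, 0, -2, 2, 2, 0, 2, 0, -2, -2, -2, 0, 2, 0, 0, 0, 2, 0, -2],
   [0, 0, -4, 0, 0, 0, -2, 0, 0, 0, 2, 0, -2, 0, 0, 0, -2, 0, 2, 2, 2, 4, -2, 0],
   [-2, -2, 2, 2, 2, -2, 0, 2, 2, 2, 0, -2, 0, 2, 2, 2, 0, -2, 0, 0, 0, 2, 0, -2],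
   [0, 0, 0, 0, 0, 0, -2, 0, 0, 0, 2, -4, 2, 0, 0, 0, 2, 4, -2, 2, -2, 0, -2, 0],
   [2, 2, -2, 2, -2, -2, 0, 2, 2, 2, 0, 2, 0, 2, 2, -2, 0, 2, 0, 0, 0, -2, 0, -2],
   [4, 0, 0, 0, 4, 0, 2, 0, 0, 0, 2, 0, 2, 0, 0, 0, -2, 0, -2, 2, 2, 0, 2, 0],
   [2, 2, 2, 2, -2, 2, 0, -2, -2, 2, 0, -2, 0, 2, 2, -2, 0, -2, 0, 0, 0, 2, 0, 2],
   [2, -2, 2, -2, -2, 2, 0, -2, 2, -2, 0, 2, 0, 2, 2, 2, 0, 2, 0, 0, 0, 2, 0, -2],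
   [0, 4, 0, 0, 0, 0, -2, 0, 0, 0, -2, 0, 2, 0, 0, 4, -2, 0, -2, -2, 2, 0, -2, 0],
   [2, -2, -2, 2, -2, 2, 0, -2, 2, 2, 0, -2, 0, -2, -2, 2, 0, -2, 0, 0, 0, -2, 0, -2],
   [0, 0, 0, 4, 0, 0, 2, 0, 0, -4, 2, 0, -2, 0, 0, 0, 2, 0, -2, -2, 2, 0, -2, 0],
   [0, 0, 0, 0, 0, 4, -2, 4, 0, 0, 2, 0, -2, 0, 0, 0, -2, 0, -2, -2, -2, 0, 2, 0],
   [0, 0, 0, 0, 0, 0, 2, 0, 0, 0, 2, 0, 2, -4, 4, 0, -2, 0, 2, -2, -2, 0, -2, 0],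
   [0, 0, 0, 0, 0, 4, 2, 4, 0, 0, -2, 0, 2, 0, 0, 0, 2, 0, 2, 2, 2, 0, -2, 0],
   [0, 0, 0, 0, 0, 0, -2, 0, -4, 0, 2, 0, 2, 0, 0, 0, 2, 0, 2, -2, 2, 0, 2, -4],
   [2, 2, 2, -2, -2, -2, 0, 2, 2, -2, 0, -2, 0, -2, -2, -2, 0, -2, 0, 0, 0, 2, 0, -2],
   [2, -2, 2, 2, -2, -2, 0, 2, -2, 2, 0, 2, 0, -2, -2, 2, 0, 2, 0, 0, 0, 2, 0, 2],
   [0, 0, 0, -4, 0, 0, 2, 0, 0, 4, 2, 0, -2, 0, 0, 0, 2, 0, -2, -2, 2, 0, -2, 0],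
   [0, 0, 4, 0, 0, 0, -2, 0, 0, 0, 2, 0, -2, 0, 0, 0, -2, 0, 2, 2, 2, -4, -2, 0],
   [-4, 0, 0, 0, -4, 0, 2, 0, 0, 0, 2, 0, 2, 0, 0, 0, -2, 0, -2, 2, 2, 0, 2, 0],
   [0, 0, 0, 0, 0, 0, -2, 0, 0, 0, -2, 0, -2, -4, 4, 0, 2, 0, -2, 2, 2, 0, 2, 0],
   [0, 4, 0, 0, 0, 0, 2, 0, 0, 0, 2, 0, -2, 0, 0, 4, 2, 0, 2, 2, -2, 0, 2, 0],
   [0, 0, 0, 0, 0, 0, 2, 0, 0, 0, -2, -4, -2, 0, 0, 0, -2, 4, 2, -2, 2, 0, 2, 0]]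

/-- Its transpose. -/
def t15 : List (List ℤ) :=
  [[0, -2, 0, -2, 0, 2, 4, 2, 2, 0, 2, 0, 0, 0, 0, 0, 2, 2, 0, 0, -4, 0, 0, 0],
   [0, 2, 0, -2, 0, 2, 0, 2, -2, 4, -2, 0, 0, 0, 0, 0, 2, -2, 0, 0, 0, 0, 4, 0],
   [0, 2, -4, 2, 0, -2, 0, 2, 2, 0, -2, 0, 0, 0, 0, 0, 2, 2, 0, 4, 0, 0, 0, 0],
   [0, 2, 0, 2, 0, 2, 0, 2, -2, 0, 2, 4, 0, 0, 0, 0, -2, 2, -4, 0, 0, 0, 0, 0],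
   [0, 2, 0, 2, 0, -2, 4, -2, -2, 0, -2, 0, 0, 0, 0, 0, -2, -2, 0, 0, -4, 0, 0, 0],
   [0, 2, 0, -2, 0, -2, 0, 2, 2, 0, 2, 0, 4, 0, 4, 0, -2, -2, 0, 0, 0, 0, 0, 0],
   [-2, 0, -2, 0, -2, 0, 2, 0, 0, -2, 0, 2, -2, 2, 2, -2, 0, 0, 2, -2, 2, -2, 2, 2],
   [0, -2, 0, 2, 0, 2, 0, -2, -2, 0, -2, 0, 4, 0, 4, 0, 2, 2, 0, 0, 0, 0, 0, 0],
   [4, 2, 0, 2, 0, 2, 0, -2, 2, 0, 2, 0, 0, 0, 0, -4, 2, -2, 0, 0, 0, 0, 0, 0],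
   [0, 2, 0, 2, 0, 2, 0, 2, -2, 0, 2, -4, 0, 0, 0, 0, -2, 2, 4, 0, 0, 0, 0, 0],
   [2, 0, 2, 0, 2, 0, 2, 0, 0, -2, 0, 2, 2, 2, -2, 2, 0, 0, 2, 2, 2, -2, 2, -2],
   [0, 2, 0, -2, -4, 2, 0, -2, 2, 0, -2, 0, 0, 0, 0, 0, -2, 2, 0, 0, 0, 0, 0, -4],
   [2, 0, -2, 0, 2, 0, 2, 0, 0, 2, 0, -2, -2, 2, 2, 2, 0, 0, -2, -2, 2, -2, -2, -2],
   [0, -2, 0, 2, 0, 2, 0, 2, 2, 0, -2, 0, 0, -4, 0, 0, -2, -2, 0, 0, 0, -4, 0, 0],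
   [0, -2, 0, 2, 0, 2, 0, 2, 2, 0, -2, 0, 0, 4, 0, 0, -2, -2, 0, 0, 0, 4, 0, 0],
   [0, -2, 0, 2, 0, -2, 0, -2, 2, 4, 2, 0, 0, 0, 0, 0, -2, 2, 0, 0, 0, 0, 4, 0],
   [2, 0, -2, 0, 2, 0, -2, 0, 0, -2, 0, 2, -2, -2, 2, 2, 0, 0, 2, -2, -2, 2, 2, -2],
   [0, 2, 0, -2, 4, 2, 0, -2, 2, 0, -2, 0, 0, 0, 0, 0, -2, 2, 0, 0, 0, 0, 0, 4],
   [2, 0, 2, 0, -2, 0, -2, 0, 0, -2, 0, -2, -2, 2, 2, 2, 0, 0, -2, 2, -2, -2, 2, 2],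
   [-2, 0, 2, 0, 2, 0, 2, 0, 0, -2, 0, -2, -2, -2, 2, -2, 0, 0, -2, 2, 2, 2, 2, -2],
   [2, 0, 2, 0, -2, 0, 2, 0, 0, 2, 0, 2, -2, -2, 2, 2, 0, 0, 2, 2, 2, 2, -2, 2],
   [0, 2, 4, 2, 0, -2, 0, 2, 2, 0, -2, 0, 0, 0, 0, 0, 2, 2, 0, -4, 0, 0, 0, 0],
   [2, 0, -2, 0, -2, 0, 2, 0, 0, -2, 0, -2, 2, -2, -2, 2, 0, 0, -2, -2, 2, 2, 2, 2],
   [4, -2, 0, -2, 0, -2, 0, 2, -2, 0, -2, 0, 0, 0, 0, -4, -2, 2, 0, 0, 0, 0, 0, 0]]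

/-- A matrix. -/
def m16 : List (List ℤ) :=
  [[1, 1, 1, 1, -1, -3, 1, 1, -1, -1, 1, -1, -1, -1, -5, 1, 1, -1, -1, -1, -1, -1, 1, -3],
   [-1, 3, -1, -1, 1, -1, -1, -1, -3, 1, 3, -3, 1, 1, 1, -1, -1, 1, 1, 1, -3, 1, -1, -1],
   [-1, -1, 3, -1, 1, -1, -1, -1, 1, -3, 3, 1, 1, 1, 1, -1, -1, 1, 1, -3, 1, -3, -1, -1],
   [-1, -1, -1, -1, 1, -1, -1, -1, -3, 1, -1, 1, 1, 1, 1, 3, 3, -3, 1, -3, 1, 1, -1, -1],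
   [1, 1, 1, -3, -1, 1, -3, 1, -1, -1, -3, -1, -1, -1, -1, 1, -3, -1, 3, -1, -1, -1, 1, 1],
   [-3, 1, 1, 1, -1, 1, 1, 1, -1, -1, -3, -1, -1, 3, -1, -3, 1, -1, -1, -1, -1, -1, -3, 1],
   [-1, -1, -1, 3, 1, -1, -1, 3, -3, -3, -1, 1, 1, -3, 1, -1, -1, 1, 1, 1, 1, 1, -1, -1],
   [1, -3, 1, 1, -1, 1, 1, -3, -1, -1, 1, -1, -1, -1, -1, 1, -3, -1, -1, -1, -1, 3, -3, 1],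
   [-3, -3, -3, -3, -1, 1, 1, 1, -1, -1, 1, -1, -1, -1, -1, 1, 1, 3, -1, -1, -1, -1, 1, 1],
   [1, 1, 1, 1, 3, 1, 1, -3, -1, -1, -3, -1, 3, -1, -1, 1, 1, 3, -1, -1, -1, -1, 1, 1],
   [-1, 3, -1, -1, -3, -1, 3, -1, 1, 1, -1, 1, 1, -3, 1, -1, -1, 1, 1, -3, 1, 1, -1, -1],
   [-1, -1, -1, -1, 1, -1, 3, -1, 1, -3, -1, -3, 1, 1, 1, -1, -1, -3, 1, 1, 1, 1, 3, -1],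
   [-3, 1, 1, 1, -1, 1, -3, 1, 3, -1, 1, -1, 3, -1, -1, 1, 1, -1, -1, -1, -1, 3, 1, 1],
   [1, 1, 1, 1, -1, 1, 1, 1, -1, -1, 1, -1, -1, 3, -1, 1, 1, 3, 3, -1, 3, 3, 1, 1],
   [-1, -1, 3, -1, -3, -1, -1, -1, -3, 1, -1, 1, 1, 1, 1, -1, -1, 1, -3, 1, 1, 1, 3, -1],
   [3, -1, -1, -1, -3, -1, -1, -1, 1, -3, -1, 1, 1, 1, 1, -1, 3, 1, 1, 1, -3, 1, -1, -1],
   [-1, -1, -1, 3, -3, -1, -1, -1, 1, 1, -1, -3, 1, 1, 1, 3, -1, 1, 1, 1, 1, -3, -1, -1],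
   [1, 1, -3, 1, -1, 1, -3, -3, -1, -1, 1, -1, -1, -1, -1, -3, 1, -1, -1, -1, 3, -1, 1, 1],
   [-1, -1, -1, -1, 1, 3, -1, -1, 1, 1, -1, 1, 1, 1, -3, -1, -1, 1, 1, 1, 1, 1, -1, -5],
   [-1, -1, -1, -1, 1, -5, -1, -1, 1, 1, -1, 1, 1, 1, -3, -1, -1, 1, 1, 1, 1, 1, -1, 3],
   [1, -3, 1, 1, -1, 1, 1, 1, -1, 3, 1, -1, 3, -1, -1, -3, 1, -1, 3, -1, -1, -1, 1, 1],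
   [1, 1, -3, 1, -1, 1, 1, 1, -1, -1, 1, 3, 3, 3, -1, 1, -3, -1, -1, -1, -1, -1, 1, 1],
   [3, -1, -1, -1, 1, -1, -1, 3, 1, 1, -1, -3, 1, 1, 1, -1, -1, 1, -3, -3, 1, 1, -1, -1],
   [1, 1, 1, -3, -1, 1, 1, 1, -1, -1, 1, -1, 3, -1, -1, 1, 1, -1, -1, 3, 3, -1, -3, 1]]

/-- Its transpose. -/
def t16 : List (List ℤ) :=
  [[1, -1, -1, -1, 1, -3, -1, 1, -3, 1, -1, -1, -3, 1, -1, 3, -1, 1, -1, -1, 1, 1, 3, 1],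
   [1, 3, -1, -1, 1, 1, -1, -3, -3, 1, 3, -1, 1, 1, -1, -1, -1, 1, -1, -1, -3, 1, -1, 1],
   [1, -1, 3, -1, 1, 1, -1, 1, -3, 1, -1, -1, 1, 1, 3, -1, -1, -3, -1, -1, 1, -3, -1, 1],
   [1, -1, -1, -1, -3, 1, 3, 1, -3, 1, -1, -1, 1, 1, -1, -1, 3, 1, -1, -1, 1, 1, -1, -3],
   [-1, 1, 1, 1, -1, -1, 1, -1, -1, 3, -3, 1, -1, -1, -3, -3, -3, -1, 1, 1, -1, -1, 1, -1],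
   [-3, -1, -1, -1, 1, 1, -1, 1, 1, 1, -1, -1, 1, 1, -1, -1, -1, 1, 3, -5, 1, 1, -1, 1],
   [1, -1, -1, -1, -3, 1, -1, 1, 1, 1, 3, 3, -3, 1, -1, -1, -1, -3, -1, -1, 1, 1, -1, 1],
   [1, -1, -1, -1, 1, 1, 3, -3, 1, -3, -1, -1, 1, 1, -1, -1, -1, -3, -1, -1, 1, 1, 3, 1],
   [-1, -3, 1, -3, -1, -1, -3, -1, -1, -1, 1, 1, 3, -1, -3, 1, 1, -1, 1, 1, -1, -1, 1, -1],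
   [-1, 1, -3, 1, -1, -1, -3, -1, -1, -1, 1, -3, -1, -1, 1, -3, 1, -1, 1, 1, 3, -1, 1, -1],
   [1, 3, 3, -1, -3, -3, -1, 1, 1, -3, -1, -1, 1, 1, -1, -1, -1, 1, -1, -1, 1, 1, -1, 1],
   [-1, -3, 1, 1, -1, -1, 1, -1, -1, -1, 1, -3, -1, -1, 1, 1, -3, -1, 1, 1, -1, 3, -3, -1],
   [-1, 1, 1, 1, -1, -1, 1, -1, -1, 3, 1, 1, 3, -1, 1, 1, 1, -1, 1, 1, 3, 3, 1, 3],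
   [-1, 1, 1, 1, -1, 3, -3, -1, -1, -1, -3, 1, -1, 3, 1, 1, 1, -1, 1, 1, -1, 3, 1, -1],
   [-5, 1, 1, 1, -1, -1, 1, -1, -1, -1, 1, 1, -1, -1, 1, 1, 1, -1, -3, -3, -1, -1, 1, -1],
   [1, -1, -1, 3, 1, -3, -1, 1, 1, 1, -1, -1, 1, 1, -1, -1, 3, -3, -1, -1, -3, 1, -1, 1],
   [1, -1, -1, 3, -3, 1, -1, -3, 1, 1, -1, -1, 1, 1, -1, 3, -1, 1, -1, -1, 1, -3, -1, 1],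
   [-1, 1, 1, -3, -1, -1, 1, -1, 3, 3, 1, -3, -1, 3, 1, 1, 1, -1, 1, 1, -1, -1, 1, -1],
   [-1, 1, 1, 1, 3, -1, 1, -1, -1, -1, 1, 1, -1, 3, -3, 1, 1, -1, 1, 1, 3, -1, -3, -1],
   [-1, 1, -3, -3, -1, -1, 1, -1, -1, -1, -3, 1, -1, -1, 1, 1, 1, -1, 1, 1, -1, -1, -3, 3],
   [-1, -3, 1, 1, -1, -1, 1, -1, -1, -1, 1, 1, -1, 3, 1, -3, 1, 3, 1, 1, -1, -1, 1, 3],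
   [-1, 1, -3, 1, -1, -1, 1, 3, -1, -1, 1, 1, 3, 3, 1, 1, -3, -1, 1, 1, -1, -1, 1, -1],
   [1, -1, -1, -1, 1, -3, -1, -3, 1, 1, -1, 3, 1, 1, 3, -1, -1, 1, -1, -1, 1, 1, -1, -3],
   [-3, -1, -1, -1, 1, 1, -1, 1, 1, 1, -1, -1, 1, 1, -1, -1, -1, 1, -5, 3, 1, 1, -1, 1]]

/-- The elements: generators of the subgroup, then the fusing elements. -/
def els : List (List (List ℤ) × List (List ℤ)) :=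
  [(m0, t0), (m1, t1), (m2, t2), (m3, t3), (m4, t4), (m5, t5), (m6, t6), (m7, t7), (m8, t8), (m9, t9), (m10, t10), (m11, t11), (m12, t12), (m13, t13), (m14, t14), (m15, t15), (m16, t16)]

/-- The certificate. -/
def cert : Schur.Pc.Cert where
  p := 3
  n := 9
  rules := [([0, 0, 0], []), ([1, 0], [0, 1, 2]), ([2, 0], [0, 2]), ([3, 0], [0, 3, 4, 4, 6]), ([4, 0], [0, 4, 6, 6]), ([5, 0], [0, 5, 7]), ([6, 0], [0, 6]), ([7, 0], [0, 7, 8, 8]), ([8, 0], [0, 8]), ([1, 1, 1], []), ([2, 1], [1, 2]), ([3, 1], [1, 3, 4, 4, 6]), ([4, 1], [1, 4, 5, 5]), ([5, 1], [1, 5]), ([6, 1], [1, 6, 7, 7]), ([7, 1], [1, 7]), ([8, 1], [1, 8]), ([2, 2, 2], []), ([3, 2], [2, 3, 5, 5, 6]), ([4, 2], [2, 4, 7, 8]), ([5, 2], [2,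 5]), ([6, 2], [2, 6, 8]), ([7, 2], [2, 7]), ([8, 2], [2, 8]), ([3, 3, 3], []), ([4, 3], [3, 4]), ([5, 3], [3, 5]), ([6, 3], [3, 6]), ([7, 3], [3, 7]), ([8, 3], [3, 8]), ([4, 4, 4], []), ([5, 4], [4, 5]), ([6, 4], [4, 6]), ([7, 4], [4, 7]), ([8, 4], [4, 8]), ([5, 5, 5], []), ([6, 5], [5, 6]), ([7, 5], [5, 7]), ([8, 5], [5, 8]), ([6, 6, 6], []), ([7, 6], [6, 7]), ([8, 6], [6, 8]), ([7, 7, 7], []), ([8, 7], [7, 8]), ([8, 8, 8], [])]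
  fus := [([[1]], [[2]]), ([[1], [7]], [[2], [7]]), ([[3]], [[3, 3]]), ([[0]], [[0, 0]]), ([[3], [7]], [[3], [4, 6]]), ([[1], [1, 1, 2]], [[2], [1]]), ([[0]], [[0, 1]]), ([[1, 1, 2], [8]], [[0, 0, 1], [3, 4, 4, 6, 8]])]
  fusW := 2
  assoc := [([5, 2, 0], (0, 20), (1, 2)), ([6, 2, 0], (0, 21), (1, 2)), ([6, 5, 0], (0, 36), (1, 5)), ([6, 5, 2], (0, 36), (1, 20)), ([7, 4, 2], (0, 33), (1, 19)), ([8, 1, 0], (0, 16), (1, 1)), ([5, 4, 2], (0, 31), (1, 19)), ([6, 3, 0], (0, 27), (1, 3)), ([7, 6, 0], (0, 40), (1, 6)), ([1, 0, 0, 0], (0, 1), (1, 0)), ([5, 1, 0], (0, 13), (1, 1)), ([5, 3, 1], (0, 26), (1, 11)), ([5, 3, 2], (0, 26), (1, 18)), ([5, 5, 5, 0], (0, 35), (2, 5)), ([6, 2, 2, 2], (0, 21), (1, 17)),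 ([7, 3, 1], (0, 28), (1, 11)), ([8, 3, 0], (0, 29), (1, 3)), ([4, 0, 0, 0], (0, 4), (1, 0)), ([4, 1, 1, 1], (0, 12), (1, 9)), ([6, 2, 1], (0, 21), (1, 10)), ([6, 3, 2], (0, 27), (1, 18)), ([5, 3, 0], (0, 26), (1, 3)), ([3, 0, 0, 0], (0, 3), (1, 0)), ([6, 1, 0], (0, 14), (1, 1)), ([4, 3, 0], (0, 25), (1, 3)), ([4, 3, 1], (0, 25), (1, 11)), ([3, 3, 3, 0], (0, 24), (2, 3)), ([3, 2, 1], (0, 18), (1, 10)), ([3, 2, 0], (0, 18), (1, 2)), ([4, 1, 0], (0, 12), (1, 1)), ([3, 1, 0], (0, 11), (1, 1))]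
  fusEq := [(0, [0, 0, 0], []), (1, [1, 0], [0, 1]), (2, [0, 0, 0], []), (3, [0, 0, 0], []), (4, [1, 0], [0, 1]), (5, [1, 0], [0, 1]), (6, [0, 0, 0], []), (7, [1, 0], [0, 1])]
  eqs := [([20, 5, 2], [2, 5, 22, 20]), ([21, 8, 6, 2], [2, 6, 21]), ([36, 6, 5, 40], [5, 6, 36]), ([36, 21, 20], [20, 21, 38, 36]), ([33, 22, 19, 43], [19, 22, 33]), ([16, 8, 1], [1, 8, 16, 23]), ([31, 20, 19, 38, 37], [19, 20, 31]), ([27, 6, 3], [3, 6, 27, 32, 32]), ([40, 7, 6], [6, 7, 41, 41, 40]), ([1, 2, 1, 2, 2, 1, 0, 17], [0]), ([13, 5, 1], [1, 5, 15, 13, 22, 20]), ([26, 13, 11, 36], [11, 13, 26, 31, 31]), ([26, 20, 18, 36, 35], [18, 20, 26, 35]), ([35], [5, 5, 5, 37, 37, 37, 35, 42]), ([21, 23, 21, 23, 23, 21, 17, 44],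 [17]), ([28, 15, 11], [11, 15, 28, 33, 33, 40]), ([29, 8, 3], [3, 8, 29, 34, 34, 41]), ([4, 6, 6, 4, 39, 6, 4, 0, 39], [0]), ([12, 13, 13, 12, 35, 13, 12, 9, 35], [9]), ([21, 16, 14, 10], [10, 14, 22, 22, 21, 43, 43]), ([27, 21, 18], [18, 21, 29, 27, 38, 36, 38, 36, 41]), ([26, 5, 3, 36], [3, 5, 28, 26, 33, 31, 33, 31, 40]), ([3, 6, 4, 4, 3, 32, 30, 39, 39, 4, 3, 0, 32, 30, 39], [0]), ([14, 7, 7, 6, 1, 43, 43, 44], [1, 6, 14, 22, 22, 21, 43, 43]), ([25, 4, 3, 32, 30, 39], [3, 4, 27, 27, 25, 32, 32, 32, 32, 30, 39]), ([25, 12, 11, 32, 30, 36, 36], [11, 12, 26, 26, 25, 31, 31, 31, 31, 30]), ([24], [3, 3, 3, 27, 25, 25, 32, 30, 32, 27, 27, 25, 24, 32, 32, 32, 32, 30, 39]), ([18, 14, 13, 13, 11, 10,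 36, 36], [10, 11, 21, 19, 19, 18, 32, 31, 31, 34, 33, 32, 31, 31, 43, 41, 41, 40, 40, 44]), ([18, 6, 5, 5, 3, 2, 36, 37, 36, 40, 40], [2, 3, 21, 19, 19, 18, 32, 31, 31, 34, 33, 32, 31, 31, 43, 41, 41, 40, 40, 44]), ([12, 5, 5, 4, 1, 36, 36, 37, 36, 36], [1, 4, 14, 14, 12, 40, 40, 42, 22, 21, 21, 20, 20, 19, 38, 37, 38, 37, 41, 40, 41, 41, 40, 44]), ([11, 6, 4, 4, 3, 1, 32, 30, 39, 39], [1, 3, 14, 12, 12, 11, 32, 30, 36, 36, 32, 31, 31, 36, 35, 36, 22, 22, 21, 21, 20, 19, 18, 32, 31, 31, 38, 37, 36, 35, 41, 40, 41, 41, 40, 39, 44, 42]), ([17, 45, 45, 45], [9]), ([22, 48, 47], [47, 48, 15]), ([24, 24, 49, 49, 49], [24]), ([0, 0, 51, 51, 51], [0]), ([27, 25, 54, 53], [53, 54, 28]), ([56, 55, 9], [10,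 55, 56, 10, 9]), ([1, 10, 2, 1, 1, 0, 10, 17, 9, 57, 57, 57], [0]), ([8, 6, 4, 4, 3, 32, 30, 39, 39, 8, 4, 3, 32, 30, 39, 16, 11, 60, 59], [59, 60, 16, 16, 23])]
  e := 0
  adj := [[], [], [1], [], [11, 11, 12, 12, 18], [12, 12], [12, 12, 18], [19, 21, 21], [21]]
  combo := [[(34, 1)], [], [(9, 1), (31, 1), (36, 1), (37, 1)], [(0, 2), (1, 2), (4, 1), (5, 1), (19, 2), (22, 1), (38, 2)], [(2, 1), (4, 1), (13, 2), (14, 2), (15, 1), (16, 1), (17, 2), (18, 2), (28, 1), (29, 2), (30, 2)], [(2, 2), (3, 1), (4, 2), (6, 1), (7, 2), (11, 2), (14, 2), (15, 2), (16, 2), (17, 2), (22, 1), (26, 1), (28, 2)], [(7, 1), (17, 2), (22, 1), (26, 1)], [(0, 2), (14, 1), (23, 2)], [(1, 1)], [(9, 1), (31, 2)], [(36, 1)],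 [], [], [(4, 1), (6, 2), (10, 1), (11, 1), (12, 2), (13, 2), (14, 2), (15, 1), (16, 1), (17, 2), (22, 1), (26, 1), (27, 2), (28, 2), (29, 1), (32, 2)], [(4, 2), (6, 2), (7, 2), (10, 1), (11, 2), (12, 2), (13, 2), (15, 2), (16, 2), (17, 2), (22, 1), (26, 1), (28, 2), (29, 1), (32, 2)], [(0, 2), (32, 2)], [(0, 1), (4, 2), (19, 1)], [(9, 1)], [], [], [(0, 2), (10, 2), (32, 1)], [], [(0, 2)], [(5, 2)], [(33, 1)], [(11, 1), (15, 1), (21, 2), (24, 2), (35, 1)], [(7, 2), (11, 1), (25, 1)], [(24, 1)], [(11, 1), (15, 1), (21, 2)], [(3, 2), (8, 2), (12, 1), (20, 2)], [(17, 2), (26, 1)], [(11, 1), (12, 2)], [(7, 1)], [(2, 1), (15, 1)], [(8, 1), (16, 1)], [(18, 2)], [(12, 1)], [(3, 1), (6, 1)], [(3, 2)], [(17,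 2)], [(2, 1)], [(8, 1)], [(13, 2)], [(4, 1)], [(14, 1)]]
  fuel := 52

end CfsgLib.CoOneMult.ThreeData
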