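import Cfsg.Agent.CoOneMult.Odd
import Cfsg.Agent.CoOneMult.ThreeData

/-!
The 3-part of the multiplier of the lattice group vanishes.
-/

set_option autoImplicit false
set_option maxRecDepth 100000
set_option Elab.async false

namespace CfsgLib.CoOneMult.ThreeData

open Cfsg CfsgLib.Leech

theorem ok0 : matOK (m0, t0) = true := by decide +kernel

theorem ok1 : matOK (m1, t1) = true := by decide +kernel

theorem ok2 : matOK (m2, t2) = true := by decide +kernel

theorem ok3 : matOK (m3, t3) = true := by decide +kernel

theorem ok4 : matOK (m4, t4) = true := by decide +kernel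

theorem ok5 : matOK (m5, t5) = true := by decide +kernel

theorem ok6 : matOK (m6, t6) = true := by decide +kernel

theorem ok7 : matOK (m7, t7) = true := by decide +kernel

theorem ok8 : matOK (m8, t8) = true := by decide +kernel

theorem ok9 : matOK (m9, t9) = true := by decide +kernel

theorem ok10 : matOK (m10, t10) = true := by decide +kernel

theorem ok11 : matOK (m11, t11) = true := by decide +kernel

theorem ok12 : matOK (m12, t12) = true := by decide +kernel

theorem ok13 : matOK (m13, t13) = true := by decide +kernel

theorem ok14 : matOK (m14, t14) = true := by decide +kernel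

theorem ok15 : matOK (m15, t15) = true := by decide +kernel

theorem ok16 : matOK (m16, t16) = true := by decide +kernel

theorem els_ok : els.all matOK = true := by
  simp only [els, List.all_cons, List.all_nil, ok0, ok1, ok2, ok3, ok4, ok5, ok6, ok7, ok8, ok9, ok10, ok11, ok12, ok13, ok14, ok15, ok16, Bool.and_self]

theorem rels_ok : relsOK els cert = true := by decide +kernel

theorem shape_ok : Schur.Pc.shaped cert.p cert.n cert.rules = true := by decide +kernel

theorem eqs_ok : (cert.equations == cert.eqs) = true := by decide +kernel

theorem rule0_ok : ∀ r < 9, cert.ruleCheck (0 + r) (cert.rules.getD (0 + r) ([], [])) = true := by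
  decide +kernel

theorem rule1_ok : ∀ r < 9, cert.ruleCheck (9 + r) (cert.rules.getD (9 + r) ([], [])) = true := by
  decide +kernel

theorem rule2_ok : ∀ r < 9, cert.ruleCheck (18 + r) (cert.rules.getD (18 + r) ([], [])) = true := by
  decide +kernel

theorem rule3_ok : ∀ r < 9, cert.ruleCheck (27 + r) (cert.rules.getD (27 + r) ([], [])) = true := by
  decide +kernel

theorem rule4_ok : ∀ r < 9, cert.ruleCheck (36 + r) (cert.rules.getD (36 + r) ([], [])) = true := by
  decide +kernel

theorem cert_ok : cert.check = true := by
  simp only [Schur.Pc.Cert.check, shape_ok, eqs_ok, Bool.true_and, List.all_eq_true, List.mem_range]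
  intro r hr
  have hlen : cert.rules.length = 45 := rfl
  rw [hlen] at hr
  by_cases h0 : r < 9
  · have := rule0_ok (r - 0) (by omega)
    rwa [show 0 + (r - 0) = r by omega] at this
  by_cases h1 : r < 18
  · have := rule1_ok (r - 9) (by omega)
    rwa [show 9 + (r - 9) = r by omega] at this
  by_cases h2 : r < 27
  · have := rule2_ok (r - 18) (by omega)
    rwa [show 18 + (r - 18) = r by omega] at this
  by_cases h3 : r < 36
  · have := rule3_ok (r - 27) (by omega)
    rwa [show 27 + (r - 27) = r by omega] at this
  have := rule4_ok (r - 36) (by omega)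
  rwa [show 36 + (r - 36) = r by omega] at this

theorem block_ok : blockOK els cert.p 3 6 cert.n = true := by decide +kernel

theorem split_ok : splitOK els cert 3 4 = true := by
  simp only [splitOK, Bool.and_eq_true]
  refine ⟨⟨⟨⟨?_, ?_⟩, ?_⟩, ?_⟩, ?_⟩ <;> decide +kernel

theorem card_ok : cert.p ^ cert.n ≤ Nat.card (Schur.Pc.tailSubgroup (elsOf els) cert.n 0) :=
  card_ge_split els_ok cert 3 6 4 (by decide) (by decide) (by decide) (by decide +kernel)
    block_ok split_ok

/-- No stem extension has a kernel of exponent 3. -/
theorem ker_eq_bot {Γ : Type} [Group Γ] [Finite Γ] (σ : Γ →* Co0) (hσ : Cfsg.IsStemExtension σ)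
    (hexp : ∀ z ∈ σ.ker, z ^ 3 = 1) : σ.ker = ⊥ :=
  ker_eq_bot_of_cert els_ok cert rels_ok cert_ok (by decide) card_ok
    (q := 8315553613086720000 / 3 ^ cert.n) (by rw [card_Co0]; decide +kernel) (by decide +kernel)
    σ hσ hexp

end CfsgLib.CoOneMult.ThreeData
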