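import Cfsg.Agent.CoOneMult.MonoTwo
import Cfsg.Agent.CoOneMult.Three
import Cfsg.Agent.CoOneMult.Five
import Cfsg.Agent.CoOneMult.Seven
import Cfsg.Agent.Schur.MathieuMult

/-!
The automorphism group of the lattice is perfect with trivial multiplier, so its quotient by the centre
has multiplier of order two.
-/

set_option autoImplicit false
set_option linter.style.haveILetI false

namespace CfsgLib.CoOneMult

open Cfsg CfsgLib.Leech CfsgLib.Schur

theorem isPerfect_Co0 : Group.IsPerfect Co0 := by
  haveI : Finite Co0 := co0_finite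
  rw [Group.isPerfect_def]
  have hbig : commutator Co0 ⊔ Subgroup.center Co0 = ⊤ := by
    refine (normal_cases le_sup_right).resolve_left fun h => ?_
    have hle : commutator Co0 ≤ Subgroup.center Co0 := h ▸ le_sup_left
    haveI := isSimpleGroup_Co1
    letI : CommGroup (Co0 ⧸ Subgroup.center Co0) :=
      { (inferInstance : Group (Co0 ⧸ Subgroup.center Co0)) with
        mul_comm := fun a b => by
          induction a using QuotientGroup.induction_on with | _ a =>
          induction b using QuotientGroup.induction_on with | _ b =>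
          rw [← QuotientGroup.mk_mul, ← QuotientGroup.mk_mul, QuotientGroup.eq]
          have := hle (Subgroup.commutator_mem_commutator (Subgroup.mem_top b⁻¹) (Subgroup.mem_top a⁻¹))
          simpa [commutatorElement_def, mul_assoc] using this }
    have hp := IsSimpleGroup.prime_card (α := Co0 ⧸ Subgroup.center Co0)
    rw [card_Co1] at hp
    exact (by norm_num : ¬ Nat.Prime 4157776806543360000) hp
  by_contra hne
  have hcz : Subgroup.center Co0 = Subgroup.zpowers negCo0 := by
    refine SetLike.ext fun g => ⟨fun hg => ?_, fun hg => ?_⟩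
    · rcases center_cases hg with rfl | rfl
      · exact one_mem _
      · exact Subgroup.mem_zpowers _
    · exact Subgroup.zpowers_le.2 negCo0_mem_center hg
  have hneg : negCo0 ∉ commutator Co0 := fun h => hne (by
    rw [← hbig, eq_comm, sup_eq_left, hcz, Subgroup.zpowers_le]
    exact h)
  refine no_complement (commutator Co0) ?_
  rw [← hcz]
  refine Subgroup.isComplement'_of_disjoint_and_mul_eq_univ ?_ ?_
  · rw [Subgroup.disjoint_def]
    intro g hg hg'
    rcases center_cases hg with rfl | rfl
    · rfl
    · exact absurd hg' hneg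
  · rw [← Subgroup.normal_mul, sup_comm, hbig, Subgroup.coe_top]

/-- No stem extension of the lattice group has a nontrivial kernel. -/
theorem ker_eq_bot_Co0 {Γ : Type} [Group Γ] [Finite Γ] (σ : Γ →* Co0)
    (hσ : Cfsg.IsStemExtension σ) : σ.ker = ⊥ := by
  haveI : Finite Co0 := co0_finite
  by_contra hne
  obtain ⟨p, hp, hd⟩ := Nat.exists_prime_and_dvd
    (fun h : Nat.card σ.ker = 1 => hne (Subgroup.eq_bot_of_card_eq _ h))
  haveI : Fact p.Prime := ⟨hp⟩
  refine not_dvd_card_ker_of_exponent_p (p := p) (fun Δ _ _ ρ hρ hexp => ?_) σ hσ hd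
  have hpG := prime_dvd_card_of_dvd_card_ker σ hσ hd
  rw [card_Co0] at hpG
  have hcyc : ∀ q m : ℕ, q.Prime → 8315553613086720000 = q * m → ¬ q ∣ m →
      (∀ z ∈ ρ.ker, z ^ q = 1) → ρ.ker = ⊥ := by
    intro q m hq hqm hqm' hexp'
    haveI : Fact q.Prime := ⟨hq⟩
    obtain ⟨g, hg⟩ := exists_prime_orderOf_dvd_card' (G := Co0) q (by rw [card_Co0, hqm]; exact ⟨m, rfl⟩)
    refine ker_eq_bot_of_index_zpowers hq g ?_ ρ hρ hexp'
    have h := Subgroup.index_mul_card (Subgroup.zpowers g)
    rw [Nat.card_zpowers, hg, card_Co0, hqm, Nat.mul_comm] at h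
    rwa [Nat.eq_of_mul_eq_mul_left hq.pos h]
  have hfac : p ∈ List.replicate 22 2 ++ List.replicate 9 3 ++ List.replicate 4 5 ++ [7, 7, 11, 13, 23] := by
    refine Pc.mem_of_prime_dvd_prod hp
      (L := List.replicate 22 2 ++ List.replicate 9 3 ++ List.replicate 4 5 ++ [7, 7, 11, 13, 23])
      (by
        intro q hq
        simp only [List.mem_append, List.mem_replicate, List.mem_cons, List.not_mem_nil, or_false] at hq
        have hq' : q = 2 ∨ q = 3 ∨ q = 5 ∨ q = 7 ∨ q = 11 ∨ q = 13 ∨ q = 23 := by omega
        rcases hq' with rfl | rfl | rfl | rfl | rfl | rfl | rfl <;> norm_num) ?_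
    have e : (List.replicate 22 2 ++ List.replicate 9 3 ++ List.replicate 4 5 ++
        [7, 7, 11, 13, 23] : List ℕ).prod = 8315553613086720000 := by decide +kernel
    rw [e]
    exact hpG
  have hmem : p ∈ [2, 3, 5, 7, 11, 13, 23] := by
    simp only [List.mem_append, List.mem_replicate, List.mem_cons, List.not_mem_nil, or_false] at hfac ⊢
    omega
  simp only [List.mem_cons, List.not_mem_nil, or_false] at hmem
  rcases hmem with rfl | rfl | rfl | rfl | rfl | rfl | rfl
  · by_contra hne2
    obtain ⟨M, _, hM, hc⟩ := exists_lift_ker_card_prime ρ hρ hexp hne2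
    exact card_ker_ne_two _ (isStemExtension_lift ρ hρ M hM) hc
  · exact ThreeData.ker_eq_bot ρ hρ hexp
  · exact FiveData.ker_eq_bot ρ hρ hexp
  · exact SevenData.ker_eq_bot ρ hρ hexp
  · exact hcyc 11 (8315553613086720000 / 11) hp (by norm_num) (by norm_num) hexp
  · exact hcyc 13 (8315553613086720000 / 13) hp (by norm_num) (by norm_num) hexp
  · exact hcyc 23 (8315553613086720000 / 23) hp (by norm_num) (by norm_num) hexp

end CfsgLib.CoOneMult
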