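import Cfsg.Agent.CoOneMult.Linear
import Cfsg.Agent.CoOneMult.MonoData
import Cfsg.Agent.Leech.CrossMax
import Cfsg.Agent.Leech.Co1
import Cfsg.Agent.Mathieu.SmallSimple
import Cfsg.Agent.Schur.CoverBound
import Cfsg.Agent.S2038

/-!
No stem extension of the automorphism group of the lattice has a kernel of order two: over the monomial
group the preimage of the sign changes has an invariant complement to the kernel, and the permutation
group has trivial multiplier.
-/

set_option autoImplicit false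
set_option linter.style.haveILetI false

namespace CfsgLib.CoOneMult

open Cfsg CfsgLib.Mathieu CfsgLib.Leech
open CfsgLib.Schur.Pc (ev)
open scoped symmDiff commutatorElement

/-- A row of the systematic basis of the code. -/
def row (i : ℕ) : ℕ := codeRows.getD i 0

/-- The code word of a word in the rows. -/
def rowsM (u : List ℕ) : ℕ := Linear.xorF row u

theorem isCode_rowsM : ∀ u, isCode (rowsM u) = true
  | [] => isCode_zero
  | a :: u => by
    refine isCode_xor ?_ (isCode_rowsM u)
    rw [row]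
    by_cases h : a < 12
    · exact (by decide +kernel : ∀ a < 12, isCode (codeRows.getD a 0) = true) a h
    · rw [List.getD_eq_default _ _ (by simpa [codeRows] using Nat.le_of_not_lt h)]
      exact isCode_zero

/-- The sign change of a word in the rows. -/
def eC (u : List ℕ) : Co0 :=
  monoCo0 1 (one_mem _) (setOf24 (rowsM u)) (setOf24_mem_supports (isCode_rowsM u))

/-- The sign change of one row. -/
def eRow (i : ℕ) : Co0 := eC [i]

theorem eC_mul (u v : List ℕ) : eC u * eC v = eC (u ++ v) := by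
  rw [eC, eC, monoCo0_mul]
  refine monoCo0_congr (one_mul _) ?_
  have : (setOf24 (rowsM v)).image ⇑(1 : Equiv.Perm GolayPt)⁻¹ = setOf24 (rowsM v) := by simp
  rw [this, ← setOf24_xor]
  congr 1
  induction u with
  | nil => exact Nat.zero_xor _
  | cons a u ih =>
    show Nat.xor (row a) (rowsM u) ^^^ rowsM v = Nat.xor (row a) (rowsM (u ++ v))
    rw [← ih]
    exact Nat.xor_assoc _ _ _

theorem eC_nil : eC [] = 1 := co0_ext fun v => Subtype.ext (by
  rw [eC, monoCo0_smul, one_smul]
  funext p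
  simp [monoFun, rowsM, Linear.xorF, setOf24_zero])

theorem ev_eRow : ∀ u, ev eRow u = eC u
  | [] => by rw [Schur.Pc.ev_nil, eC_nil]
  | a :: u => by rw [Schur.Pc.ev_cons, ev_eRow u, eRow, eC_mul]; rfl

theorem eC_congr {u v : List ℕ} (h : rowsM u = rowsM v) : eC u = eC v :=
  monoCo0_congr rfl (by rw [h])

theorem eRow_comm (a b : ℕ) : eRow a * eRow b = eRow b * eRow a := by
  rw [eRow, eRow, eC_mul, eC_mul]
  refine eC_congr ?_
  show Nat.xor (row a) (Nat.xor (row b) 0) = Nat.xor (row b) (Nat.xor (row a) 0)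
  show row a ^^^ (row b ^^^ 0) = row b ^^^ (row a ^^^ 0)
  rw [Nat.xor_zero, Nat.xor_zero, Nat.xor_comm]

theorem eRow_sq (a : ℕ) : eRow a * eRow a = 1 := by
  rw [eRow, eC_mul, ← eC_nil]
  refine eC_congr ?_
  show row a ^^^ (row a ^^^ 0) = 0
  rw [Nat.xor_zero, Nat.xor_self]

theorem maskL_eq_zero_of_eRow (u : List ℕ) (hu : ∀ x ∈ u, x < 12) (h : ev eRow u = 1) :
    Linear.maskL u = 0 := by
  rw [ev_eRow, ← eC_nil] at h
  have h2 := @monoOf_injective (⟨1, one_mem _⟩, ⟨_, setOf24_mem_supports (isCode_rowsM u)⟩)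
    (⟨1, one_mem _⟩, ⟨_, setOf24_mem_supports (isCode_rowsM [])⟩) h
  have h3 : rowsM u = 0 := setOf24_injOn_code (isCode_rowsM u) (isCode_rowsM [])
    (congrArg (fun x => x.2.1) h2)
  refine Nat.eq_of_testBit_eq fun x => ?_
  have hrow : ∀ a < 12, ∀ x < 12, (row a).testBit x = decide (a = x) := by decide +kernel
  have hbit : ∀ a x : ℕ, (Schur.Two.bit a).testBit x = decide (a = x) := fun a x => by
    rw [Schur.Two.bit, show Nat.shiftLeft 1 a = 1 <<< a from rfl, Nat.one_shiftLeft,
      Nat.testBit_two_pow]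
  rw [Nat.zero_testBit]
  by_cases hx : x < 12
  · have key : (rowsM u).testBit x = (Linear.maskL u).testBit x := by
      clear h h2 h3
      induction u with
      | nil => simp [rowsM, Linear.xorF, Linear.maskL]
      | cons a u ih =>
        show (row a ^^^ rowsM u).testBit x = (Schur.Two.bit a ^^^ Linear.maskL u).testBit x
        rw [Nat.testBit_xor, Nat.testBit_xor, ih fun y hy => hu y (List.mem_cons_of_mem _ hy),
          hbit, hrow a (hu a List.mem_cons_self) x hx]
    rw [← key, h3, Nat.zero_testBit]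
  · clear h h2 h3
    induction u with
    | nil => simp [Linear.maskL]
    | cons a u ih =>
      show (Schur.Two.bit a ^^^ Linear.maskL u).testBit x = false
      have := hu a List.mem_cons_self
      rw [Nat.testBit_xor, ih fun y hy => hu y (List.mem_cons_of_mem _ hy), hbit,
        decide_eq_false (by omega), Bool.xor_false]

/-- The three generators of the permutation group. -/
noncomputable def tau (j : ℕ) : M24 :=
  if j = 0 then ⟨shiftOne, shiftOne_mem_M24⟩
  else if j = 1 then ⟨projInv, projInv_mem_M24⟩ else ⟨cubeTwist, cubeTwist_mem_M24⟩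

/-- The generators as monomial elements. -/
noncomputable def sPerm (j : ℕ) : Co0 := permHom (tau j)

theorem rep_tau (j : ℕ) (hj : j < 3) : Rep enc (tau j).1 (MonoData.tabs.getD j 0) := by
  interval_cases j
  · exact rep_of_tableOK shiftOne (fun _ => rfl) (by decide +kernel)
  · exact rep_of_tableOK projInvFun (fun _ => rfl) (by decide +kernel)
  · exact rep_of_tableOK (σ := cubeTwist) cubeTwistFun
      (fun p => Equiv.ofBijective_apply (f := cubeTwistFun) _ p) (by decide +kernel)

theorem push_row : ∀ j < 3, ∀ i < 12,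
    push (MonoData.tabs.getD j 0) 24 (row i) = rowsM (MonoData.dat.im j i) := by
  decide +kernel

theorem sPerm_conj : ∀ j < MonoData.dat.k, ∀ i < 12,
    sPerm j * eRow i * (sPerm j)⁻¹ = ev eRow (MonoData.dat.im j i) := by
  intro j hj i hi
  rw [ev_eRow, mul_inv_eq_iff_eq_mul, sPerm, eRow, eC, eC]
  simp only [permHom, MonoidHom.coe_mk, OneHom.coe_mk]
  rw [monoCo0_mul, monoCo0_mul]
  refine monoCo0_congr (by simp) ?_
  have e1 : (setOf24 (rowsM [i])).image ⇑((tau j).1⁻¹)⁻¹ =
      setOf24 (rowsM (MonoData.dat.im j i)) := by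
    rw [inv_inv, image_setOf24 (rep_tau j hj), ← push_row j hj i hi]
    congr 2
    exact Nat.xor_zero _
  rw [e1]
  simp [symmDiff_empty', empty_symmDiff']

theorem rels_trivial : ∀ r ∈ MonoData.dat.rels,
    (r.all fun j => Nat.blt j 3) = true ∧
      ∀ i < 24, r.foldr (fun j x => app (MonoData.tabs.getD j 0) x) i = i := by
  decide +kernel

theorem sPerm_rel : ∀ r ∈ MonoData.dat.rels, ev sPerm r = 1 := by
  intro r hr
  obtain ⟨hlt, hfix⟩ := rels_trivial r hr
  have key : ∀ w : List ℕ, (∀ j ∈ w, j < 3) → ∀ p,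
      idx ((ev tau w).1 p) = w.foldr (fun j x => app (MonoData.tabs.getD j 0) x) (idx p) := by
    intro w hw p
    induction w with
    | nil => simp
    | cons j w ih =>
      rw [List.foldr_cons, ← ih fun x hx => hw x (List.mem_cons_of_mem _ hx), Schur.Pc.ev_cons]
      exact (rep_tau j (hw j List.mem_cons_self) _).symm
  have h1 : ev tau r = 1 := Subtype.ext (Equiv.ext fun p => idx_injective (by
    rw [key r (fun j hj => Nat.le_of_ble_eq_true (List.all_eq_true.1 hlt j hj)) p,
      hfix _ (idx_lt p)]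
    rfl))
  have h2 := congrArg permHom h1
  rw [Schur.Pc.map_ev, map_one] at h2
  exact h2

theorem permHom_mem_closure (τ : M24) :
    permHom τ ∈ Subgroup.closure (sPerm '' Set.Iio 3) := by
  let P : Subgroup (Equiv.Perm GolayPt) :=
    ((Subgroup.closure (sPerm '' Set.Iio 3)).comap permHom).map M24.subtype
  have h : m24Gen ≤ P := by
    rw [m24Gen, Subgroup.closure_le]
    rintro g (rfl | rfl | rfl)
    · exact ⟨tau 0, Subgroup.subset_closure ⟨0, by simp, rfl⟩, by simp [tau]⟩
    · exact ⟨tau 1, Subgroup.subset_closure ⟨1, by simp, rfl⟩, by simp [tau]⟩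
    · exact ⟨tau 2, Subgroup.subset_closure ⟨2, by simp, rfl⟩, by simp [tau]⟩
  obtain ⟨x, hx, e⟩ := h (m24Gen_eq.symm ▸ τ.2 : τ.1 ∈ m24Gen)
  rwa [show τ = x from Subtype.ext e.symm]

theorem isPerfect_M24 : Group.IsPerfect M24 := by
  rw [Group.isPerfect_def]
  haveI := simple_M24
  refine ((commutator M24).normal_of_characteristic.eq_bot_or_eq_top).resolve_left fun h => ?_
  have e : ⁅tau 0, tau 1⁆ = 1 := by
    have h2 : ⁅tau 0, tau 1⁆ ∈ commutator M24 := by
      rw [commutator_def]
      exact Subgroup.commutator_mem_commutator (Subgroup.mem_top _) (Subgroup.mem_top _)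
    rwa [h, Subgroup.mem_bot] at h2
  have e2 := congrArg (fun g : M24 => g.1) (commutatorElement_eq_one_iff_mul_comm.1 e)
  have e3 := congrArg (fun g : Equiv.Perm GolayPt => g none) e2
  revert e3
  simp only [tau, if_pos, Nat.one_ne_zero, if_false]
  decide +kernel

/-- A monomial element is a sign change times a permutation. -/
theorem monoOf_split (x : M24 × supports (golayCode : Set (GolayPt → ZMod 2))) :
    ∃ u : List ℕ, (∀ a ∈ u, a < 12) ∧ monoOf x = ev eRow u * permHom x.1⁻¹ := by
  obtain ⟨⟨τ, hτ⟩, c, hc⟩ := x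
  obtain ⟨M, hM, rfl⟩ : ∃ M, isCode M = true ∧ setOf24 M = c := by
    rw [supports_eq] at hc
    exact hc
  obtain ⟨m, hm, rfl⟩ := exists_codeMask hM
  refine ⟨Linear.bits 12 m, fun a ha => List.mem_range.1 (List.mem_filter.1 ha).1, ?_⟩
  have e : codeMask m = rowsM (Linear.bits 12 m) :=
    Nat.div_add_mod m 64 ▸ (by decide +kernel : ∀ a < 64, ∀ b < 64,
      codeMask (64 * a + b) = rowsM (Linear.bits 12 (64 * a + b))) (m / 64) (by omega) (m % 64) (by omega)
  rw [ev_eRow, eC, monoOf]
  simp only [permHom, MonoidHom.coe_mk, OneHom.coe_mk]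
  rw [monoCo0_mul]
  refine monoCo0_congr (by simp) ?_
  simp [e, symmDiff_empty']

theorem index_monoGroup : ¬ 2 ∣ (monoGroup : Subgroup Co0).index := by
  have hc : Nat.card (monoGroup : Subgroup Co0) = 4096 * 244823040 := by
    rw [← card_crossStab]
    exact Nat.card_congr (Equiv.subtypeEquivRight fun g => mem_monoGroup_iff)
  have h := Subgroup.index_mul_card (monoGroup : Subgroup Co0)
  rw [hc, card_Co0] at h
  omega

/-- No stem extension of the lattice group has kernel of order two. -/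
theorem card_ker_ne_two {Γ : Type} [Group Γ] [Finite Γ] (σ : Γ →* Co0)
    (hσ : Cfsg.IsStemExtension σ) : Nat.card σ.ker ≠ 2 := by
  classical
  intro hK
  obtain ⟨hsurj, hcen, hcomm⟩ := hσ
  haveI : Finite Co0 := co0_finite
  obtain ⟨a, b, hab, hab'⟩ := Nat.card_eq_two_iff.1 hK
  obtain ⟨z0, hz0⟩ : ∃ z0 : σ.ker, z0 ≠ 1 := by
    by_cases ha : a = 1
    · exact ⟨b, fun hb => hab (ha.trans hb.symm)⟩
    · exact ⟨a, ha⟩
  set z : Γ := z0.1 with hzdef
  have hz1 : z ≠ 1 := fun h => hz0 (Subtype.ext h)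
  have hz : σ z = 1 := z0.2
  have hzc : z ∈ Subgroup.center Γ := hcen z0.2
  have hz2 : z ^ 2 = 1 := by
    have := pow_card_eq_one' (x := z0)
    rw [hK] at this
    exact congrArg Subtype.val this
  have hker : ∀ g, σ g = 1 → g = 1 ∨ g = z := by
    intro g hg
    have hmem : ∀ x : σ.ker, x = a ∨ x = b := fun x => by
      have : x ∈ ({a, b} : Set σ.ker) := hab' ▸ Set.mem_univ x
      simpa using this
    have h1 := hmem ⟨g, hg⟩
    have h2 := hmem z0
    have h3 := hmem 1
    rcases h1 with h1 | h1 <;> rcases h2 with h2 | h2 <;> rcases h3 with h3 | h3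
    all_goals first
      | exact Or.inr (congrArg Subtype.val (h1.trans h2.symm))
      | exact Or.inl (congrArg Subtype.val (h1.trans h3.symm))
      | exact absurd (h2.trans h3.symm) hz0
  let S : ℕ → Γ := fun j => (hsurj (sPerm j)).choose
  have hS : ∀ j, σ (S j) = sPerm j := fun j => (hsurj (sPerm j)).choose_spec
  obtain ⟨W, hzW, hWS, hWe, hWσ⟩ := Linear.exists_complement MonoData.dat (by decide +kernel)
    (by decide +kernel) (by decide +kernel) σ hsurj hker hz hzc hz2 hz1 eRow sPerm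
    (fun a b _ _ => eRow_comm a b) (fun a _ => eRow_sq a) sPerm_conj sPerm_rel
    maskL_eq_zero_of_eRow S hS
  set K : Subgroup Γ := (permHom : M24 →* Co0).range.comap σ with hKdef
  set N : Subgroup Γ := Subgroup.normalizer (W : Set Γ) with hN
  have hzN : z ∈ N := Subgroup.mem_normalizer_iff.2 fun w => by
    rw [← Subgroup.mem_center_iff.1 hzc w, mul_inv_cancel_right]
  have hSN : ∀ j < 3, S j ∈ N := by
    intro j hj
    rw [hN, Subgroup.mem_normalizer_iff]
    let φ : W → W := fun w => ⟨S j * w * (S j)⁻¹, hWS j hj w w.2⟩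
    have hinj : Function.Injective φ := fun x y h => by
      have := congrArg Subtype.val h
      exact Subtype.ext (by simpa [φ] using this)
    have hs := Finite.surjective_of_injective hinj
    intro w
    refine ⟨hWS j hj w, fun hw => ?_⟩
    obtain ⟨x, hx⟩ := hs ⟨_, hw⟩
    have hv : S j * (x : Γ) * (S j)⁻¹ = S j * w * (S j)⁻¹ := congrArg Subtype.val hx
    rw [← mul_left_cancel (mul_right_cancel hv)]
    exact x.2
  have hkerN : ∀ g, σ g = 1 → g ∈ N := fun g hg => by
    rcases hker g hg with rfl | rfl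
    · exact one_mem N
    · exact hzN
  have hKN : K ≤ N := by
    intro g hg
    obtain ⟨τ, hτ⟩ := hg
    have hsub : Subgroup.closure (sPerm '' Set.Iio 3) ≤ N.map σ := by
      rw [Subgroup.closure_le]
      rintro _ ⟨j, hj, rfl⟩
      exact ⟨S j, hSN j hj, hS j⟩
    obtain ⟨n, hn, hne⟩ := hsub (permHom_mem_closure τ)
    have := N.mul_mem hn (hkerN (n⁻¹ * g) (by rw [map_mul, map_inv, hne, hτ, inv_mul_cancel]))
    rwa [mul_inv_cancel_left] at this
  set H : Subgroup Γ := (monoGroup : Subgroup Co0).comap σ with hH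
  have hsplit : ∀ g ∈ H, ∃ w ∈ W, ∃ k ∈ K, g = w * k := by
    intro g hg
    have hg' : σ g ∈ Set.range monoOf := by
      rw [range_monoOf]; exact mem_monoGroup_iff.1 hg
    obtain ⟨x, hx⟩ := hg'
    obtain ⟨u, hu, hux⟩ := monoOf_split x
    obtain ⟨w, hw, hwe⟩ : ∃ w ∈ W, σ w = ev eRow u := by
      clear hux
      induction u with
      | nil => exact ⟨1, one_mem W, by simp⟩
      | cons i u ih =>
        obtain ⟨w, hw, hwe⟩ := ih fun y hy => hu y (List.mem_cons_of_mem _ hy)
        obtain ⟨v, hv, hve⟩ := hWe i (hu i List.mem_cons_self)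
        exact ⟨v * w, mul_mem hv hw, by rw [map_mul, hve, hwe, Schur.Pc.ev_cons]⟩
    refine ⟨w, hw, w⁻¹ * g, ⟨x.1⁻¹, ?_⟩, (mul_inv_cancel_left w g).symm⟩
    rw [map_mul, map_inv σ, hwe, ← hx, hux, inv_mul_cancel_left]
  have hcop : (orderOf z).Coprime H.index := by
    rw [hH, Subgroup.index_comap_of_surjective _ hsurj]
    exact Nat.Coprime.coprime_dvd_left (orderOf_dvd_of_pow_eq_one hz2)
      (Nat.prime_two.coprime_iff_not_dvd.mpr index_monoGroup)
  have hzH := Schur.mem_commutator_of_index_coprime H hzc (hcomm z0.2) hcop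
  have hle : ⁅H, H⁆ ≤ W ⊔ ⁅K, K⁆ := by
    let π := QuotientGroup.mk' (W.subgroupOf N)
    rw [Subgroup.commutator_le]
    intro g hg h hh
    obtain ⟨w, hw, k, hk, rfl⟩ := hsplit g hg
    obtain ⟨v, hv, l, hl, rfl⟩ := hsplit h hh
    have hWN : W ≤ N := Subgroup.le_normalizer
    let w' : N := ⟨w, hWN hw⟩
    let v' : N := ⟨v, hWN hv⟩
    let k' : N := ⟨k, hKN hk⟩
    let l' : N := ⟨l, hKN hl⟩
    have hπw : π w' = 1 := (QuotientGroup.eq_one_iff _).2 (Subgroup.mem_subgroupOf.2 hw)
    have hπv : π v' = 1 := (QuotientGroup.eq_one_iff _).2 (Subgroup.mem_subgroupOf.2 hv)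
    have e : π (⁅w' * k', v' * l'⁆ * ⁅k', l'⁆⁻¹) = 1 := by
      simp only [map_mul, map_inv, map_commutatorElement, hπw, hπv, one_mul, mul_inv_cancel]
    have e' : ⁅w * k, v * l⁆ * ⁅k, l⁆⁻¹ ∈ W :=
      Subgroup.mem_subgroupOf.1 ((QuotientGroup.eq_one_iff _).1 e)
    rw [← inv_mul_cancel_right ⁅w * k, v * l⁆ ⁅k, l⁆]
    exact mul_mem (Subgroup.mem_sup_left e')
      (Subgroup.mem_sup_right (Subgroup.commutator_mem_commutator hk hl))
  have hKKN : ⁅K, K⁆ ≤ N := (Subgroup.commutator_le_self K).trans hKN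
  have hzsup : z ∈ ((W ⊔ ⁅K, K⁆ : Subgroup Γ) : Set Γ) := hle hzH
  rw [Subgroup.coe_mul_of_right_le_normalizer_left W ⁅K, K⁆ hKKN] at hzsup
  obtain ⟨w, hw, c, hc, hwc⟩ := hzsup
  have hwc' : w * c = z := hwc
  have hw1 : w = 1 := by
    obtain ⟨u, hu, hwu⟩ := hWσ w hw
    obtain ⟨τ, hτ⟩ : σ c ∈ (permHom : M24 →* Co0).range := Subgroup.commutator_le_self K hc
    have e : ev eRow u = permHom τ⁻¹ := by
      rw [map_inv, hτ, ← hwu, eq_inv_iff_mul_eq_one, ← map_mul, hwc', hz]
    have e2 : τ⁻¹ = 1 := by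
      rw [ev_eRow] at e
      have h2 := @monoOf_injective (⟨1, one_mem _⟩, ⟨_, setOf24_mem_supports (isCode_rowsM u)⟩)
        (⟨(τ⁻¹).1⁻¹, inv_mem (τ⁻¹).2⟩, ⟨∅, empty_mem_supports⟩) e
      exact Subtype.ext (inv_eq_one.1 (congrArg (fun x => x.1.1) h2).symm)
    rw [e2, map_one, ← hwu] at e
    rcases hker w e with h | h
    · exact h
    · exact absurd (h ▸ hw) hzW
  rw [hw1, one_mul] at hwc'
  subst hwc'
  let e := MonoidHom.ofInjective permHom_injective
  let ψ : K →* M24 := e.symm.toMonoidHom.comp (σ.subgroupComap (permHom : M24 →* Co0).range)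
  have hψ : ∀ k : K, permHom (ψ k) = σ k := fun k =>
    congrArg Subtype.val (e.apply_symm_apply ⟨σ k, k.2⟩)
  have hψs : Function.Surjective ψ := fun τ => by
    obtain ⟨g, hg⟩ := hsurj (permHom τ)
    exact ⟨⟨g, ⟨τ, hg.symm⟩⟩, permHom_injective ((hψ _).trans hg)⟩
  have hψc : ψ.ker ≤ Subgroup.center K := by
    intro k hk
    have hk1 : σ k = 1 := by
      rw [← hψ, show ψ k = 1 from hk, map_one]
    exact Subgroup.mem_center_iff.2 fun l => Subtype.ext (Subgroup.mem_center_iff.1 (hcen hk1) l.1)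
  have hstem := Schur.isStemExtension_derived ψ hψs hψc isPerfect_M24
  obtain ⟨π, hπ⟩ := Cfsg.Agent.S2038.result.2 (commutator K) _ hstem
  have hmap : (commutator K).map K.subtype = ⁅K, K⁆ := by
    rw [commutator_def, Subgroup.map_commutator, ← MonoidHom.range_eq_map, Subgroup.range_subtype]
  obtain ⟨k, hk, hkc⟩ := hmap.ge hc
  have hkker : (⟨k, hk⟩ : commutator K) ∈ (ψ.comp (commutator K).subtype).ker := by
    refine permHom_injective ((hψ k).trans ?_)
    rw [show (k : Γ) = z from hkc, hz, map_one]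
  obtain ⟨x, hx⟩ := hπ ⟨_, hkker⟩
  rw [Subsingleton.elim x 1, map_one] at hx
  have e1 : k = 1 := congrArg (fun y => y.1.1) hx.symm
  exact hz1 (by rw [← show (k : Γ) = z from hkc, e1]; rfl)

end CfsgLib.CoOneMult
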