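import Cfsg.Agent.CoOneMult.Mat
import Cfsg.Agent.Leech.Tree
import Mathlib.GroupTheory.Subgroup.Centralizer

/-!
The odd parts of the multiplier from certificates: a subgroup of the lattice group given by matrices,
its presentation, elements giving fusion, and lower bounds for its order from packed rows.
-/

set_option autoImplicit false
set_option linter.style.haveILetI false

namespace CfsgLib.CoOneMult

open Cfsg CfsgLib.Leech
open CfsgLib.Schur.Pc (ev tailSubgroup normalWords mem_normalWords)

/-- A natural number for a list of packed rows. -/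
def keyN (S : List ℤ) : ℕ := S.foldl (fun a x => a * 2 ^ 130 + (x + 2 ^ 129).toNat) 0

/-- Distinct elements for the listed words. -/
noncomputable def keysOK (D : List (Rows × Rows)) (L : List (List ℕ)) : Bool :=
  L.all (inRange D) && distinctB (L.map fun w => keyN (wordSt D w))

/-- The presentation and the fusions hold for the matrices. -/
def relsOK (D : List (Rows × Rows)) (C : Schur.Pc.Cert) : Bool :=
  C.rules.all (fun l => same D l.1 l.2) &&
    (List.range C.fus.length).all fun f => (List.range C.fusW).all fun s =>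
      same D ((C.n + f) :: (C.fus.getD f ([], [])).1.getD s [])
        ((C.fus.getD f ([], [])).2.getD s [] ++ [C.n + f])

theorem wordsNodup {D : List (Rows × Rows)} (hD : D.all matOK = true) {L : List (List ℕ)}
    (h : keysOK D L = true) : (L.map (ev (elsOf D))).Nodup := by
  simp only [keysOK, Bool.and_eq_true, List.all_eq_true] at h
  refine List.Nodup.of_map (fun g => keyN (stOf g)) ?_
  rw [List.map_map]
  have e : L.map ((fun g => keyN (stOf g)) ∘ ev (elsOf D)) = L.map fun w => keyN (wordSt D w) :=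
    List.map_congr_left fun w hw => by rw [Function.comp_apply, wordSt_spec hD (h.1 w hw)]
  rw [e]
  exact nodup_of_distinctB h.2

theorem card_ge_of_keys {D : List (Rows × Rows)} (hD : D.all matOK = true) {L : List (List ℕ)}
    (h : keysOK D L = true) (H : Subgroup Co0) (hmem : ∀ w ∈ L, ev (elsOf D) w ∈ H) :
    L.length ≤ Nat.card H := by
  haveI : Finite Co0 := co0_finite
  let f : Fin L.length → H := fun i => ⟨ev (elsOf D) L[i.val], hmem _ (List.getElem_mem _)⟩
  have hf : Function.Injective f := fun i j e => by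
    have e' : ev (elsOf D) L[i.val] = ev (elsOf D) L[j.val] := congrArg Subtype.val e
    exact Fin.ext (((wordsNodup hD h).getElem_inj_iff (hi := by simp) (hj := by simp)).1
      (by simpa using e'))
  simpa using Nat.card_le_card_of_injective f hf

theorem tail_mem {x : ℕ → Co0} {n d i : ℕ} (h : i + d = n) (p : ℕ) :
    ∀ w ∈ normalWords p d i, ev x w ∈ tailSubgroup x n i := fun w hw =>
  Schur.Pc.ev_mem x fun a ha => by
    have := mem_normalWords p d i w hw a ha
    exact Schur.Pc.gen_mem_tailSubgroup x this.1 (by omega)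

theorem card_ge_flat {D : List (Rows × Rows)} (hD : D.all matOK = true) (p n : ℕ)
    (h : keysOK D (normalWords p n 0) = true) :
    p ^ n ≤ Nat.card (tailSubgroup (elsOf D) n 0) := by
  have := card_ge_of_keys hD h _ (tail_mem (Nat.zero_add n) p)
  rwa [Schur.Pc.length_normalWords] at this

/-- The part of a normal form after the word `w`, for `k` moved past `w`. -/
def pushed (C : Schur.Pc.Cert) (w : List ℕ) (k : ℕ) : List ℕ :=
  (Schur.Pc.collect C.rules C.fuel (k :: w)).1.drop w.length

/-- The words list a subgroup: a further generator leads back into the list. -/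
def closedOK (D : List (Rows × Rows)) (L : List (List ℕ)) (lo hi : ℕ) : Bool :=
  let S := L.map (wordSt D)
  L.all fun w => (List.range (hi - lo)).all fun a =>
    inRange D (w ++ [lo + a]) && S.contains (wordSt D (w ++ [lo + a]))

theorem mem_closed {D : List (Rows × Rows)} (hD : D.all matOK = true) {L : List (List ℕ)}
    {lo hi : ℕ} (hL : L.all (inRange D) = true) (hnil : [] ∈ L) (h : closedOK D L lo hi = true)
    {g : Co0} (hg : g ∈ tailSubgroup (elsOf D) hi lo) : ∃ w ∈ L, ev (elsOf D) w = g := by
  haveI : Finite Co0 := co0_finite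
  simp only [closedOK, List.all_eq_true, List.mem_range, Bool.and_eq_true, List.contains_iff_mem,
    List.mem_map] at h
  have hL' := List.all_eq_true.1 hL
  let U : Submonoid Co0 :=
    { carrier := {g | ∀ w ∈ L, ∃ v ∈ L, ev (elsOf D) w * g = ev (elsOf D) v}
      one_mem' := fun w hw => ⟨w, hw, mul_one _⟩
      mul_mem' := fun {a b} ha hb w hw => by
        obtain ⟨v, hv, e⟩ := ha w hw
        obtain ⟨u, hu, e'⟩ := hb v hv
        exact ⟨u, hu, by rw [← mul_assoc, e, e']⟩ }
  have hle : Submonoid.closure (elsOf D '' Set.Ico lo hi) ≤ U := by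
    rw [Submonoid.closure_le]
    rintro _ ⟨a, ⟨ha1, ha2⟩, rfl⟩ w hw
    obtain ⟨hr, v, hv, e⟩ := h w hw (a - lo) (by omega)
    refine ⟨v, hv, ?_⟩
    rw [show lo + (a - lo) = a by omega] at hr e
    have e2 := stOf_ext (((wordSt_spec hD (hL' v hv)).symm.trans e).trans (wordSt_spec hD hr))
    rw [e2, Schur.Pc.ev_append, Schur.Pc.ev_cons, Schur.Pc.ev_nil, mul_one]
  rw [tailSubgroup, ← Subgroup.mem_toSubmonoid, Subgroup.closure_toSubmonoid_of_finite] at hg
  obtain ⟨v, hv, e⟩ := hle hg [] hnil
  exact ⟨v, hv, by rw [← e, Schur.Pc.ev_nil, one_mul]⟩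

/-- The two blocks of letters give subgroups meeting trivially. -/
noncomputable def blockOK (D : List (Rows × Rows)) (p m k n : ℕ) : Bool :=
  keysOK D (normalWords p (k - m) m ++ (normalWords p (n - k) k).tail) &&
    closedOK D (normalWords p (k - m) m) m k && closedOK D (normalWords p (n - k) k) k n

theorem normalWords_cons (p : ℕ) (hp : 0 < p) :
    ∀ d i, normalWords p d i = [] :: (normalWords p d i).tail
  | 0, _ => rfl
  | d + 1, i => by
    obtain ⟨q, rfl⟩ : ∃ q, p = q + 1 := ⟨p - 1, by omega⟩
    rw [normalWords, List.range_succ_eq_map, List.flatMap_cons, normalWords_cons (q + 1) hp d (i + 1)]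
    rfl

theorem card_ge_block {D : List (Rows × Rows)} (hD : D.all matOK = true) {p m k n : ℕ} (hp : 0 < p)
    (hmk : m ≤ k) (hkn : k ≤ n) (hlen : n ≤ D.length) (h : blockOK D p m k n = true) :
    p ^ (n - m) ≤ Nat.card (tailSubgroup (elsOf D) n m) := by
  haveI : Finite Co0 := co0_finite
  simp only [blockOK, Bool.and_eq_true] at h
  obtain ⟨⟨hkeys, hA⟩, hB⟩ := h
  set x := elsOf D with hx
  set LA := normalWords p (k - m) m with hLA
  set LB := normalWords p (n - k) k with hLB
  have hAr : LA.all (inRange D) = true := List.all_eq_true.2 fun w hw => List.all_eq_true.2 fun a ha =>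
    Nat.ble_eq_true_of_le (by have := mem_normalWords p _ _ w hw a ha; omega)
  have hBr : LB.all (inRange D) = true := List.all_eq_true.2 fun w hw => List.all_eq_true.2 fun a ha =>
    Nat.ble_eq_true_of_le (by have := mem_normalWords p _ _ w hw a ha; omega)
  have hAc : LA = [] :: LA.tail := normalWords_cons p hp _ _
  have hBc : LB = [] :: LB.tail := normalWords_cons p hp _ _
  have hAn : ([] : List ℕ) ∈ LA := by rw [hAc]; exact List.mem_cons_self
  have hBn : ([] : List ℕ) ∈ LB := by rw [hBc]; exact List.mem_cons_self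
  have hnd := wordsNodup hD hkeys
  rw [List.map_append, List.nodup_append] at hnd
  obtain ⟨hndA, hndB', hdisj⟩ := hnd
  have hndB : (LB.map (ev x)).Nodup := by
    rw [hBc, List.map_cons, List.nodup_cons]
    refine ⟨fun hmem => ?_, hndB'⟩
    exact hdisj _ (List.mem_map.2 ⟨[], hAn, rfl⟩) _ hmem rfl
  set A := tailSubgroup x k m
  set B := tailSubgroup x n k
  have hmeet : ∀ g ∈ A, g ∈ B → g = 1 := by
    intro g ga gb
    obtain ⟨u, hu, eu⟩ := mem_closed hD hAr hAn hA ga
    obtain ⟨v, hv, ev'⟩ := mem_closed hD hBr hBn hB gb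
    rw [hBc] at hv
    rcases List.mem_cons.1 hv with rfl | hv'
    · exact ev'.symm
    · exact absurd (eu.trans ev'.symm) (hdisj _ (List.mem_map.2 ⟨u, hu, rfl⟩) _
        (List.mem_map.2 ⟨v, hv', rfl⟩))
  let f : Fin LA.length × Fin LB.length → tailSubgroup x n m := fun q =>
    ⟨ev x LA[q.1.val] * ev x LB[q.2.val], mul_mem
      (Schur.Pc.ev_mem x fun a ha => by
        have := mem_normalWords p _ _ _ (List.getElem_mem (l := LA) q.1.isLt) a ha
        exact Schur.Pc.gen_mem_tailSubgroup x this.1 (by omega))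
      (Schur.Pc.ev_mem x fun a ha => by
        have := mem_normalWords p _ _ _ (List.getElem_mem (l := LB) q.2.isLt) a ha
        exact Schur.Pc.gen_mem_tailSubgroup x (by omega) (by omega))⟩
  have hf : Function.Injective f := by
    rintro ⟨i, j⟩ ⟨i', j'⟩ e
    have e' : ev x LA[i.val] * ev x LB[j.val] = ev x LA[i'.val] * ev x LB[j'.val] :=
      congrArg Subtype.val e
    have inA : ∀ i : Fin LA.length, ev x LA[i.val] ∈ A := fun i =>
      tail_mem (by omega) p _ (List.getElem_mem _)
    have inB : ∀ i : Fin LB.length, ev x LB[i.val] ∈ B := fun i =>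
      tail_mem (by omega) p _ (List.getElem_mem _)
    have e2 : (ev x LA[i'.val])⁻¹ * ev x LA[i.val] = ev x LB[j'.val] * (ev x LB[j.val])⁻¹ := by
      rw [inv_mul_eq_iff_eq_mul, ← mul_assoc, eq_mul_inv_iff_mul_eq]; exact e'
    have h1 := hmeet _ (mul_mem (inv_mem (inA i')) (inA i)) (e2 ▸ mul_mem (inB j') (inv_mem (inB j)))
    have hi : i = i' := Fin.ext ((hndA.getElem_inj_iff (hi := by simp) (hj := by simp)).1
      (by simpa using (inv_mul_eq_one.1 h1).symm))
    rw [h1] at e2
    have hj : j = j' := Fin.ext ((hndB.getElem_inj_iff (hi := by simp) (hj := by simp)).1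
      (by simpa using (mul_inv_eq_one.1 e2.symm).symm))
    rw [hi, hj]
  have hc := Nat.card_le_card_of_injective f hf
  rw [Nat.card_prod, Nat.card_fin, Nat.card_fin, hLA, hLB, Schur.Pc.length_normalWords,
    Schur.Pc.length_normalWords, ← pow_add] at hc
  rwa [show n - m = k - m + (n - k) by omega]

/-- The first letters move the letter `k0` of the commutative rest to distinct places. -/
noncomputable def splitOK (D : List (Rows × Rows)) (C : Schur.Pc.Cert) (m k0 : ℕ) : Bool :=
  Nat.ble m k0 && Nat.blt k0 C.n &&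
    ((List.range (C.n - m)).all fun a => (List.range a).all fun b =>
      same D [m + a, m + b] [m + b, m + a]) &&
    ((normalWords C.p m 0).all fun w =>
      same D (k0 :: w) (w ++ pushed C w k0) &&
        (pushed C w k0).all fun c => Nat.ble m c && Nat.blt c C.n) &&
    distinctB ((normalWords C.p m 0).map fun w => keyN (wordSt D (pushed C w k0)))

theorem card_ge_split {D : List (Rows × Rows)} (hD : D.all matOK = true) (C : Schur.Pc.Cert)
    (m k k0 : ℕ) (hp : 0 < C.p) (hmk : m ≤ k) (hkn : k ≤ C.n) (hlen : C.n ≤ D.length)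
    (hblock : blockOK D C.p m k C.n = true) (h : splitOK D C m k0 = true) :
    C.p ^ C.n ≤ Nat.card (tailSubgroup (elsOf D) C.n 0) := by
  haveI : Finite Co0 := co0_finite
  simp only [splitOK, Bool.and_eq_true, List.all_eq_true, List.mem_range, Nat.ble_eq, Nat.blt_eq] at h
  obtain ⟨⟨⟨⟨hk1, hk2⟩, hcomm⟩, hpush⟩, hdist⟩ := h
  set x := elsOf D with hx
  set A := tailSubgroup x C.n m with hAdef
  have hcA := card_ge_block hD hp hmk hkn hlen hblock
  have hgen : ∀ a ∈ x '' Set.Ico m C.n, ∀ b ∈ x '' Set.Ico m C.n, a * b = b * a := by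
    have key : ∀ i j, m ≤ j → j < i → i < C.n → x i * x j = x j * x i := fun i j h1 h2 h3 => by
      have e := ev_eq_of_same hD (hcomm (i - m) (by omega) (j - m) (by omega))
      rw [Schur.Pc.ev_cons, Schur.Pc.ev_cons, Schur.Pc.ev_cons, Schur.Pc.ev_cons, Schur.Pc.ev_nil,
        mul_one, mul_one, show m + (i - m) = i by omega, show m + (j - m) = j by omega] at e
      exact e
    rintro _ ⟨i, ⟨hi1, hi2⟩, rfl⟩ _ ⟨j, ⟨hj1, hj2⟩, rfl⟩
    rcases Nat.lt_trichotomy i j with hij | hij | hij
    · exact (key j i hi1 hij hj2).symm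
    · rw [hij]
    · exact key i j hj1 hij hi2
  have hAc : ∀ a ∈ A, ∀ b ∈ A, a * b = b * a := fun a ha b hb => by
    have := Subgroup.isMulCommutative_closure hgen
    exact congrArg Subtype.val (this.is_comm.comm (⟨a, ha⟩ : A) ⟨b, hb⟩)
  set L := normalWords C.p m 0 with hL
  let f : Fin L.length × A → tailSubgroup x C.n 0 := fun q =>
    ⟨ev x L[q.1.val] * q.2, mul_mem (Schur.Pc.ev_mem x fun a ha => by
      have := mem_normalWords C.p m 0 _ (List.getElem_mem (l := L) q.1.isLt) a ha
      exact Schur.Pc.gen_mem_tailSubgroup x (Nat.zero_le a) (by omega))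
      (Schur.Pc.tailSubgroup_mono x (Nat.zero_le m) q.2.2)⟩
  have hf : Function.Injective f := by
    rintro ⟨i, a⟩ ⟨j, b⟩ e
    have e' : ev x L[i.val] * (a : Co0) = ev x L[j.val] * (b : Co0) := congrArg Subtype.val e
    have hij : i = j := by
      have key : ∀ w ∈ L, ∀ u ∈ A, x k0 * (ev x w * u) = ev x w * u * ev x (pushed C w k0) := by
        intro w hw u hu
        obtain ⟨h1, h2⟩ := hpush w hw
        have e1 := ev_eq_of_same hD h1
        rw [Schur.Pc.ev_cons, Schur.Pc.ev_append, ← hx] at e1
        rw [← mul_assoc, e1, mul_assoc, mul_assoc]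
        congr 1
        exact hAc _ (Schur.Pc.ev_mem x fun c hc =>
          Schur.Pc.gen_mem_tailSubgroup x (h2 c hc).1 (h2 c hc).2) u hu
      have hwi : L[i.val] ∈ L := List.getElem_mem _
      have hwj : L[j.val] ∈ L := List.getElem_mem _
      have h3 := key _ hwi _ a.2
      rw [e'] at h3
      have h4 := mul_left_cancel (h3.symm.trans (key _ hwj _ b.2))
      have hr : ∀ w ∈ L, inRange D (pushed C w k0) = true := fun w hw => by
        simp only [inRange, List.all_eq_true, Nat.blt_eq]
        intro c hc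
        have := ((hpush w hw).2 c hc).2
        omega
      refine Fin.ext (((nodup_of_distinctB hdist).getElem_inj_iff (hi := by simp) (hj := by simp)).1 ?_)
      simp only [List.getElem_map]
      rw [wordSt_spec hD (hr _ hwi), wordSt_spec hD (hr _ hwj), ← hx, h4]
    subst hij
    exact Prod.ext rfl (Subtype.ext (mul_left_cancel e'))
  have hc := Nat.card_le_card_of_injective f hf
  rw [Nat.card_prod, Nat.card_fin, hL, Schur.Pc.length_normalWords] at hc
  calc C.p ^ C.n = C.p ^ m * C.p ^ (C.n - m) := by rw [← pow_add]; congr 1; omega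
    _ ≤ C.p ^ m * Nat.card A := Nat.mul_le_mul_left _ hcA
    _ ≤ _ := hc

/-- No stem extension kernel of exponent `p` when the certificates check. -/
theorem ker_eq_bot_of_cert {D : List (Rows × Rows)} (hD : D.all matOK = true) (C : Schur.Pc.Cert)
    (hrels : relsOK D C = true) (hcheck : C.check = true) (hp : C.p.Prime)
    (hcard : C.p ^ C.n ≤ Nat.card (tailSubgroup (elsOf D) C.n 0))
    {q : ℕ} (hq : Nat.card Co0 = C.p ^ C.n * q) (hqp : ¬ C.p ∣ q)
    {Γ : Type} [Group Γ] [Finite Γ] (σ : Γ →* Co0) (hσ : Cfsg.IsStemExtension σ)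
    (hexp : ∀ z ∈ σ.ker, z ^ C.p = 1) : σ.ker = ⊥ := by
  haveI : Finite Co0 := co0_finite
  simp only [relsOK, Bool.and_eq_true, List.all_eq_true, List.mem_range] at hrels
  obtain ⟨hrules, hfus⟩ := hrels
  have hr : ∀ l ∈ C.rules, ev (elsOf D) l.1 = ev (elsOf D) l.2 := fun l hl =>
    ev_eq_of_same hD (hrules l hl)
  refine C.ker_eq_bot σ hσ hp hexp hcheck (elsOf D) hr ?_ hcard ?_
  · intro F hF
    obtain ⟨f, hf, rfl⟩ := List.getElem_of_mem hF
    refine ⟨elsOf D (C.n + f), fun s hs => ?_⟩
    have e := ev_eq_of_same hD (hfus f hf s hs)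
    rw [List.getD_eq_getElem _ _ hf, Schur.Pc.ev_cons, Schur.Pc.ev_append, Schur.Pc.ev_cons,
      Schur.Pc.ev_nil, mul_one] at e
    rw [mul_inv_eq_iff_eq_mul, e]
  · have hshape : Schur.Pc.shaped C.p C.n C.rules = true := by
      simp only [Schur.Pc.Cert.check, Bool.and_eq_true] at hcheck
      exact hcheck.1.1
    have hS : Nat.card (tailSubgroup (elsOf D) C.n 0) = C.p ^ C.n :=
      le_antisymm (Schur.Pc.card_tailSubgroup_le _ hshape hr C.n 0 (Nat.zero_add _)) hcard
    have h := Subgroup.index_mul_card (tailSubgroup (elsOf D) C.n 0)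
    rw [hS, hq, Nat.mul_comm] at h
    rwa [Nat.eq_of_mul_eq_mul_left (pow_pos hp.pos _) h]

end CfsgLib.CoOneMult
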